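import Groth.Agent.Lib.DBaseChange.PC
import Groth.Agent.Lib.DMod.PCModule
import Groth.Agent.Lib.DMod.Finite
import Mathlib.Algebra.Category.ModuleCat.Descent
import Mathlib.RingTheory.Localization.Finiteness
import Mathlib.RingTheory.Finiteness.Descent

/-!
Pseudo-coherence descends along jointly faithfully flat families.
-/

set_option autoImplicit false

universe u

open CategoryTheory CategoryTheory.Limits CategoryTheory.Pretriangulated

attribute [local instance] HasDerivedCategory.standard

namespace Groth.Agent.DBaseChange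

variable {A : Type u} [CommRing A]

/-- Cohomology of `toD`. -/
noncomputable def hdEquiv (K : DRing.Cx A) (i : ℤ) :
    (DMod.HH i).obj (DRing.toD K) ≅ K.homology i :=
  (DerivedCategory.homologyFunctorFactors (ModuleCat.{u} A) i).app K

/-- Flat base change of cohomology. -/
noncomputable def homologyExtIso {B : Type u} [CommRing B] (φ : A →+* B) (hφ : φ.Flat)
    (K : DRing.Cx A) (i : ℤ) :
    ((extCx φ).obj K).homology i ≅ (ModuleCat.extendScalars.{u, u, u} φ).obj (K.homology i) :=
  have := ModuleCat.preservesFiniteLimits_extendScalars_of_flat.{u} hφ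
  (K.sc i).mapHomologyIso (ModuleCat.extendScalars.{u, u, u} φ)

/-- A family of flat algebras detecting finiteness and vanishing of modules. -/
structure JointlyFF {ι : Type*} {B : ι → Type u} [∀ j, CommRing (B j)] (φ : ∀ j, A →+* B j) :
    Prop where
  flat : ∀ j, (φ j).Flat
  subsingleton : ∀ M : ModuleCat.{u} A,
    (∀ j, Subsingleton ((ModuleCat.extendScalars.{u, u, u} (φ j)).obj M)) → Subsingleton M
  finite : ∀ M : ModuleCat.{u} A,
    (∀ j, Module.Finite (B j) ((ModuleCat.extendScalars.{u, u, u} (φ j)).obj M)) → Module.Finite A M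

variable {ι : Type*} [Finite ι] {B : ι → Type u} [∀ j, CommRing (B j)] {φ : ∀ j, A →+* B j}

theorem isLE_of_ext (h : JointlyFF φ) (K : DRing.Cx A) (b : ℤ)
    (hK : ∀ j, (DRing.toD ((extCx (φ j)).obj K)).IsLE b) : (DRing.toD K).IsLE b := by
  refine (DMod.isLE_iff _ b).2 fun i hi => ?_
  refine @Equiv.subsingleton _ _ (hdEquiv K i).toLinearEquiv.toEquiv (h.subsingleton _ fun j => ?_)
  have : Subsingleton (Dual.HD (B j) (DRing.toD ((extCx (φ j)).obj K)) i) :=
    (DMod.isLE_iff _ b).1 (hK j) i hi
  exact ((hdEquiv _ i ≪≫ homologyExtIso (φ j) (h.flat j) K i).toLinearEquiv.symm.toEquiv).subsingleton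

theorem finite_top_of_ext (h : JointlyFF φ) (K : DRing.Cx A) (b : ℤ)
    (hb : ∀ j, (DRing.toD ((extCx (φ j)).obj K)).IsLE b)
    (hpc : ∀ j, DRing.IsPseudoCoherent (B j) b (DRing.toD ((extCx (φ j)).obj K))) :
    Module.Finite A (K.homology b) := by
  refine h.finite _ fun j => ?_
  have := hb j
  have := DMod.finite_top (hpc j)
  exact Module.Finite.equiv (hdEquiv _ b ≪≫ homologyExtIso (φ j) (h.flat j) K b).toLinearEquiv

theorem exists_free_hom (K : DRing.Cx A) (b : ℤ) [Module.Finite A (K.homology b)] :
    ∃ (F : DRing.Cx A) (f : F ⟶ K), DRing.VanishesOutside F b b ∧ DRing.TermwiseFiniteFree F ∧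
      Function.Surjective (HomologicalComplex.homologyMap f b) := by
  classical
  obtain ⟨n, s, hs⟩ := Module.Finite.exists_fin (R := A) (M := K.homology b)
  choose z hz using fun t => DMod.homologyπ_surjective K b (s t)
  let g : (Fin n → A) →ₗ[A] K.cycles b := (Pi.basisFun A (Fin n)).constr A z
  let ψ : ModuleCat.of A (Fin n → A) ⟶ K.X b := ModuleCat.ofHom g ≫ K.iCycles b
  have hψ : ∀ k, (ComplexShape.up ℤ).Rel b k → ψ ≫ K.d b k = 0 := fun k _ => by simp [ψ]
  let f := HomologicalComplex.mkHomFromSingle ψ hψ
  refine ⟨_, f, fun i hi => HomologicalComplex.isZero_single_obj_X _ b _ i (by omega), fun i => ?_, ?_⟩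
  · by_cases hi : i = b
    · subst hi
      exact ⟨Module.Finite.equiv
          (HomologicalComplex.singleObjXSelf _ i (ModuleCat.of A (Fin n → A))).toLinearEquiv.symm,
        Module.Free.of_equiv
          (HomologicalComplex.singleObjXSelf _ i (ModuleCat.of A (Fin n → A))).toLinearEquiv.symm⟩
    · have := ModuleCat.subsingleton_of_isZero
        (HomologicalComplex.isZero_single_obj_X (ComplexShape.up ℤ) b (ModuleCat.of A (Fin n → A)) i hi)
      exact DMod.modClass_finiteFree.subsingleton _
  · intro y
    have hy : y ∈ Submodule.span A (Set.range s) := hs ▸ Submodule.mem_top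
    obtain ⟨c, rfl⟩ := (Submodule.mem_span_range_iff_exists_fun A).1 hy
    let x : ((HomologicalComplex.single _ (ComplexShape.up ℤ) b).obj (ModuleCat.of A (Fin n → A))).X b :=
      (HomologicalComplex.singleObjXSelf (ComplexShape.up ℤ) b (ModuleCat.of A (Fin n → A))).inv c
    obtain ⟨w, hw⟩ := DMod.exists_cycle (K := (HomologicalComplex.single _ (ComplexShape.up ℤ) b).obj
      (ModuleCat.of A (Fin n → A))) (j := b) (k := b + 1) (by simp) x (by simp)
    refine ⟨(HomologicalComplex.homologyπ ((HomologicalComplex.single _ (ComplexShape.up ℤ) b).obj (ModuleCat.of A (Fin n → A))) b).hom w, ?_⟩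
    rw [DMod.homologyMap_π]
    have : HomologicalComplex.cyclesMap f b w = g c := by
      apply DMod.iCycles_injective K b
      rw [DMod.iCycles_cyclesMap, hw]
      simp [x, f, ψ, HomologicalComplex.mkHomFromSingle_f]
    rw [this]
    simp [g, Module.Basis.constr_apply_fintype, hz]

theorem pc_descend (h : JointlyFF φ) (K : DRing.Cx A) (m : ℤ)
    (hK : ∀ j, DRing.IsPseudoCoherent (B j) m (DRing.toD ((extCx (φ j)).obj K))) :
    DRing.IsPseudoCoherent A m (DRing.toD K) := by
  have hb : ∀ j, ∃ b, m ≤ b ∧ (DRing.toD ((extCx (φ j)).obj K)).IsLE b := fun j => by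
    obtain ⟨b, hb⟩ := DMod.pc_bddAbove (hK j)
    exact ⟨max b m, le_max_right _ _, (DMod.tS (B j)).isLE_of_le _ b _ (le_max_left _ _)⟩
  choose b hmb hb using hb
  obtain ⟨c, hc⟩ : ∃ c : ℤ, ∀ j, b j ≤ c :=
    let ⟨c, hc⟩ := (Set.finite_range b).bddAbove
    ⟨c, fun j => hc (Set.mem_range_self j)⟩
  suffices H : ∀ (k : ℕ) (K : DRing.Cx A) (c : ℤ), c < m + k →
      (∀ j, (DRing.toD ((extCx (φ j)).obj K)).IsLE c) →
      (∀ j, DRing.IsPseudoCoherent (B j) m (DRing.toD ((extCx (φ j)).obj K))) →
      DRing.IsPseudoCoherent A m (DRing.toD K) from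
    H (c + 1 - m).toNat K c (by omega)
      (fun j => have := hb j; (DMod.tS (B j)).isLE_of_le _ (b j) _ (hc j)) hK
  intro k
  induction k with
  | zero =>
    intro K c hc hle _
    have := isLE_of_ext h K c hle
    exact DMod.pc_of_isLE (n := c) (by omega)
  | succ k ih =>
    intro K c hc hle hpc
    have := isLE_of_ext h K c hle
    by_cases hcm : c < m
    · exact DMod.pc_of_isLE hcm
    have := finite_top_of_ext h K c hle fun j => DMod.pc_mono (by omega) (hpc j)
    obtain ⟨F, f, hF, hFF, hsurj⟩ := exists_free_hom K c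
    obtain ⟨g, t, hT⟩ := DMod.exists_cone_triangle f
    have hFle := DMod.isLE_toD hF
    have hcone : (DRing.toD (CochainComplex.mappingCone f)).IsLE (c - 1) := by
      refine (DMod.cone_isLE_iff _ hT c).2 ⟨fun i hi => ?_, ?_⟩
      · exact ⟨0, (DerivedCategory.isZero_of_isLE (DRing.toD F) c i hi).eq_of_src _ _,
          (DerivedCategory.isZero_of_isLE (DRing.toD K) c i hi).eq_of_src _ _⟩
      · show Epi ((DMod.HH c).map (DerivedCategory.Q.map f))
        have : Epi (HomologicalComplex.homologyMap f c) := (ModuleCat.epi_iff_surjective _).2 hsurj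
        have hn := (DerivedCategory.homologyFunctorFactors (ModuleCat.{u} A) c).hom.naturality f
        have : Epi ((DerivedCategory.Q ⋙ DMod.HH c).map f) := by
          rw [← Category.comp_id ((DerivedCategory.Q ⋙ DMod.HH c).map f),
            ← (DerivedCategory.homologyFunctorFactors (ModuleCat.{u} A) c).hom_inv_id_app K,
            ← Category.assoc, hn, Category.assoc]
          exact epi_comp' (inferInstance : Epi ((DerivedCategory.homologyFunctorFactors (ModuleCat.{u} A) c).hom.app F))
            (epi_comp' this (inferInstance : Epi ((DerivedCategory.homologyFunctorFactors (ModuleCat.{u} A) c).inv.app K)))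
        exact this
    have hcone' : DRing.IsPseudoCoherent A m (DRing.toD (CochainComplex.mappingCone f)) := by
      refine ih _ (c - 1) (by omega) (fun j => ?_) fun j => ?_
      · have := hcone
        refine (DMod.isLE_iff _ _).2 fun i hi => ?_
        have h0 : IsZero ((CochainComplex.mappingCone f).homology i) :=
          (DerivedCategory.isZero_of_isLE (DRing.toD (CochainComplex.mappingCone f)) (c - 1) i hi).of_iso
            (hdEquiv _ i).symm
        exact (DMod.isZero_iff_subsingleton _).1
          ((Functor.map_isZero (ModuleCat.extendScalars.{u, u, u} (φ j)) h0).of_iso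
            (hdEquiv _ i ≪≫ homologyExtIso (φ j) (h.flat j) _ i))
      · obtain ⟨g', t', hT'⟩ := DMod.exists_cone_triangle ((extCx (φ j)).map f)
        exact DMod.pc_of_iso
          (DerivedCategory.Q.mapIso (CochainComplex.mappingCone.mapHomologicalComplexIso f
            (ModuleCat.extendScalars.{u, u, u} (φ j))).symm)
          (DMod.pc_triangle₃ _ hT'
            (DMod.pc_toD (vanishesOutside_ext (φ j) hF) (termwiseFiniteFree_ext (φ j) hFF) _) (hpc j))
    exact DMod.pc_triangle₂ _ hT (DMod.pc_toD hF hFF m) hcone'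

/-- A faithfully flat algebra detects finiteness and vanishing. -/
theorem jointlyFF_of_faithfullyFlat {S : Type u} [CommRing S] (φ : A →+* S) (hφ : φ.FaithfullyFlat) :
    JointlyFF (fun _ : Unit => φ) := by
  refine ⟨fun _ => hφ.flat, fun M hM => ?_, fun M hM => ?_⟩
  · algebraize [φ]
    have h' : Subsingleton (TensorProduct A S M) := hM ()
    exact Module.FaithfullyFlat.lTensor_reflects_triviality A S M
  · algebraize [φ]
    have h' : Module.Finite S (TensorProduct A S M) := hM ()
    exact Module.Finite.of_finite_tensorProduct_of_faithfullyFlat S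

theorem eq_away {S : Type u} [CommRing S] [Algebra A S] (a : A) [IsLocalization.Away a S] :
    @IsLocalization.Away A _ a S _ (algebraMap A S).toAlgebra := by
  have : (algebraMap A S).toAlgebra = ‹Algebra A S› := Algebra.algebra_ext _ _ fun _ => rfl
  rw [this]
  infer_instance

theorem exists_pow_smul {S : Type u} [CommRing S] {_ : Algebra A S} (a : A) [IsLocalization.Away a S]
    (M : Type u) [AddCommGroup M] [Module A M] (h : Subsingleton (TensorProduct A S M)) (x : M) :
    ∃ n : ℕ, a ^ n • x = 0 := by
  have : IsLocalizedModule (Submonoid.powers a) (TensorProduct.mk A S M 1) :=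
    IsLocalization.tensorProduct_isLocalizedModule (Submonoid.powers a) S
  obtain ⟨⟨_, n, rfl⟩, hn⟩ := IsLocalizedModule.exists_of_eq (S := Submonoid.powers a)
    (f := TensorProduct.mk A S M 1) (x₁ := x) (x₂ := 0) (Subsingleton.elim _ _)
  exact ⟨n, by simpa [Submonoid.smul_def] using hn⟩

theorem finite_of_away (M : Type u) [AddCommGroup M] [Module A M] (t : Finset A)
    (ht : Ideal.span (t : Set A) = ⊤) (S : t → Type u) [∀ g, CommRing (S g)]
    {i : ∀ g, Algebra A (S g)} [∀ g, IsLocalization.Away g.val (S g)]
    (h : ∀ g, Module.Finite (S g) (TensorProduct A (S g) M)) : Module.Finite A M := by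
  have : ∀ g, IsLocalizedModule.Away g.val (TensorProduct.mk A (S g) M 1) :=
    fun g => IsLocalization.tensorProduct_isLocalizedModule (Submonoid.powers g.val) (S g)
  exact Module.Finite.of_localizationSpan_finite' t ht (fun g => TensorProduct.mk A (S g) M 1) h

theorem jointlyFF_away {r : ℕ} (f : Fin r → A) (hf : Ideal.span (Set.range f) = ⊤) :
    JointlyFF (fun j => algebraMap A (Localization.Away (f j))) := by
  refine ⟨fun j => RingHom.flat_algebraMap_iff.2
    (IsLocalization.flat _ (Submonoid.powers (f j))), fun M hM => ?_, fun M hM => ?_⟩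
  · refine subsingleton_of_forall_eq 0 fun x => ?_
    refine (Submodule.mem_bot A).1
      (Submodule.mem_of_span_eq_top_of_smul_pow_mem ⊥ (Set.range f) hf x fun ⟨_, j, rfl⟩ => ?_)
    have := eq_away (S := Localization.Away (f j)) (f j)
    obtain ⟨n, hn⟩ := @exists_pow_smul A _ _ _
      (algebraMap A (Localization.Away (f j))).toAlgebra (f j) this M _ _ (hM j) x
    exact ⟨n, (Submodule.mem_bot A).2 hn⟩
  · classical
    have ht : Ideal.span ((Finset.univ.image f : Finset A) : Set A) = ⊤ := by simpa using hf
    have hg : ∀ g : (Finset.univ.image f : Finset A), ∃ j, f j = g.val := fun g => by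
      obtain ⟨j, -, hj⟩ := Finset.mem_image.1 g.2
      exact ⟨j, hj⟩
    choose j hj using hg
    have hloc : ∀ g, @IsLocalization.Away A _ g.val (Localization.Away (f (j g))) _
        (algebraMap A (Localization.Away (f (j g)))).toAlgebra := fun g => by
      have := eq_away (S := Localization.Away (f (j g))) (f (j g))
      exact (hj g) ▸ this
    exact @finite_of_away A _ M _ _ _ ht (fun g => Localization.Away (f (j g))) _
      (fun g => (algebraMap A (Localization.Away (f (j g)))).toAlgebra) hloc fun g => hM (j g)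

end Groth.Agent.DBaseChange
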