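import Groth.Agent.Lib.DBaseChange.Value
import Groth.Agent.Lib.KFlat.DTen
import Groth.Prelude.Def_DRing4
import Mathlib.RingTheory.TensorProduct.Free
import Mathlib.LinearAlgebra.TensorProduct.Pi
import Mathlib.LinearAlgebra.DFinsupp
import Mathlib.Data.Int.Interval
import Mathlib.Algebra.Module.Projective

/-!
The value of `- ⊗^L E` on K-flat complexes; strictly perfect and flat representatives.
-/

set_option autoImplicit false
set_option linter.unusedSectionVars false

universe u

open CategoryTheory CategoryTheory.Limits MonoidalCategory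

attribute [local instance] HasDerivedCategory.standard

namespace Groth.Agent.DBaseChange

open KFlat KFlat.Module

variable {R : Type u} [CommRing R]

theorem quasiIso_whiskerRight_of_kFlat (E : DRing.Cx R) {K K' : DRing.Cx R} (f : K ⟶ K') [QuasiIso f]
    (hK : DRing.IsKFlat R K) (hK' : DRing.IsKFlat R K') : QuasiIso (f ▷ E) := by
  have := DT.quasiIso_whiskerLeft' f hK hK' E
  have h : f ▷ E = (DTen.braidCx K E).hom ≫ E ◁ f ≫ (DTen.braidCx K' E).inv := by
    have e := DTen.braidCx_naturality f (𝟙 E)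
    rw [MonoidalCategory.tensorHom_id, MonoidalCategory.id_tensorHom] at e
    rw [← reassoc_of% e, Iso.hom_inv_id, Category.comp_id]
  rw [h]
  infer_instance

theorem isIso_lTensorCx_counit (E : DRing.Cx R) [DRing.HasLTensorCx R E] {K : DRing.Cx R}
    (hK : DRing.IsKFlat R K) :
    IsIso (((DRing.tensorCxQ R E).totalLeftDerivedCounit DerivedCategory.Q
      (HomologicalComplex.quasiIso (ModuleCat.{u} R) (ComplexShape.up ℤ))).app K) :=
  KFlat.isIso_counit (W := DTen.qis R) (DT.res R) (DT.aug R) DT.qis_aug (DRing.tensorCxQ R E)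
    (DRing.IsKFlat R) DT.isKFlat_res
    (fun {K K'} f hf hK hK' =>
      have : QuasiIso f := hf
      have := quasiIso_whiskerRight_of_kFlat E f hK hK'
      inferInstanceAs (IsIso (DerivedCategory.Q.map (f ▷ E))))
    DerivedCategory.Q (DRing.LTensorCx R E) _ K hK

/-- `K ⊗^L E` is the tensor product when `K` is K-flat. -/
theorem nonempty_lTensorCx_iso (E : DRing.Cx R) [DRing.HasLTensorCx R E] {K : DRing.Cx R}
    (hK : DRing.IsKFlat R K) :
    Nonempty ((DRing.LTensorCx R E).obj (DRing.toD K) ≅ DRing.toD (K ⊗ E)) :=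
  have := isIso_lTensorCx_counit E hK
  ⟨@asIso _ _ _ _ (((DRing.tensorCxQ R E).totalLeftDerivedCounit DerivedCategory.Q
      (HomologicalComplex.quasiIso (ModuleCat.{u} R) (ComplexShape.up ℤ))).app K) this⟩

theorem isKFlat_of_boundedAbove (K : DRing.Cx R) (b : ℤ) [K.IsStrictlyLE b]
    (hK : ∀ i, _root_.Module.Flat R (K.X i)) : DRing.IsKFlat R K :=
  (Module.isKFlat_iff K).1
    (KFlat.isKFlat_of_boundedAbove_flat K b fun i => (Module.isFlat_iff _).2 (hK i))

variable {B : Type u} [CommRing B] (φ : R →+* B)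

theorem termwiseFiniteProjective_ext {E : DRing.Cx R} (h : DRing.TermwiseFiniteProjective E) :
    DRing.TermwiseFiniteProjective ((extCx φ).obj E) := fun i => by
  letI := φ.toAlgebra
  have := (h i).1
  have := (h i).2
  exact ⟨inferInstanceAs (_root_.Module.Finite B (TensorProduct R B (E.X i))),
    inferInstanceAs (_root_.Module.Projective B (TensorProduct R B (E.X i)))⟩

theorem termwiseFlat_ext {E : DRing.Cx R} (h : DRing.TermwiseFlat E) :
    DRing.TermwiseFlat ((extCx φ).obj E) := fun i => by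
  letI := φ.toAlgebra
  have := h i
  exact inferInstanceAs (_root_.Module.Flat B (TensorProduct R B (E.X i)))

theorem vanishesOutside_extCx {E : DRing.Cx R} {a b : ℤ} (h : DRing.VanishesOutside E a b) :
    DRing.VanishesOutside ((extCx φ).obj E) a b :=
  fun i hi => Functor.map_isZero (ModuleCat.extendScalars.{u, u, u} φ) (h i hi)

theorem isPerfect_lBaseChange [DRing.HasLBaseChange φ] {K : Dual.D R} (hK : DRing.IsPerfect R K) :
    DRing.IsPerfect B ((DRing.LBaseChange φ).obj K) := by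
  obtain ⟨E, a, b, hb, hE, ⟨e⟩⟩ := hK
  have := ((DMod.vanishesOutside_iff E a b).1 hb).2
  exact ⟨(extCx φ).obj E, a, b, vanishesOutside_extCx φ hb, termwiseFiniteProjective_ext φ hE,
    ⟨(valueIso φ E (adapted_of_flat E b fun i => have := (hE i).2; inferInstance)).symm ≪≫
      (DRing.LBaseChange φ).mapIso e⟩⟩

theorem hasTorAmplitudeIn_lBaseChange [DRing.HasLBaseChange φ] {K : Dual.D R} {a b : ℤ}
    (hK : DRing.HasTorAmplitudeIn R a b K) :
    DRing.HasTorAmplitudeIn B a b ((DRing.LBaseChange φ).obj K) := by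
  obtain ⟨E, hb, hE, ⟨e⟩⟩ := hK
  have := ((DMod.vanishesOutside_iff E a b).1 hb).2
  exact ⟨(extCx φ).obj E, vanishesOutside_extCx φ hb, termwiseFlat_ext φ hE,
    ⟨(valueIso φ E (adapted_of_flat E b hE)).symm ≪≫ (DRing.LBaseChange φ).mapIso e⟩⟩

/-! ### Tensor products of bounded complexes -/

theorem isZero_tensor_X {K L : DRing.Cx R} (n : ℤ)
    (h : ∀ i j, i + j = n → IsZero (K.X i) ∨ IsZero (L.X j)) : IsZero ((K ⊗ L).X n) := by
  rw [IsZero.iff_id_eq_zero]
  refine HomologicalComplex.mapBifunctor.hom_ext fun i j hij => ?_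
  rcases h i j hij with hK | hL
  · exact (Functor.map_isZero (tensorRight (L.X j)) hK).eq_of_src _ _
  · exact (Functor.map_isZero (tensorLeft (K.X i)) hL).eq_of_src _ _

/-- The component of the tensor product at `(p, n - p)`. -/
noncomputable def comp (K L : DRing.Cx R) (n p : ℤ) :
    (K ⊗ L).X n ⟶ K.X p ⊗ L.X (n - p) :=
  HomologicalComplex.mapBifunctorDesc fun i j (h : i + j = n) =>
    if e : i = p then
      eqToHom (show K.X i ⊗ L.X j = K.X p ⊗ L.X (n - p) by subst e; rw [show n - i = j by omega])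
    else 0

theorem ι_comp_self (K L : DRing.Cx R) (n p : ℤ) :
    HomologicalComplex.ιTensorObj K L p (n - p) n (by omega) ≫ comp K L n p = 𝟙 _ := by
  refine (HomologicalComplex.ι_mapBifunctorDesc _ _ _ _).trans ?_
  rw [dif_pos rfl]
  rfl

theorem ι_comp_ne (K L : DRing.Cx R) (n p q : ℤ) (h : q ≠ p) :
    HomologicalComplex.ιTensorObj K L q (n - q) n (by omega) ≫ comp K L n p = 0 := by
  refine (HomologicalComplex.ι_mapBifunctorDesc _ _ _ _).trans ?_
  rw [dif_neg h]

/-- A degree of a tensor product with finitely many nonzero summands. -/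
theorem exists_equiv_pi (K L : DRing.Cx R) (n : ℤ) (S : Finset ℤ)
    (hS : ∀ p, p ∉ S → IsZero (K.X p) ∨ IsZero (L.X (n - p))) :
    Nonempty (((K ⊗ L).X n : Type u) ≃ₗ[R] ((p : S) → (K.X p.1 ⊗ L.X (n - p.1) : ModuleCat.{u} R))) := by
  let s : (K ⊗ L).X n →ₗ[R] ((p : S) → (K.X p.1 ⊗ L.X (n - p.1) : ModuleCat.{u} R)) :=
    LinearMap.pi fun p => (comp K L n p.1).hom
  let r : ((p : S) → (K.X p.1 ⊗ L.X (n - p.1) : ModuleCat.{u} R)) →ₗ[R] (K ⊗ L).X n :=
    ∑ p : S, (HomologicalComplex.ιTensorObj K L p.1 (n - p.1) n (by omega)).hom ∘ₗ LinearMap.proj p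
  have hr : ∀ v, r v =
      ∑ p : S, HomologicalComplex.ιTensorObj K L p.1 (n - p.1) n (by omega) (v p) := fun v => by
    simp [r]
  refine ⟨LinearEquiv.ofLinearMap s r (LinearMap.ext fun v => funext fun q => ?_) ?_⟩
  · change comp K L n q.1 (r v) = v q
    rw [hr, map_sum, Finset.sum_eq_single q (fun p _ hp => ?_) (fun h => absurd (Finset.mem_univ q) h)]
    · exact congrArg (fun t => t.hom (v q)) (ι_comp_self K L n q.1)
    · exact congrArg (fun t => t.hom (v p)) (ι_comp_ne K L n q.1 p.1 fun e => hp (Subtype.ext e))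
  · suffices h : ModuleCat.ofHom (r ∘ₗ s) = 𝟙 ((K ⊗ L).X n) from congrArg ModuleCat.Hom.hom h
    refine HomologicalComplex.mapBifunctor.hom_ext fun i j (hij : i + j = n) => ?_
    obtain rfl : j = n - i := by omega
    by_cases hi : i ∈ S
    · ext x
      change r (s (HomologicalComplex.ιTensorObj K L i (n - i) n hij x)) =
        HomologicalComplex.ιTensorObj K L i (n - i) n hij x
      rw [hr, Finset.sum_eq_single (⟨i, hi⟩ : S) (fun p _ hp => ?_)
        (fun h => absurd (Finset.mem_univ _) h)]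
      · exact congrArg (fun t => HomologicalComplex.ιTensorObj K L i (n - i) n hij t)
          (congrArg (fun t => t.hom x) (ι_comp_self K L n i))
      · exact (congrArg (fun t => HomologicalComplex.ιTensorObj K L p.1 (n - p.1) n (by omega) t)
          (congrArg (fun t => t.hom x) (ι_comp_ne K L n p.1 i fun e => hp (Subtype.ext e.symm)))).trans
            (map_zero _)
    · rcases hS i hi with h | h
      · exact (Functor.map_isZero (tensorRight (L.X (n - i))) h).eq_of_src _ _
      · exact (Functor.map_isZero (tensorLeft (K.X i)) h).eq_of_src _ _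

theorem finiteProjective_tensor {K L : DRing.Cx R} (n : ℤ) (S : Finset ℤ)
    (hS : ∀ p, p ∉ S → IsZero (K.X p) ∨ IsZero (L.X (n - p)))
    (hK : DRing.TermwiseFiniteProjective K) (hL : DRing.TermwiseFiniteProjective L) :
    _root_.Module.Finite R ((K ⊗ L).X n) ∧ _root_.Module.Projective R ((K ⊗ L).X n) := by
  obtain ⟨e⟩ := exists_equiv_pi K L n S hS
  have (i : ℤ) := (hK i).1
  have (i : ℤ) := (hK i).2
  have (i : ℤ) := (hL i).1
  have (i : ℤ) := (hL i).2
  have : ∀ p : S, _root_.Module.Finite R (K.X p.1 ⊗ L.X (n - p.1) : ModuleCat.{u} R) := fun p =>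
    inferInstanceAs (_root_.Module.Finite R (TensorProduct R (K.X p.1) (L.X (n - p.1))))
  have : ∀ p : S, _root_.Module.Projective R (K.X p.1 ⊗ L.X (n - p.1) : ModuleCat.{u} R) := fun p =>
    inferInstanceAs (_root_.Module.Projective R (TensorProduct R (K.X p.1) (L.X (n - p.1))))
  have := _root_.Module.Projective.of_equiv (DFinsupp.linearEquivFunOnFintype (R := R)
    (M := fun p : S => (K.X p.1 ⊗ L.X (n - p.1) : ModuleCat.{u} R)))
  exact ⟨_root_.Module.Finite.equiv e.symm, _root_.Module.Projective.of_equiv e.symm⟩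

theorem finiteFree_tensor {K L : DRing.Cx R} (n : ℤ) (S : Finset ℤ)
    (hS : ∀ p, p ∉ S → IsZero (K.X p) ∨ IsZero (L.X (n - p)))
    (hK : DRing.TermwiseFiniteFree K) (hL : DRing.TermwiseFiniteFree L) :
    _root_.Module.Finite R ((K ⊗ L).X n) ∧ _root_.Module.Free R ((K ⊗ L).X n) := by
  obtain ⟨e⟩ := exists_equiv_pi K L n S hS
  have (i : ℤ) := (hK i).1
  have (i : ℤ) := (hK i).2
  have (i : ℤ) := (hL i).1
  have (i : ℤ) := (hL i).2
  have : ∀ p : S, _root_.Module.Finite R (K.X p.1 ⊗ L.X (n - p.1) : ModuleCat.{u} R) := fun p =>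
    inferInstanceAs (_root_.Module.Finite R (TensorProduct R (K.X p.1) (L.X (n - p.1))))
  have : ∀ p : S, _root_.Module.Free R (K.X p.1 ⊗ L.X (n - p.1) : ModuleCat.{u} R) := fun p =>
    inferInstanceAs (_root_.Module.Free R (TensorProduct R (K.X p.1) (L.X (n - p.1))))
  exact ⟨_root_.Module.Finite.equiv e.symm, _root_.Module.Free.of_equiv e.symm⟩

theorem nonempty_lTensorCx_obj_iso {K : Dual.D R} (L : DRing.Cx R) [DRing.HasLTensorCx R L]
    {E F : DRing.Cx R} (e : DRing.toD E ≅ K) (hE : DRing.IsKFlat R E) (f : DRing.toD F ≅ DRing.toD L)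
    (hF : F.IsKProjective) : Nonempty (DRing.toD (E ⊗ F) ≅ (DRing.LTensorCx R L).obj K) := by
  obtain ⟨g, hg⟩ := Groth.Agent.DMod.exists_map_eq f.hom
  have : QuasiIso g := by
    rw [← DerivedCategory.isIso_Q_map_iff_quasiIso, hg]
    infer_instance
  have := DT.quasiIso_whiskerLeft g hE
  obtain ⟨a⟩ := nonempty_lTensorCx_iso L hE
  exact ⟨asIso (DerivedCategory.Q.map (E ◁ g)) ≪≫ a.symm ≪≫ (DRing.LTensorCx R L).mapIso e⟩

theorem isPerfect_lTensorCx {K : Dual.D R} (hK : DRing.IsPerfect R K) (L : DRing.Cx R)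
    (hL : DRing.IsPerfect R (DRing.toD L)) [DRing.HasLTensorCx R L] :
    DRing.IsPerfect R ((DRing.LTensorCx R L).obj K) := by
  obtain ⟨E, a, b, hb, hE, ⟨e⟩⟩ := hK
  obtain ⟨F, c, d, hd, hF, ⟨f⟩⟩ := hL
  have := ((DMod.vanishesOutside_iff E a b).1 hb).2
  have := ((DMod.vanishesOutside_iff F c d).1 hd).2
  obtain ⟨t⟩ := nonempty_lTensorCx_obj_iso L e
    (isKFlat_of_boundedAbove E b fun i => have := (hE i).2; inferInstance) f
    (DMod.isKProjective d fun i => (hF i).2)
  refine ⟨E ⊗ F, a + c, b + d, fun n hn => isZero_tensor_X n fun i j hij => ?_,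
    fun n => finiteProjective_tensor n (Finset.Icc a b) (fun p hp => Or.inl (hb p ?_)) hE hF, ⟨t⟩⟩
  · by_cases h : i < a ∨ b < i
    · exact Or.inl (hb i h)
    · exact Or.inr (hd j (by omega))
  · simp only [Finset.mem_Icc] at hp
    omega

theorem isPseudoCoherent'_lTensorCx {K : Dual.D R} (hK : DRing.IsPseudoCoherent' R K) (L : DRing.Cx R)
    (hL : DRing.IsPseudoCoherent' R (DRing.toD L)) [DRing.HasLTensorCx R L] :
    DRing.IsPseudoCoherent' R ((DRing.LTensorCx R L).obj K) := by
  obtain ⟨E, b, hb, hE, ⟨e⟩⟩ := hK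
  obtain ⟨F, d, hd, hF, ⟨f⟩⟩ := hL
  have := (DMod.vanishesAbove_iff E b).1 hb
  have := (DMod.vanishesAbove_iff F d).1 hd
  obtain ⟨t⟩ := nonempty_lTensorCx_obj_iso L e
    (isKFlat_of_boundedAbove E b fun i => have := (hE i).2; inferInstance) f
    (DMod.isKProjective d fun i => have := (hF i).2; inferInstance)
  refine ⟨E ⊗ F, b + d, fun n hn => isZero_tensor_X n fun i j hij => ?_,
    fun n => finiteFree_tensor n (Finset.Icc (n - d) b) (fun p hp => ?_) hE hF, ⟨t⟩⟩
  · by_cases h : b < i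
    · exact Or.inl (hb i h)
    · exact Or.inr (hd j (by omega))
  · simp only [Finset.mem_Icc] at hp
    by_cases h : b < p
    · exact Or.inl (hb p h)
    · exact Or.inr (hd (n - p) (by omega))

end Groth.Agent.DBaseChange
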