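import Groth.Agent.Lib.DBaseChange.TorTri
import Groth.Agent.Lib.DBaseChange.Descent
import Groth.Agent.Lib.DBaseChange.TensorValue
import Mathlib.Algebra.Category.ModuleCat.Monoidal.Adjunction
import Mathlib.RingTheory.Flat.Stability

/-!
Tor amplitude and perfectness descend along jointly faithfully flat families.
-/

set_option autoImplicit false

universe u

open CategoryTheory CategoryTheory.Limits MonoidalCategory

attribute [local instance] HasDerivedCategory.standard

namespace Groth.Agent.DBaseChange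

variable {A : Type u} [CommRing A]

theorem flat_ext_of_flat {B : Type u} [CommRing B] (φ : A →+* B) (X : ModuleCat.{u} A)
    [Module.Flat A X] : Module.Flat B ((ModuleCat.extendScalars.{u, u, u} φ).obj X) := by
  letI := φ.toAlgebra
  exact inferInstanceAs (Module.Flat B (TensorProduct A B X))

/-- Base change commutes with the termwise tensor products. -/
noncomputable def tmExtIso {B : Type u} [CommRing B] (φ : A →+* B) (M : ModuleCat.{u} A)
    (P : DRing.Cx A) :
    (tm ((ModuleCat.extendScalars.{u, u, u} φ).obj M)).obj ((extCx φ).obj P) ≅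
      (extCx φ).obj ((tm M).obj P) :=
  (NatIso.mapHomologicalComplex
    (Functor.Monoidal.commTensorRight (ModuleCat.extendScalars.{u, u, u} φ) M)
    (ComplexShape.up ℤ)).app P

theorem quasiIso_ext_of_flat {B : Type u} [CommRing B] {φ : A →+* B} (hφ : φ.Flat) {P Q : DRing.Cx A}
    (f : P ⟶ Q) [QuasiIso f] : QuasiIso ((extCx φ).map f) := by
  have := ModuleCat.preservesFiniteLimits_extendScalars_of_flat.{u} hφ
  infer_instance

variable {ι : Type*} [Finite ι] {B : ι → Type u} [∀ j, CommRing (B j)] {φ : ∀ j, A →+* B j}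

theorem torAmp_descend (h : JointlyFF φ) (K : DRing.Cx A) (a b : ℤ)
    (hK : ∀ j, DRing.HasTorAmplitudeIn (B j) a b (DRing.toD ((extCx (φ j)).obj K))) :
    DRing.HasTorAmplitudeIn A a b (DRing.toD K) := by
  have : (DRing.toD K).IsLE b := isLE_of_ext h K b fun j => by
    obtain ⟨E, hv, -, ⟨e⟩⟩ := hK j
    have := DMod.isLE_toD hv
    exact DMod.exists_iso_of_isLE _ b e
  obtain ⟨F, hF, hFf, ⟨e⟩⟩ := DMod.exists_free_resolution (DRing.toD K) b
  have hFp : ∀ i, Module.Projective A (F.X i) := fun i => have := hFf i; inferInstance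
  have := DMod.isKProjective b hFp
  obtain ⟨g, hg⟩ := DMod.exists_map_eq e.hom
  have : QuasiIso g := by
    rw [← DerivedCategory.isIso_Q_map_iff_quasiIso, hg]; infer_instance
  refine hasTorAmplitudeIn_of_iso e (hasTorAmplitudeIn_of_torBound F b (flat_of_free hFf) a b ?_)
  intro M
  have key : ∀ j, (DRing.toD ((extCx (φ j)).obj ((tm M).obj F))).IsGE a ∧
      (DRing.toD ((extCx (φ j)).obj ((tm M).obj F))).IsLE b := fun j => by
    have := quasiIso_ext_of_flat (h.flat j) g
    have : ((extCx (φ j)).obj F).IsStrictlyLE b := by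
      rw [CochainComplex.isStrictlyLE_iff]
      exact fun i hi => Functor.map_isZero (ModuleCat.extendScalars.{u, u, u} (φ j)) (F.isZero_of_isStrictlyLE b i hi)
    have hb := torBound_of_hasTorAmplitudeIn ((extCx (φ j)).obj F) b
      (fun i => have := flat_of_free hFf i; flat_ext_of_flat (φ j) (F.X i)) a b
      (hasTorAmplitudeIn_of_iso (asIso (DerivedCategory.Q.map ((extCx (φ j)).map g))).symm (hK j))
      ((ModuleCat.extendScalars.{u, u, u} (φ j)).obj M)
    have := hb.1
    have := hb.2
    exact ⟨(DMod.tS (B j)).isGE_of_iso (DerivedCategory.Q.mapIso (tmExtIso (φ j) M F)) a,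
      DMod.exists_iso_of_isLE _ b (DerivedCategory.Q.mapIso (tmExtIso (φ j) M F))⟩
  refine ⟨(DMod.isGE_iff _ a).2 fun i hi => ?_, isLE_of_ext h _ b fun j => (key j).2⟩
  refine @Equiv.subsingleton _ _ (hdEquiv _ i).toLinearEquiv.toEquiv (h.subsingleton _ fun j => ?_)
  have := (DMod.isGE_iff _ a).1 (key j).1 i hi
  exact ((hdEquiv _ i ≪≫ homologyExtIso (φ j) (h.flat j) _ i).toLinearEquiv.symm.toEquiv).subsingleton

theorem isPerfect_descend (h : JointlyFF φ) (K : DRing.Cx A)
    (hK : ∀ j, DRing.IsPerfect (B j) (DRing.toD ((extCx (φ j)).obj K))) :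
    DRing.IsPerfect A (DRing.toD K) := by
  choose a b hab using fun j => torAmp_of_isPerfect (hK j)
  obtain ⟨c, hc⟩ := (Set.finite_range a).bddBelow
  obtain ⟨d, hd⟩ := (Set.finite_range b).bddAbove
  refine isPerfect_of_pc_of_torAmp ((DMod.pc'_iff _).2 fun m => pc_descend h K m fun j =>
      (DMod.pc'_iff _).1 (DMod.pc'_of_perfect (hK j)) m)
    (torAmp_descend h K c d fun j =>
      hasTorAmplitudeIn_mono (hc (Set.mem_range_self j)) (hd (Set.mem_range_self j)) (hab j))

end Groth.Agent.DBaseChange
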