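import Groth.Agent.Lib.DBaseChange.TorAmp
import Groth.Agent.Lib.DMod.PCHomology

/-!
Tor amplitude and perfectness in triangles, retracts and dévissage.
-/

set_option autoImplicit false
set_option linter.unusedSectionVars false

universe u

open CategoryTheory CategoryTheory.Limits CategoryTheory.Pretriangulated MonoidalCategory

attribute [local instance] HasDerivedCategory.standard

namespace Groth.Agent.DBaseChange

open DMod

variable {R : Type u} [CommRing R]

/-- The cone of the termwise tensor product. -/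
theorem nonempty_tm_cone_iso (M : ModuleCat.{u} R) {P Q : DRing.Cx R} (f : P ⟶ Q) :
    Nonempty ((tm M).obj (CochainComplex.mappingCone f) ≅ CochainComplex.mappingCone ((tm M).map f)) :=
  ⟨CochainComplex.mappingCone.mapHomologicalComplexIso f (tensorRight M)⟩

theorem hasTorAmplitudeIn_mono {K : Dual.D R} {a b a' b' : ℤ} (ha : a' ≤ a) (hb : b ≤ b')
    (h : DRing.HasTorAmplitudeIn R a b K) : DRing.HasTorAmplitudeIn R a' b' K := by
  obtain ⟨E, hv, hE, e⟩ := h
  exact ⟨E, fun i hi => hv i (by omega), hE, e⟩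

theorem hasTorAmplitudeIn_shift {K : Dual.D R} {a b : ℤ} (n a' b' : ℤ) (ha : a' + n = a)
    (hb : b' + n = b) (h : DRing.HasTorAmplitudeIn R a b K) :
    DRing.HasTorAmplitudeIn R a' b' (K⟦n⟧) := by
  obtain ⟨E, hv, hE, ⟨e⟩⟩ := h
  exact ⟨(shiftFunctor (DRing.Cx R) n).obj E, vanishesOutside_shift hv n a' b' ha hb,
    fun i => hE (i + n),
    ⟨toDShiftIso E n ≪≫ (shiftFunctor (Dual.D R) n).mapIso e⟩⟩

theorem hasTorAmplitudeIn_unshift {K : Dual.D R} {a b : ℤ} (n a' b' : ℤ) (ha : a' + n = a)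
    (hb : b' + n = b) (h : DRing.HasTorAmplitudeIn R a' b' (K⟦n⟧)) :
    DRing.HasTorAmplitudeIn R a b K :=
  hasTorAmplitudeIn_of_iso ((shiftFunctorCompIsoId (Dual.D R) n (-n) (by omega)).app K)
    (hasTorAmplitudeIn_shift (-n) a b (by omega) (by omega) h)

theorem isGE_of_triangle₃ (T : Triangle (Dual.D R)) (hT : T ∈ distTriang _) (n : ℤ)
    (h₁ : T.obj₁.IsGE (n + 1)) (h₂ : T.obj₂.IsGE n) : T.obj₃.IsGE n :=
  (tS R).isGE₂ _ (rot_of_distTriang _ hT) n h₂ ((tS R).isGE_shift _ (n + 1) 1 n (by omega))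

theorem torAmp_triangle₃ (a b : ℤ) (T : Triangle (Dual.D R)) (hT : T ∈ distTriang _)
    (h₁ : DRing.HasTorAmplitudeIn R (a + 1) (b + 1) T.obj₁)
    (h₂ : DRing.HasTorAmplitudeIn R a b T.obj₂) : DRing.HasTorAmplitudeIn R a b T.obj₃ := by
  obtain ⟨E, hEv, hEf, ⟨eE⟩⟩ := h₁
  obtain ⟨Q, hQv, hQf, ⟨eQ⟩⟩ := h₂
  have := ((vanishesOutside_iff E (a + 1) (b + 1)).1 hEv).2
  have := ((vanishesOutside_iff Q a b).1 hQv).2
  have hle : (DRing.toD E).IsLE (b + 1) := isLE_toD hEv
  obtain ⟨P, hP, hPf, ⟨eP⟩⟩ := exists_free_resolution (DRing.toD E) (b + 1)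
  have hPp : ∀ i, _root_.Module.Projective R (P.X i) := fun i => have := hPf i; inferInstance
  have := isKProjective (b + 1) hPp
  obtain ⟨f, hf⟩ := exists_map_eq ((eP ≪≫ eE).hom ≫ T.mor₁ ≫ eQ.inv)
  obtain ⟨g, h, hC⟩ := exists_cone_triangle f
  let e₃ := Triangle.π₃.mapIso (isoTriangleOfIso₁₂ _ T hC hT (eP ≪≫ eE) eQ (by
    change DerivedCategory.Q.map f ≫ eQ.hom = (eP ≪≫ eE).hom ≫ T.mor₁
    rw [hf, Category.assoc, Category.assoc, eQ.inv_hom_id, Category.comp_id]))
  have := cone_isStrictlyLE f (b + 1) b b (by omega) le_rfl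
  refine hasTorAmplitudeIn_of_iso e₃ (hasTorAmplitudeIn_of_torBound (CochainComplex.mappingCone f) b
    (cone_mem modClass_flat f (flat_of_free hPf) hQf) a b fun M => ?_)
  obtain ⟨t⟩ := nonempty_tm_iso M (b + 1) (b + 1) (flat_of_free hPf) hEf eP
  obtain ⟨c⟩ := nonempty_tm_cone_iso M f
  obtain ⟨g', h', hC'⟩ := exists_cone_triangle ((tm M).map f)
  have h1 : (DRing.toD ((tm M).obj P)).IsGE (a + 1) :=
    have := isGE_toD (vanishesOutside_tm M hEv)
    (tS R).isGE_of_iso t.symm (a + 1)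
  have h1' : (DRing.toD ((tm M).obj P)).IsLE (b + 1) :=
    have := isLE_toD (vanishesOutside_tm M hEv)
    exists_iso_of_isLE _ (b + 1) t.symm
  have h2 := isGE_toD (vanishesOutside_tm M hQv)
  have h2' := isLE_toD (vanishesOutside_tm M hQv)
  have h3 : (DRing.toD (CochainComplex.mappingCone ((tm M).map f))).IsGE a :=
    isGE_of_triangle₃ _ hC' a h1 h2
  have h3' : (DRing.toD (CochainComplex.mappingCone ((tm M).map f))).IsLE b :=
    isLE_of_triangle₃ _ hC' b h1' h2'
  exact ⟨(tS R).isGE_of_iso (DerivedCategory.Q.mapIso c.symm) a,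
    exists_iso_of_isLE _ b (DerivedCategory.Q.mapIso c.symm)⟩

theorem torAmp_triangle₂ (a b : ℤ) (T : Triangle (Dual.D R)) (hT : T ∈ distTriang _)
    (h₁ : DRing.HasTorAmplitudeIn R a b T.obj₁)
    (h₃ : DRing.HasTorAmplitudeIn R a b T.obj₃) : DRing.HasTorAmplitudeIn R a b T.obj₂ :=
  torAmp_triangle₃ a b _ (inv_rot_of_distTriang _ hT)
    (hasTorAmplitudeIn_shift (-1) (a + 1) (b + 1) (by omega) (by omega) h₃) h₁

theorem torAmp_triangle₁ (a b : ℤ) (T : Triangle (Dual.D R)) (hT : T ∈ distTriang _)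
    (h₂ : DRing.HasTorAmplitudeIn R (a + 1) (b + 1) T.obj₂)
    (h₃ : DRing.HasTorAmplitudeIn R a b T.obj₃) :
    DRing.HasTorAmplitudeIn R (a + 1) (b + 1) T.obj₁ :=
  torAmp_triangle₂ (a + 1) (b + 1) _ (inv_rot_of_distTriang _ hT)
    (hasTorAmplitudeIn_shift (-1) (a + 1) (b + 1) (by omega) (by omega) h₃) h₂

theorem torAmp_retract {K L : Dual.D R} (i : L ⟶ K) (p : K ⟶ L) (hip : i ≫ p = 𝟙 L) (a b : ℤ)
    (h : DRing.HasTorAmplitudeIn R a b K) : DRing.HasTorAmplitudeIn R a b L := by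
  obtain ⟨E, hEv, hEf, ⟨eE⟩⟩ := h
  have := ((vanishesOutside_iff E a b).1 hEv).2
  have : (DRing.toD E).IsLE b := isLE_toD hEv
  have : K.IsLE b := exists_iso_of_isLE _ b eE
  have : L.IsLE b := by
    rw [isLE_iff]
    intro j hj
    have := (isLE_iff K b).1 inferInstance j hj
    have : IsSplitMono ((HH j).map i) :=
      IsSplitMono.mk' ⟨(HH j).map p, by rw [← Functor.map_comp, hip, CategoryTheory.Functor.map_id]⟩
    exact ((ModuleCat.mono_iff_injective _).1 (inferInstance : Mono ((HH j).map i))).subsingleton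
  obtain ⟨P, hP, hPf, ⟨eP⟩⟩ := exists_free_resolution L b
  obtain ⟨F, hF, hFf, ⟨eF⟩⟩ := exists_free_resolution K b
  have hPp : ∀ i, _root_.Module.Projective R (P.X i) := fun i => have := hPf i; inferInstance
  have hFp : ∀ i, _root_.Module.Projective R (F.X i) := fun i => have := hFf i; inferInstance
  have := isKProjective b hPp
  have := isKProjective b hFp
  obtain ⟨i', hi'⟩ := exists_map_eq (eP.hom ≫ i ≫ eF.inv)
  obtain ⟨p', hp'⟩ := exists_map_eq (eF.hom ≫ p ≫ eP.inv)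
  obtain ⟨H⟩ := (map_eq_zero_iff (i' ≫ p' - 𝟙 P)).1 (by
    rw [Functor.map_sub, Functor.map_comp, hi', hp']
    simp [reassoc_of% hip])
  have H' : Homotopy (i' ≫ p') (𝟙 P) := Homotopy.equivSubZero.symm H
  refine hasTorAmplitudeIn_of_iso eP
    (hasTorAmplitudeIn_of_torBound P b (flat_of_free hPf) a b fun M => ?_)
  obtain ⟨t⟩ := nonempty_tm_iso M b b (flat_of_free hFf) hEf (eF ≪≫ eE.symm)
  have hM : DerivedCategory.Q.map ((tm M).map i') ≫ DerivedCategory.Q.map ((tm M).map p') =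
      𝟙 (DRing.toD ((tm M).obj P)) := by
    rw [← Functor.map_comp, ← Functor.map_comp, ← CategoryTheory.Functor.map_id,
      ← CategoryTheory.Functor.map_id (tm M)]
    let e := DerivedCategory.quotientCompQhIso (ModuleCat.{u} R)
    rw [← NatIso.naturality_1 e ((tm M).map (i' ≫ p')), ← NatIso.naturality_1 e ((tm M).map (𝟙 P))]
    exact congrArg (fun s => e.inv.app _ ≫ DerivedCategory.Qh.map s ≫ e.hom.app _)
      (HomotopyCategory.eq_of_homotopy _ _ ((tensorRight M).mapHomotopy H'))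
  have hsub : ∀ j, Subsingleton (Dual.HD R (DRing.toD ((tm M).obj F)) j) →
      Subsingleton (Dual.HD R (DRing.toD ((tm M).obj P)) j) := fun j hj => by
    have : IsSplitMono ((HH j).map (DerivedCategory.Q.map ((tm M).map i'))) :=
      IsSplitMono.mk' ⟨(HH j).map (DerivedCategory.Q.map ((tm M).map p')), by
        rw [← Functor.map_comp, hM, CategoryTheory.Functor.map_id]⟩
    exact ((ModuleCat.mono_iff_injective _).1
      (inferInstance : Mono ((HH j).map (DerivedCategory.Q.map ((tm M).map i'))))).subsingleton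
  have hb := isLE_toD (vanishesOutside_tm M hEv)
  have ha := isGE_toD (vanishesOutside_tm M hEv)
  have hb' := exists_iso_of_isLE _ b t.symm
  have ha' := (tS R).isGE_of_iso t.symm a
  exact ⟨(isGE_iff _ a).2 fun j hj => hsub j ((isGE_iff _ a).1 ha' j hj),
    (isLE_iff _ b).2 fun j hj => hsub j ((isLE_iff _ b).1 hb' j hj)⟩

/-! ### Dévissage -/

theorem prop_of_terms (Pr : Dual.D R → Prop) (iso : ∀ {K L : Dual.D R}, (K ≅ L) → Pr K → Pr L)
    (zero : ∀ K : Dual.D R, IsZero K → Pr K)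
    (ext : ∀ T ∈ (distTriang (Dual.D R)), Pr T.obj₁ → Pr T.obj₃ → Pr T.obj₂)
    (K : DRing.Cx R) (c d : ℤ) (hK : DRing.VanishesOutside K c d)
    (h : ∀ i, Pr ((single i).obj (K.X i))) : Pr (DRing.toD K) := by
  refine bounded_induction (Q := fun L => Pr (DRing.toD L)) (p := fun n M => Pr ((single n).obj M))
    (fun L hL => ?_) (fun L n hL hn => ?_) (fun L n h₁ h₂ => ?_)
    (fun n M N e hM => iso ((single n).mapIso e) hM) K c d hK (fun i _ _ => h i)
  · refine zero _ (Functor.map_isZero DerivedCategory.Q ?_)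
    rw [IsZero.iff_id_eq_zero]
    ext i : 1
    exact (hL i).eq_of_src _ _
  · obtain ⟨e⟩ := exists_iso_single_X hL
    exact iso e.symm hn
  · obtain ⟨t, hT⟩ := exists_sub_triangle L (geSub L n) (geSub_stable L n)
    exact ext _ hT h₁ h₂

theorem prop_of_homology (Pr : Dual.D R → Prop) (iso : ∀ {K L : Dual.D R}, (K ≅ L) → Pr K → Pr L)
    (zero : ∀ K : Dual.D R, IsZero K → Pr K)
    (ext : ∀ T ∈ (distTriang (Dual.D R)), Pr T.obj₁ → Pr T.obj₃ → Pr T.obj₂)
    (K : Dual.D R) (c d : ℤ) (hK : ∀ i, i < c ∨ d < i → Subsingleton (Dual.HD R K i))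
    (h : ∀ i, Pr ((single i).obj ((HH i).obj K))) : Pr K := by
  suffices H : ∀ (k : ℕ) (d : ℤ) (K : Dual.D R), d < c + k →
      (∀ i, i < c ∨ d < i → Subsingleton (Dual.HD R K i)) →
      (∀ i, Pr ((single i).obj ((HH i).obj K))) → Pr K from H (d + 1 - c).toNat d K (by omega) hK h
  intro k
  induction k with
  | zero =>
    intro d K hd hK _
    have : K.IsLE (c - 1) := (isLE_iff K _).2 fun i hi => hK i (by omega)
    have : K.IsGE c := (isGE_iff K _).2 fun i hi => hK i (by omega)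
    refine zero K ?_
    rw [IsZero.iff_id_eq_zero]
    exact (tS R).zero_of_isLE_of_isGE (𝟙 K) (c - 1) c (by omega) inferInstance inferInstance
  | succ k ih =>
    intro d K hd hK h
    have : K.IsLE d := (isLE_iff K _).2 fun i hi => hK i (Or.inr hi)
    obtain ⟨K', f, g, t, hT, hK', hf, -⟩ := exists_top_triangle K d
    refine ext _ hT (ih (d - 1) K' (by omega) (fun i hi => ?_) fun i => ?_) (h d)
    · by_cases hi' : i < d
      · have := hf i hi'
        have := hK i (by omega)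
        exact (asIso ((HH i).map f)).toLinearEquiv.toEquiv.subsingleton
      · exact (isLE_iff K' (d - 1)).1 hK' i (by omega)
    · by_cases hi' : i < d
      · have := hf i hi'
        exact iso ((single i).mapIso (asIso ((HH i).map f)).symm) (h i)
      · have : Subsingleton ((HH i).obj K') := (isLE_iff K' (d - 1)).1 hK' i (by omega)
        exact zero _ (Functor.map_isZero (single i) (ModuleCat.isZero_of_subsingleton _))

theorem hasTorAmplitudeIn_of_isZero {K : Dual.D R} (hK : IsZero K) (a b : ℤ) :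
    DRing.HasTorAmplitudeIn R a b K :=
  ⟨zeroCx R, fun i _ => isZero_zeroCx_X i,
    fun _ => modClass_flat.subsingleton PUnit,
    ⟨IsZero.iso (Functor.map_isZero DerivedCategory.Q (by
      rw [IsZero.iff_id_eq_zero]
      ext i : 1
      exact (isZero_zeroCx_X i).eq_of_src _ _)) hK⟩⟩

theorem hasTorAmplitudeIn_single {a b n : ℤ} (M : ModuleCat.{u} R)
    (h : DRing.HasTorAmplitudeIn R (a - n) (b - n) (Dual.inD R M)) :
    DRing.HasTorAmplitudeIn R a b ((single n).obj M) :=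
  hasTorAmplitudeIn_of_iso (singleShiftIso n M)
    (hasTorAmplitudeIn_shift (-n) a b (by omega) (by omega) h)

/-! ### Perfect objects -/

theorem isPerfect_of_pc_of_torAmp {K : Dual.D R} (h : DRing.IsPseudoCoherent' R K) {a b : ℤ}
    (h' : DRing.HasTorAmplitudeIn R a b K) : DRing.IsPerfect R K :=
  have ⟨E, hE, hF, e⟩ := exists_finProjAmp ((pc'_iff K).1 h (a - 1)) h'
  ⟨E, a, b, hE, hF, e⟩

theorem torAmp_of_isPerfect {K : Dual.D R} (h : DRing.IsPerfect R K) :
    ∃ a b : ℤ, DRing.HasTorAmplitudeIn R a b K :=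
  have ⟨E, a, b, hv, hE, e⟩ := h
  ⟨a, b, E, hv, fun i => have := (hE i).2; inferInstance, e⟩

theorem isPerfect_of_iso {K L : Dual.D R} (e : K ≅ L) (h : DRing.IsPerfect R K) :
    DRing.IsPerfect R L :=
  have ⟨E, a, b, hv, hE, ⟨f⟩⟩ := h
  ⟨E, a, b, hv, hE, ⟨f ≪≫ e⟩⟩

theorem isPerfect_shift {K : Dual.D R} (n : ℤ) (h : DRing.IsPerfect R K) :
    DRing.IsPerfect R (K⟦n⟧) :=
  have ⟨E, a, b, hv, hE, ⟨f⟩⟩ := h
  ⟨(shiftFunctor (DRing.Cx R) n).obj E, a - n, b - n,
    vanishesOutside_shift hv n (a - n) (b - n) (by omega) (by omega),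
    fun i => hE (i + n),
    ⟨toDShiftIso E n ≪≫ (shiftFunctor (Dual.D R) n).mapIso f⟩⟩

theorem isPerfect_triangle₃ (T : Triangle (Dual.D R)) (hT : T ∈ distTriang _)
    (h₁ : DRing.IsPerfect R T.obj₁) (h₂ : DRing.IsPerfect R T.obj₂) : DRing.IsPerfect R T.obj₃ := by
  obtain ⟨a₁, b₁, t₁⟩ := torAmp_of_isPerfect h₁
  obtain ⟨a₂, b₂, t₂⟩ := torAmp_of_isPerfect h₂
  have p₁ := (pc'_iff _).1 (pc'_of_perfect h₁)
  have p₂ := (pc'_iff _).1 (pc'_of_perfect h₂)
  exact isPerfect_of_pc_of_torAmp ((pc'_iff _).2 fun m => pc_triangle₃ T hT (p₁ _) (p₂ m))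
    (torAmp_triangle₃ (min (a₁ - 1) a₂) (max (b₁ - 1) b₂) T hT
      (hasTorAmplitudeIn_mono (by omega) (by omega) t₁)
      (hasTorAmplitudeIn_mono (by omega) (by omega) t₂))

theorem isPerfect_triangle₂ (T : Triangle (Dual.D R)) (hT : T ∈ distTriang _)
    (h₁ : DRing.IsPerfect R T.obj₁) (h₃ : DRing.IsPerfect R T.obj₃) : DRing.IsPerfect R T.obj₂ :=
  isPerfect_triangle₃ _ (inv_rot_of_distTriang _ hT) (isPerfect_shift (-1) h₃) h₁

theorem isPerfect_triangle₁ (T : Triangle (Dual.D R)) (hT : T ∈ distTriang _)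
    (h₂ : DRing.IsPerfect R T.obj₂) (h₃ : DRing.IsPerfect R T.obj₃) : DRing.IsPerfect R T.obj₁ :=
  isPerfect_triangle₂ _ (inv_rot_of_distTriang _ hT) (isPerfect_shift (-1) h₃) h₂

theorem isPerfect_of_isZero {K : Dual.D R} (hK : IsZero K) : DRing.IsPerfect R K :=
  ⟨zeroCx R, 0, 0, fun i _ => isZero_zeroCx_X i,
    fun _ => modClass_finiteProjective.subsingleton PUnit,
    ⟨IsZero.iso (Functor.map_isZero DerivedCategory.Q (by
      rw [IsZero.iff_id_eq_zero]
      ext i : 1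
      exact (isZero_zeroCx_X i).eq_of_src _ _)) hK⟩⟩

theorem isPerfect_single (n : ℤ) (M : ModuleCat.{u} R) (h : DRing.IsPerfectModule R M) :
    DRing.IsPerfect R ((single n).obj M) :=
  isPerfect_of_iso (singleShiftIso n M) (isPerfect_shift (-n) h)

end Groth.Agent.DBaseChange
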