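import Groth.Agent.Lib.DBaseChange.Value
import Groth.Agent.Lib.DMod.Amplitude
import Groth.Agent.Lib.DMod.TruncGE
import Mathlib.RingTheory.Flat.Basic
import Mathlib.LinearAlgebra.TensorProduct.RightExactness

/-!
Tor amplitude through the tensor products with modules.
-/

set_option autoImplicit false
set_option linter.unusedSectionVars false

universe u

open CategoryTheory CategoryTheory.Limits CategoryTheory.Pretriangulated MonoidalCategory

attribute [local instance] HasDerivedCategory.standard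

namespace Groth.Agent.DBaseChange

open KFlat KFlat.Module

variable {R : Type u} [CommRing R]

/-- Termwise tensor product with a module. -/
noncomputable abbrev tm (M : ModuleCat.{u} R) : DRing.Cx R ⥤ DRing.Cx R :=
  (tensorRight M).mapHomologicalComplex (ComplexShape.up ℤ)

instance preservesFiniteColimits_tensorRight' (M : ModuleCat.{u} R) :
    PreservesFiniteColimits (tensorRight M) :=
  preservesFiniteColimits_of_natIso (BraidedCategory.tensorLeftIsoTensorRight M)

theorem mono_tensorRight_map (M : ModuleCat.{u} R) (S : ShortComplex (ModuleCat.{u} R))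
    (hS : S.ShortExact) (h : KFlat.IsFlat (TM R) S.X₃) : Mono ((tensorRight M).map S.f) := by
  have : _root_.Module.Flat R S.X₃ := (isFlat_iff _).1 h
  refine (ModuleCat.mono_iff_injective _).2 ?_
  have h := LinearMap.lTensor_injective_of_exact_of_flat S.g.hom hS.moduleCat_surjective_g S.f.hom
    hS.moduleCat_injective_f
    ((ShortComplex.ShortExact.moduleCat_exact_iff_function_exact S).1 hS.exact) M
  exact (LinearMap.lTensor_inj_iff_rTensor_inj M S.f.hom).1 h

theorem quasiIso_tm (M : ModuleCat.{u} R) {P Q : DRing.Cx R} (f : P ⟶ Q) [QuasiIso f]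
    (hP : Adapted P) (hQ : Adapted Q) : QuasiIso ((tm M).map f) :=
  KFlat.quasiIso_map Module.cover isFlat_cover _ (mono_tensorRight_map M) f hP hQ (splitPres_map _)

/-- Termwise tensoring followed by localization, two ways. -/
noncomputable def tmFactorIso (M : ModuleCat.{u} R) :
    HomotopyCategory.quotient (ModuleCat.{u} R) (ComplexShape.up ℤ) ⋙ DRing.tensorKh R M ≅
      tm M ⋙ DerivedCategory.Q :=
  (Functor.associator _ _ _).symm ≪≫
    Functor.isoWhiskerRight ((tensorRight M).mapHomotopyCategoryFactors _) _ ≪≫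
    Functor.associator _ _ _ ≪≫ Functor.isoWhiskerLeft _ (DerivedCategory.quotientCompQhIso _)

theorem isIso_tm_map (M : ModuleCat.{u} R) {K K' : DRing.Cx R} (f : K ⟶ K') [QuasiIso f]
    (hK : Adapted K) (hK' : Adapted K') :
    IsIso ((HomotopyCategory.quotient (ModuleCat.{u} R) (ComplexShape.up ℤ) ⋙ DRing.tensorKh R M).map f) :=
  have := quasiIso_tm M f hK hK'
  (NatIso.isIso_map_iff (tmFactorIso M) f).2
    (inferInstanceAs (IsIso (DerivedCategory.Q.map ((tm M).map f))))

theorem nonempty_lTensor_iso (M : ModuleCat.{u} R) [DRing.HasLTensor R M] (P : DRing.Cx R)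
    (hP : Adapted P) :
    Nonempty ((DRing.LTensor R M).obj (DRing.toD P) ≅ DRing.toD ((tm M).obj P)) := by
  let q := HomotopyCategory.quotient (ModuleCat.{u} R) (ComplexShape.up ℤ)
  let α : (q ⋙ DerivedCategory.Qh) ⋙ DRing.LTensor R M ⟶ q ⋙ DRing.tensorKh R M :=
    (Functor.associator _ _ _).hom ≫ Functor.whiskerLeft _
      ((DRing.tensorKh R M).totalLeftDerivedCounit DerivedCategory.Qh
        (HomotopyCategory.quasiIso (ModuleCat.{u} R) (ComplexShape.up ℤ)))
  have hk : (DRing.LTensor R M).IsRightKanExtension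
      ((DRing.tensorKh R M).totalLeftDerivedCounit DerivedCategory.Qh
        (HomotopyCategory.quasiIso (ModuleCat.{u} R) (ComplexShape.up ℤ))) :=
    Functor.IsLeftDerivedFunctor.isRightKanExtension _ _
      (HomotopyCategory.quasiIso (ModuleCat.{u} R) (ComplexShape.up ℤ))
  have : (DRing.LTensor R M).IsLeftDerivedFunctor α
      (HomologicalComplex.quasiIso (ModuleCat.{u} R) (ComplexShape.up ℤ)) :=
    ⟨isRightKanExtension_precomp _ (fun X => X.as) (fun _ => rfl) _ _⟩
  let Φ : Cover (ModuleCat.{u} R) := Module.cover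
  have : IsIso (α.app P) := KFlat.isIso_counit
    (W := HomologicalComplex.quasiIso (ModuleCat.{u} R) (ComplexShape.up ℤ))
    (resFunctor Φ) (resNatTrans Φ) (fun G => quasiIso_resπ Φ G) (q ⋙ DRing.tensorKh R M)
    (Adapted (A := R))
    (fun G => ⟨isKFlat_resObj Φ G isFlat_cover, isKFlat_flip_resObj Φ G isFlat_cover,
      isFlat_resObj_X Φ G isFlat_cover⟩)
    (fun f hf hK hK' => have : QuasiIso f := hf; isIso_tm_map M f hK hK')
    (q ⋙ DerivedCategory.Qh) (DRing.LTensor R M) α P hP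
  exact ⟨(DRing.LTensor R M).mapIso ((DerivedCategory.quotientCompQhIso _).app P).symm ≪≫
    asIso (α.app P) ≪≫ (tmFactorIso M).app P⟩

/-- The termwise tensor product only depends on the class of a bounded above flat complex. -/
theorem nonempty_tm_iso (M : ModuleCat.{u} R) {P Q : DRing.Cx R} (b b' : ℤ) [P.IsStrictlyLE b]
    [Q.IsStrictlyLE b'] (hP : ∀ i, _root_.Module.Flat R (P.X i))
    (hQ : ∀ i, _root_.Module.Flat R (Q.X i)) (e : DRing.toD P ≅ DRing.toD Q) :
    Nonempty (DRing.toD ((tm M).obj P) ≅ DRing.toD ((tm M).obj Q)) := by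
  obtain ⟨F, hF, hFf, ⟨f⟩⟩ := DMod.exists_free_resolution (DRing.toD P) b
  have hFp : ∀ i, _root_.Module.Projective R (F.X i) := fun i => have := hFf i; inferInstance
  have := DMod.isKProjective b hFp
  have hFa := adapted_of_flat F b (flat_of_free hFf)
  obtain ⟨g, hg⟩ := DMod.exists_map_eq f.hom
  obtain ⟨h, hh⟩ := DMod.exists_map_eq (f ≪≫ e).hom
  have : QuasiIso g := by
    rw [← DerivedCategory.isIso_Q_map_iff_quasiIso, hg]; infer_instance
  have : QuasiIso h := by
    rw [← DerivedCategory.isIso_Q_map_iff_quasiIso, hh]; infer_instance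
  have := quasiIso_tm M g hFa (adapted_of_flat P b hP)
  have := quasiIso_tm M h hFa (adapted_of_flat Q b' hQ)
  exact ⟨(asIso (DerivedCategory.Q.map ((tm M).map g))).symm ≪≫
    asIso (DerivedCategory.Q.map ((tm M).map h))⟩

/-- Tensoring with `R` changes nothing. -/
noncomputable def tmSelfIso (P : DRing.Cx R) : (tm (ModuleCat.of R R)).obj P ≅ P :=
  (NatIso.mapHomologicalComplex (MonoidalCategory.rightUnitorNatIso (ModuleCat.{u} R))
    (ComplexShape.up ℤ)).app P ≪≫
  (Functor.mapHomologicalComplexIdIso (ModuleCat.{u} R) (ComplexShape.up ℤ)).app P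

theorem flat_coker (F : DRing.Cx R) (c : ℤ) (hF : _root_.Module.Flat R (F.X (c + 1)))
    (h : ∀ M : ModuleCat.{u} R, Subsingleton (((tm M).obj F).homology c)) :
    _root_.Module.Flat R (F.X (c + 1) ⧸ LinearMap.range (F.d c (c + 1)).hom) := by
  rw [_root_.Module.Flat.iff_lTensor_preserves_injective_linearMap]
  intro N P _ _ _ _ f hf
  rw [injective_iff_map_eq_zero]
  intro z hz
  let d₁ := (F.d c (c + 1)).hom
  let d₀ := (F.d (c - 1) c).hom
  let π := (LinearMap.range d₁).mkQ
  let q := (LinearMap.range f).mkQ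
  have hq : Function.Surjective q := Submodule.mkQ_surjective _
  have hfq : Function.Exact f q := LinearMap.exact_map_mkQ_range f
  have hdπ : Function.Exact d₁ π := LinearMap.exact_map_mkQ_range d₁
  obtain ⟨w, rfl⟩ := LinearMap.rTensor_surjective N (Submodule.mkQ_surjective (LinearMap.range d₁)) z
  have e₁ : π.rTensor P (f.lTensor _ w) = 0 := by
    rw [← hz]
    exact LinearMap.congr_fun
      ((LinearMap.rTensor_comp_lTensor _ _ _).trans (LinearMap.lTensor_comp_rTensor _ _ _).symm) w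
  obtain ⟨v, hv⟩ := (rTensor_exact P hdπ (Submodule.mkQ_surjective _) _).1 e₁
  have e₂ : d₁.rTensor _ (q.lTensor _ v) = 0 := by
    rw [show d₁.rTensor _ (q.lTensor _ v) = q.lTensor _ (d₁.rTensor P v) from LinearMap.congr_fun
      ((LinearMap.rTensor_comp_lTensor _ _ _).trans (LinearMap.lTensor_comp_rTensor _ _ _).symm) v, hv,
      ← LinearMap.comp_apply, ← LinearMap.lTensor_comp, hfq.linearMap_comp_eq_zero,
      LinearMap.lTensor_zero, LinearMap.zero_apply]
  obtain ⟨u, hu⟩ := (DMod.subsingleton_homology_iff ((tm (ModuleCat.of R (P ⧸ LinearMap.range f))).obj F)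
    (i := c - 1) (k := c + 1) (by simp) (by simp)).1 (h _) _ e₂
  change d₀.rTensor _ u = q.lTensor _ v at hu
  obtain ⟨u', rfl⟩ := LinearMap.lTensor_surjective (F.X (c - 1)) hq u
  have e₃ : q.lTensor _ (v - d₀.rTensor P u') = 0 := by
    rw [map_sub, sub_eq_zero, ← hu]
    exact LinearMap.congr_fun
      ((LinearMap.rTensor_comp_lTensor _ _ _).trans (LinearMap.lTensor_comp_rTensor _ _ _).symm) u'
  obtain ⟨v', hv'⟩ := (lTensor_exact (F.X c) hfq hq _).1 e₃
  have hdd : d₁.rTensor P (d₀.rTensor P u') = 0 := by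
    rw [← LinearMap.comp_apply, ← LinearMap.rTensor_comp,
      show d₁ ∘ₗ d₀ = 0 from congrArg ModuleCat.Hom.hom (F.d_comp_d (c - 1) c (c + 1)),
      LinearMap.rTensor_zero, LinearMap.zero_apply]
  have e₄ : f.lTensor (F.X (c + 1)) (d₁.rTensor N v') = f.lTensor _ w := by
    rw [← hv, show f.lTensor (F.X (c + 1)) (d₁.rTensor N v') = d₁.rTensor P (f.lTensor _ v') from
      LinearMap.congr_fun
        ((LinearMap.lTensor_comp_rTensor _ _ _).trans (LinearMap.rTensor_comp_lTensor _ _ _).symm) v',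
      hv', map_sub, hdd, sub_zero]
  rw [← _root_.Module.Flat.lTensor_preserves_injective_linearMap f hf e₄, ← LinearMap.comp_apply,
    ← LinearMap.rTensor_comp, hdπ.linearMap_comp_eq_zero, LinearMap.rTensor_zero, LinearMap.zero_apply]

/-- Cohomology of all tensor products lies in `[a, b]`. -/
def TorBound (P : DRing.Cx R) (a b : ℤ) : Prop :=
  ∀ M : ModuleCat.{u} R, (DRing.toD ((tm M).obj P)).IsGE a ∧ (DRing.toD ((tm M).obj P)).IsLE b

theorem vanishesOutside_tm (M : ModuleCat.{u} R) {E : DRing.Cx R} {a b : ℤ}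
    (h : DRing.VanishesOutside E a b) : DRing.VanishesOutside ((tm M).obj E) a b :=
  fun i hi => Functor.map_isZero (tensorRight M) (h i hi)

theorem hasTorAmplitudeIn_of_torBound (P : DRing.Cx R) (b' : ℤ) [P.IsStrictlyLE b']
    (hP : ∀ i, _root_.Module.Flat R (P.X i)) (a b : ℤ) (h : TorBound P a b) :
    DRing.HasTorAmplitudeIn R a b (DRing.toD P) := by
  have : (DRing.toD ((tm (ModuleCat.of R R)).obj P)).IsLE b := (h _).2
  have : (DRing.toD P).IsLE b :=
    DMod.exists_iso_of_isLE _ b (DerivedCategory.Q.mapIso (tmSelfIso P))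
  obtain ⟨F, hF, hFf, ⟨e⟩⟩ := DMod.exists_free_resolution (DRing.toD P) b
  have hFp : ∀ i, _root_.Module.Projective R (F.X i) := fun i => have := hFf i; inferInstance
  have hge : ∀ M, (DRing.toD ((tm M).obj F)).IsGE a := fun M => by
    obtain ⟨t⟩ := nonempty_tm_iso M b b' (flat_of_free hFf) hP e
    have := (h M).1
    exact (DMod.tS R).isGE_of_iso t.symm a
  have : (DRing.toD F).IsGE a :=
    have := hge (ModuleCat.of R R)
    (DMod.tS R).isGE_of_iso (DerivedCategory.Q.mapIso (tmSelfIso F)) a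
  obtain ⟨e'⟩ := DMod.exists_truncFrom_iso F a
  refine ⟨DMod.truncFrom F a, DMod.vanishesOutside_truncFrom F a b,
    DMod.truncFrom_mem DMod.modClass_flat F a (fun i _ => flat_of_free hFf i) ?_, ⟨e' ≪≫ e⟩⟩
  obtain ⟨c, rfl⟩ : ∃ c, c + 1 = a := ⟨a - 1, by omega⟩
  have hh : ∀ j, j = c → _root_.Module.Flat R (F.X (c + 1) ⧸ LinearMap.range (F.d j (c + 1)).hom) := by
    intro j hj
    subst hj
    exact flat_coker F j (flat_of_free hFf _) fun M =>
      (DMod.subsingleton_HD_toD_iff _ j).1 ((DMod.isGE_iff _ (j + 1)).1 (hge M) j (by omega))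
  have := hh (c + 1 - 1) (by omega)
  exact _root_.Module.Flat.of_linearEquiv (DMod.truncFromBotEquiv F (c + 1)).symm

theorem torBound_of_hasTorAmplitudeIn (P : DRing.Cx R) (b' : ℤ) [P.IsStrictlyLE b']
    (hP : ∀ i, _root_.Module.Flat R (P.X i)) (a b : ℤ)
    (h : DRing.HasTorAmplitudeIn R a b (DRing.toD P)) : TorBound P a b := fun M => by
  obtain ⟨E, hb, hE, ⟨e⟩⟩ := h
  have := ((DMod.vanishesOutside_iff E a b).1 hb).2
  obtain ⟨t⟩ := nonempty_tm_iso M b b' hE hP e
  have := DMod.isGE_toD (vanishesOutside_tm M hb)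
  have := DMod.isLE_toD (vanishesOutside_tm M hb)
  exact ⟨(DMod.tS R).isGE_of_iso t a, DMod.exists_iso_of_isLE _ b t⟩

theorem hasTorAmplitudeIn_of_iso {K L : Dual.D R} (e : K ≅ L) {a b : ℤ}
    (h : DRing.HasTorAmplitudeIn R a b K) : DRing.HasTorAmplitudeIn R a b L :=
  have ⟨E, hb, hE, ⟨f⟩⟩ := h
  ⟨E, hb, hE, ⟨f ≪≫ e⟩⟩

theorem hasTorAmplitudeIn_iff_hd [∀ M : ModuleCat.{u} R, DRing.HasLTensor R M] (K : Dual.D R)
    (a b : ℤ) : DRing.HasTorAmplitudeIn R a b K ↔
      ∀ (M : ModuleCat.{u} R) (i : ℤ), (i < a ∨ b < i) →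
        Subsingleton (Dual.HD R ((DRing.LTensor R M).obj K) i) := by
  constructor
  · rintro ⟨E, hb, hE, ⟨e⟩⟩ M i hi
    have := ((DMod.vanishesOutside_iff E a b).1 hb).2
    obtain ⟨t⟩ := nonempty_lTensor_iso M E (adapted_of_flat E b hE)
    let t' : DRing.toD ((tm M).obj E) ≅ (DRing.LTensor R M).obj K :=
      t.symm ≪≫ (DRing.LTensor R M).mapIso e
    rcases hi with hi | hi
    · have := DMod.isGE_toD (vanishesOutside_tm M hb)
      exact (DMod.isGE_iff _ a).1 ((DMod.tS R).isGE_of_iso t' a) i hi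
    · have := DMod.isLE_toD (vanishesOutside_tm M hb)
      exact (DMod.isLE_iff _ b).1 (DMod.exists_iso_of_isLE _ b t') i hi
  · intro h
    -- `K` itself is bounded above
    have : (DerivedCategory.Q : DRing.Cx R ⥤ Dual.D R).EssSurj :=
      Localization.essSurj _ (HomologicalComplex.quasiIso (ModuleCat.{u} R) (ComplexShape.up ℤ))
    let L : DRing.Cx R := (DerivedCategory.Q : DRing.Cx R ⥤ Dual.D R).objPreimage K
    let Φ : Cover (ModuleCat.{u} R) := Module.cover
    have : QuasiIso ((resNatTrans Φ).app L) := quasiIso_resπ Φ L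
    let e₀ : DRing.toD ((resFunctor Φ).obj L) ≅ K :=
      asIso (DerivedCategory.Q.map ((resNatTrans Φ).app L)) ≪≫
        (DerivedCategory.Q : DRing.Cx R ⥤ Dual.D R).objObjPreimageIso K
    obtain ⟨t⟩ := nonempty_lTensor_iso (ModuleCat.of R R) ((resFunctor Φ).obj L)
      ⟨isKFlat_resObj Φ L isFlat_cover, isKFlat_flip_resObj Φ L isFlat_cover,
        isFlat_resObj_X Φ L isFlat_cover⟩
    let eK : (DRing.LTensor R (ModuleCat.of R R)).obj K ≅ K :=
      (DRing.LTensor R _).mapIso e₀.symm ≪≫ t ≪≫ DerivedCategory.Q.mapIso (tmSelfIso _) ≪≫ e₀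
    have : ((DRing.LTensor R (ModuleCat.of R R)).obj K).IsLE b :=
      (DMod.isLE_iff _ b).2 fun i hi => h _ i (Or.inr hi)
    have : K.IsLE b := DMod.exists_iso_of_isLE _ b eK
    obtain ⟨P, hP, hPf, ⟨e⟩⟩ := DMod.exists_free_resolution K b
    refine hasTorAmplitudeIn_of_iso e (hasTorAmplitudeIn_of_torBound P b (flat_of_free hPf) a b
      fun M => ?_)
    obtain ⟨s⟩ := nonempty_lTensor_iso M P (adapted_of_flat P b (flat_of_free hPf))
    let s' : (DRing.LTensor R M).obj K ≅ DRing.toD ((tm M).obj P) :=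
      (DRing.LTensor R M).mapIso e.symm ≪≫ s
    have h1 : ((DRing.LTensor R M).obj K).IsGE a :=
      (DMod.isGE_iff _ a).2 fun i hi => h _ i (Or.inl hi)
    have h2 : ((DRing.LTensor R M).obj K).IsLE b :=
      (DMod.isLE_iff _ b).2 fun i hi => h _ i (Or.inr hi)
    exact ⟨(DMod.tS R).isGE_of_iso s' a, DMod.exists_iso_of_isLE _ b s'⟩

end Groth.Agent.DBaseChange
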