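import Groth.Agent.Lib.DBaseChange.TorTri
import Groth.Agent.Lib.TorBal.Dim
import Mathlib.Algebra.Homology.DerivedCategory.ExactFunctor
import Mathlib.Algebra.Category.ModuleCat.ChangeOfRings
import Mathlib.LinearAlgebra.TensorProduct.Tower

/-! Tor amplitude under restriction of scalars. -/

set_option autoImplicit false
set_option linter.style.haveILetI false
set_option backward.isDefEq.respectTransparency false

universe u

open CategoryTheory CategoryTheory.Limits CategoryTheory.Pretriangulated
open scoped TensorProduct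

attribute [local instance] HasDerivedCategory.standard

namespace Groth.Agent.DBaseChange

open DMod

variable {A B : Type u} [CommRing A] [CommRing B] [Algebra A B]

/-- A flat `B`-module has tor dimension over `A` at most that of `B`. -/
theorem hasTorDimLE_of_flat_algebra {d : ℕ} (hB : DRing.HasTorDimLE A d B) (M : Type u) [AddCommGroup M]
    [_root_.Module A M] [_root_.Module B M] [IsScalarTower A B M] [_root_.Module.Flat B M] :
    DRing.HasTorDimLE A d M := by
  intro N _ _ p hp
  obtain ⟨n, rfl⟩ : ∃ n, p = n + 1 := ⟨p - 1, by omega⟩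
  refine ModuleCat.subsingleton_of_isZero ?_
  let Pr := ProjectiveResolution.of (ModuleCat.of A N)
  rw [FlatSyz.isZero_tor_succ_iff Pr n]
  haveI := hB N (n + 1) hp
  have h := (FlatSyz.isZero_tor_succ_iff (M := B) Pr n).1 (ModuleCat.isZero_of_subsingleton _)
  let ι := (LinearMap.range (FlatSyz.dLin Pr n)).subtype
  let ιB : B ⊗[A] ↥(LinearMap.range (FlatSyz.dLin Pr n)) →ₗ[B] B ⊗[A] (Pr.complex.X n) :=
    TensorProduct.AlgebraTensorModule.map LinearMap.id ι
  have hιB : Function.Injective ιB := h
  have h' := _root_.Module.Flat.lTensor_preserves_injective_linearMap (M := M) ιB hιB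
  let c₁ := TensorProduct.AlgebraTensorModule.cancelBaseChange A B B M ↥(LinearMap.range (FlatSyz.dLin Pr n))
  let c₂ := TensorProduct.AlgebraTensorModule.cancelBaseChange A B B M (Pr.complex.X n)
  have key : ∀ x, ι.lTensor M (c₁ x) = c₂ (ιB.lTensor M x) := fun x => by
    induction x with
    | zero => simp only [map_zero]
    | add x y hx hy => simp only [map_add, hx, hy]
    | tmul m y =>
      induction y with
      | zero => simp only [TensorProduct.tmul_zero, map_zero]
      | add y y' hy hy' => simp only [TensorProduct.tmul_add, map_add, hy, hy']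
      | tmul b s => simp [c₁, c₂, ιB]
  intro x y hxy
  obtain ⟨x, rfl⟩ := c₁.surjective x
  obtain ⟨y, rfl⟩ := c₁.surjective y
  rw [key, key] at hxy
  rw [h' (c₂.injective hxy)]

theorem hasTorAmplitudeIn_restrict {d : ℕ}
    (hB : DRing.HasTorAmplitudeIn A (-(d : ℤ)) 0 (Dual.inD A B)) (K : Dual.D B) (a b : ℤ)
    (hK : DRing.HasTorAmplitudeIn B a b K) :
    DRing.HasTorAmplitudeIn A (a - d) b ((DRing.restrictD (algebraMap A B)).obj K) := by
  obtain ⟨E, hv, hE, ⟨e⟩⟩ := hK
  let r := ModuleCat.restrictScalars.{u} (algebraMap A B)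
  refine hasTorAmplitudeIn_of_iso
    ((r.mapDerivedCategoryFactors.app E).symm ≪≫ (DRing.restrictD (algebraMap A B)).mapIso e) ?_
  refine prop_of_terms (fun X => DRing.HasTorAmplitudeIn A (a - d) b X)
    (fun e h => hasTorAmplitudeIn_of_iso e h) (fun X h => hasTorAmplitudeIn_of_isZero h _ _)
    (fun T hT => torAmp_triangle₂ _ _ T hT) _ a b (fun i hi => Functor.map_isZero r (hv i hi)) fun i => ?_
  by_cases hi : i < a ∨ b < i
  · exact hasTorAmplitudeIn_of_isZero (Functor.map_isZero _ (Functor.map_isZero r (hv i hi))) _ _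
  refine hasTorAmplitudeIn_single _ (hasTorAmplitudeIn_mono (a := -(d : ℤ)) (b := 0) (by omega) (by omega) ?_)
  haveI := hE i
  letI : _root_.Module A (E.X i) := _root_.Module.compHom _ (algebraMap A B)
  haveI : IsScalarTower A B (E.X i) := ⟨fun a b n => by
    show (a • b) • n = algebraMap A B a • (b • n)
    rw [Algebra.smul_def, mul_smul]⟩
  exact TorBal.amplitude_of_hasTorDimLE _ d
    (hasTorDimLE_of_flat_algebra (TorBal.hasTorDimLE_of_amplitude B d hB) (E.X i))

end Groth.Agent.DBaseChange
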