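import Groth.Agent.Lib.DBaseChange.TensorValue
import Groth.Agent.Lib.DBaseChange.Descent
import Mathlib.Algebra.Homology.DerivedCategory.ExactFunctor
import Mathlib.RingTheory.Flat.Stability
import Mathlib.Algebra.Category.ModuleCat.Descent

/-!
Termwise extension of scalars along a flat map, and modules in degree zero.
-/

set_option autoImplicit false

universe u

open CategoryTheory CategoryTheory.Limits

attribute [local instance] HasDerivedCategory.standard

namespace Groth.Agent.DBaseChange

variable {A B : Type u} [CommRing A] [CommRing B]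

theorem nonempty_ext_iso (φ : A →+* B) (hφ : φ.Flat) {P Q : DRing.Cx A}
    (e : DRing.toD P ≅ DRing.toD Q) :
    Nonempty (DRing.toD ((extCx φ).obj P) ≅ DRing.toD ((extCx φ).obj Q)) := by
  have := ModuleCat.preservesFiniteLimits_extendScalars_of_flat.{u} hφ
  let F := ModuleCat.extendScalars.{u, u, u} φ
  exact ⟨(F.mapDerivedCategoryFactors.app P).symm ≪≫ F.mapDerivedCategory.mapIso e ≪≫
    F.mapDerivedCategoryFactors.app Q⟩

variable [Algebra A B]

theorem nonempty_ext_inD_iso [Module.Flat A B] {P : DRing.Cx A} (M : Type u) [AddCommGroup M]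
    [Module A M] (e : DRing.toD P ≅ Dual.inD A M) :
    Nonempty (DRing.toD ((extCx (algebraMap A B)).obj P) ≅ Dual.inD B (TensorProduct A B M)) := by
  obtain ⟨t⟩ := nonempty_ext_iso (algebraMap A B) (RingHom.flat_algebraMap_iff.2 inferInstance)
    (e ≪≫ (DerivedCategory.singleFunctorIsoCompQ (ModuleCat.{u} A) 0).app (ModuleCat.of A M))
  let i : (ModuleCat.extendScalars.{u, u, u} (algebraMap A B)).obj (ModuleCat.of A M) ≅
      ModuleCat.of B (TensorProduct A B M) := by
    let g : (ModuleCat.restrictScalars (algebraMap A B)).obj (ModuleCat.of B B) ≃ₗ[A] B :=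
      { AddEquiv.refl B with map_smul' := fun a x => (@Algebra.smul_def A B _ _ _ a x).symm }
    let c := TensorProduct.congr g (LinearEquiv.refl A M)
    let c' : ((ModuleCat.extendScalars.{u, u, u} (algebraMap A B)).obj (ModuleCat.of A M)) ≃ₗ[B]
        TensorProduct A B M :=
      { c.toAddEquiv with map_smul' := ?_ }
    · exact c'.toModuleIso
    intro b (x : (ModuleCat.extendScalars.{u, u, u} (algebraMap A B)).obj (ModuleCat.of A M))
    let X := (ModuleCat.extendScalars.{u, u, u} (algebraMap A B)).obj (ModuleCat.of A M)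
    change c _ = b • c x
    induction x using TensorProduct.induction_on with
    | zero =>
      exact ((congrArg c (smul_zero (A := X) b)).trans (map_zero c)).trans
        ((congrArg (b • ·) (map_zero c)).trans (smul_zero b)).symm
    | tmul s m => rfl
    | add x y hx hy =>
      exact (((congrArg c (smul_add (A := X) b x y)).trans (map_add c _ _)).trans
        (congrArg₂ (· + ·) hx hy)).trans
        ((congrArg (b • ·) (map_add c x y)).trans (smul_add b _ _)).symm
  exact ⟨t ≪≫ DerivedCategory.Q.mapIso
    ((HomologicalComplex.singleMapHomologicalComplex (ModuleCat.extendScalars.{u, u, u} (algebraMap A B))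
      (ComplexShape.up ℤ) 0).app (ModuleCat.of A M) ≪≫ (HomologicalComplex.single _ _ 0).mapIso i) ≪≫
    ((DerivedCategory.singleFunctorIsoCompQ (ModuleCat.{u} B) 0).app
      (ModuleCat.of B (TensorProduct A B M))).symm⟩


omit [Algebra A B] in
theorem isLE_ext_of_flat (φ : A →+* B) (hφ : φ.Flat) (P : DRing.Cx A) (n : ℤ)
    [(DRing.toD P).IsLE n] : (DRing.toD ((extCx φ).obj P)).IsLE n := by
  refine (DMod.isLE_iff _ n).2 fun i hi => ?_
  have h0 : IsZero (P.homology i) :=
    (DerivedCategory.isZero_of_isLE (DRing.toD P) n i hi).of_iso (hdEquiv _ i).symm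
  exact (DMod.isZero_iff_subsingleton _).1
    ((Functor.map_isZero (ModuleCat.extendScalars.{u, u, u} φ) h0).of_iso
      (hdEquiv _ i ≪≫ homologyExtIso φ hφ _ i))

omit [Algebra A B] in
/-- Flat extension of scalars preserves pseudo-coherence. -/
theorem pc_ext_of_flat (φ : A →+* B) (hφ : φ.Flat) (P : DRing.Cx A) (m : ℤ)
    (h : DRing.IsPseudoCoherent A m (DRing.toD P)) :
    DRing.IsPseudoCoherent B m (DRing.toD ((extCx φ).obj P)) := by
  obtain ⟨E, a, b, α, hE, hF, h1, h2⟩ := h
  have := ((DMod.vanishesOutside_iff E a b).1 hE).2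
  have : E.IsKProjective := DMod.isKProjective b fun i => have := (hF i).2; inferInstance
  obtain ⟨f, rfl⟩ := DMod.exists_map_eq α
  obtain ⟨g, t, hT⟩ := DMod.exists_cone_triangle f
  have hC : (DRing.toD (CochainComplex.mappingCone f)).IsLE (m - 1) :=
    (DMod.cone_isLE_iff _ hT m).2 ⟨fun i hi => h1 i hi, h2⟩
  have := isLE_ext_of_flat φ hφ (CochainComplex.mappingCone f) (m - 1)
  have hC' : (DRing.toD (CochainComplex.mappingCone ((extCx φ).map f))).IsLE (m - 1) :=
    DMod.exists_iso_of_isLE _ (m - 1) (DerivedCategory.Q.mapIso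
      (CochainComplex.mappingCone.mapHomologicalComplexIso f (ModuleCat.extendScalars.{u, u, u} φ)))
  obtain ⟨g', t', hT'⟩ := DMod.exists_cone_triangle ((extCx φ).map f)
  obtain ⟨i1, i2⟩ := (DMod.cone_isLE_iff _ hT' m).1 hC'
  exact ⟨(extCx φ).obj E, a, b, DerivedCategory.Q.map ((extCx φ).map f), vanishesOutside_ext φ hE,
    termwiseFiniteFree_ext φ hF, i1, i2⟩

end Groth.Agent.DBaseChange
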