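import Groth.Agent.Lib.DBaseChange.TorTri
import Groth.Agent.Lib.DMod.PC
import Mathlib.Algebra.Homology.DerivedCategory.ExactFunctor
import Mathlib.Algebra.Category.ModuleCat.Projective

/-!
Retracts of perfect objects; restriction of scalars along a perfect algebra preserves perfectness.
-/

set_option autoImplicit false
set_option linter.unusedSectionVars false

universe u

open CategoryTheory CategoryTheory.Limits CategoryTheory.Pretriangulated

attribute [local instance] HasDerivedCategory.standard

namespace Groth.Agent.DBaseChange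

open DMod

variable {R : Type u} [CommRing R]

theorem isPerfect_retract {K L : Dual.D R} (i : L ⟶ K) (p : K ⟶ L) (hip : i ≫ p = 𝟙 L)
    (h : DRing.IsPerfect R K) : DRing.IsPerfect R L := by
  obtain ⟨a, b, t⟩ := torAmp_of_isPerfect h
  obtain ⟨C, g, w, hT⟩ := distinguished_cocone_triangle i
  have : IsSplitMono i := IsSplitMono.mk' ⟨p, hip⟩
  obtain ⟨e, -⟩ := exists_iso_binaryBiproduct_of_distTriang _ hT
    ((Triangle.mk i g w).mor₃_eq_zero_of_mono₁ hT (inferInstanceAs (Mono i)))
  exact isPerfect_of_pc_of_torAmp ((pc'_iff _).2 fun m =>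
      pc_left_of_biprod (pc_of_iso e ((pc'_iff _).1 (pc'_of_perfect h) m)))
    (torAmp_retract i p hip a b t)

theorem isPerfect_biprod {K L : Dual.D R} (hK : DRing.IsPerfect R K) (hL : DRing.IsPerfect R L) :
    DRing.IsPerfect R (K ⊞ L) :=
  isPerfect_triangle₂ _ (binBiprod_triangle K L) hK hL

variable {A B : Type u} [CommRing A] [CommRing B] [Algebra A B]

theorem isPerfect_restrict (hB : DRing.IsPerfectModule A B) (K : Dual.D B)
    (hK : DRing.IsPerfect B K) :
    DRing.IsPerfect A ((DRing.restrictD (algebraMap A B)).obj K) := by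
  let F := DRing.restrictD (algebraMap A B)
  let r := ModuleCat.restrictScalars.{u} (algebraMap A B)
  obtain ⟨E, c, d, hv, hE, ⟨e⟩⟩ := hK
  refine isPerfect_of_iso (F.mapIso e) ?_
  refine prop_of_terms (fun L => DRing.IsPerfect A (F.obj L))
    (fun {L L'} t hL => isPerfect_of_iso (F.mapIso t) hL)
    (fun L hL => isPerfect_of_isZero (Functor.map_isZero F hL))
    (fun T hT h₁ h₃ => isPerfect_triangle₂ _ (F.map_distinguished T hT) h₁ h₃) E c d hv fun i => ?_
  have key : ∀ n : ℕ, DRing.IsPerfect A
      ((single i).obj (r.obj (ModuleCat.of B (Fin n → B)))) := by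
    intro n
    induction n with
    | zero =>
      exact isPerfect_of_isZero (Functor.map_isZero (r ⋙ single i)
        ((isZero_iff_subsingleton (ModuleCat.of B (Fin 0 → B))).2 inferInstance))
    | succ n ih =>
      let s : ModuleCat.of B (Fin (n + 1) → B) ≅ ModuleCat.of B B ⊞ ModuleCat.of B (Fin n → B) :=
        (Fin.consLinearEquiv B fun _ : Fin (n + 1) => B).symm.toModuleIso ≪≫
          (ModuleCat.biprodIsoProd (ModuleCat.of B B) (ModuleCat.of B (Fin n → B))).symm
      refine isPerfect_of_iso ((r ⋙ single i).mapIso s.symm) ?_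
      have := preservesBinaryBiproducts_of_preservesBiproducts (r ⋙ single i)
      refine isPerfect_of_iso ((r ⋙ single i).mapBiprod _ _).symm (isPerfect_biprod ?_ ih)
      let g : ModuleCat.of A B ≅ r.obj (ModuleCat.of B B) :=
        LinearEquiv.toModuleIso
          ({ AddEquiv.refl B with map_smul' := fun a x => @Algebra.smul_def A B _ _ _ a x } :
            B ≃ₗ[A] r.obj (ModuleCat.of B B))
      exact isPerfect_of_iso ((single i).mapIso g) (isPerfect_single i (ModuleCat.of A B) hB)
  have := (hE i).1
  have := (hE i).2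
  obtain ⟨n, f, hf⟩ := Module.Finite.exists_fin' B (E.X i)
  obtain ⟨g, hg⟩ := Module.projective_lifting_property f LinearMap.id hf
  refine isPerfect_of_iso
    (((ModuleCat.restrictScalars.{u} (algebraMap A B)).mapDerivedCategorySingleFunctor i).app
      (E.X i)).symm ?_
  refine isPerfect_retract ((r ⋙ single i).map (ModuleCat.ofHom g))
    ((r ⋙ single i).map (ModuleCat.ofHom f)) ?_ (key n)
  rw [← Functor.map_comp, ← ModuleCat.ofHom_comp, hg]
  exact (r ⋙ single i).map_id _

end Groth.Agent.DBaseChange
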