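import Groth.Agent.Lib.DBaseChange.Lift
import Mathlib.RingTheory.Idempotents
import Mathlib.RingTheory.Nakayama
import Mathlib.CategoryTheory.Idempotents.Basic
import Mathlib.Algebra.Module.StablyFree.Basic

/-! Classes of projective modules to which complexes lift. -/

set_option autoImplicit false
set_option linter.style.haveILetI false
set_option backward.isDefEq.respectTransparency false

universe u

open CategoryTheory CategoryTheory.Limits

namespace Groth.Agent.DBaseChange.Lift

variable (R : Type u) [CommRing R] (I : Ideal R)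

/-- All projective modules. -/
def projP : ObjectProperty (ModuleCat.{u} R) := fun X => _root_.Module.Projective R X

/-- Finite projective modules. -/
def finProjP : ObjectProperty (ModuleCat.{u} R) :=
  fun X => _root_.Module.Finite R X ∧ _root_.Module.Projective R X

/-- Finite stably free modules. -/
def stFreeP : ObjectProperty (ModuleCat.{u} R) :=
  fun X => _root_.Module.Finite R X ∧ _root_.Module.IsStablyFree R X

instance : (projP R).IsClosedUnderIsomorphisms :=
  ⟨fun e h => haveI : _root_.Module.Projective R _ := h; _root_.Module.Projective.of_equiv e.toLinearEquiv⟩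

instance : (finProjP R).IsClosedUnderIsomorphisms :=
  ⟨fun e h => haveI := h.1; haveI := h.2
    ⟨_root_.Module.Finite.equiv e.toLinearEquiv, _root_.Module.Projective.of_equiv e.toLinearEquiv⟩⟩

instance : (stFreeP R).IsClosedUnderIsomorphisms :=
  ⟨fun e h => haveI := h.1; haveI := h.2
    ⟨_root_.Module.Finite.equiv e.toLinearEquiv, _root_.Module.IsStablyFree.equiv e.toLinearEquiv⟩⟩

variable {R} {I}

theorem surjective_of_nilpotent (hI : IsNilpotent I) {X Y : Type u} [AddCommGroup X] [_root_.Module R X]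
    [AddCommGroup Y] [_root_.Module R Y] (f : X →ₗ[R] Y)
    (h : LinearMap.range f ⊔ I • (⊤ : Submodule R Y) = ⊤) : Function.Surjective f := by
  obtain ⟨n, hn⟩ := hI
  have : ∀ k, ⊤ ≤ LinearMap.range f ⊔ I ^ k • (⊤ : Submodule R Y) := by
    intro k
    induction k with
    | zero => simp
    | succ k ih =>
      refine ih.trans (sup_le le_sup_left ?_)
      calc I ^ k • ⊤ ≤ I ^ k • (LinearMap.range f ⊔ I • ⊤) := Submodule.smul_mono le_rfl h.ge
        _ ≤ LinearMap.range f ⊔ I ^ (k + 1) • ⊤ := by
          rw [Submodule.smul_sup, pow_succ, Submodule.mul_smul]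
          exact sup_le_sup_right Submodule.smul_le_right _
  have h' := this n
  rw [hn, Submodule.zero_eq_bot, Submodule.bot_smul, sup_bot_eq] at h'
  exact LinearMap.range_eq_top.1 (top_le_iff.1 h')

theorem cls_projective (hI : IsNilpotent I) : Cls I (projP R) where
  proj _ h := h
  compl X Y _ h := haveI : _root_.Module.Projective R (X × Y) := h
    _root_.Module.Projective.of_split (LinearMap.inr R X Y) (LinearMap.snd R X Y) rfl
  surj _ _ f _ _ h := surjective_of_nilpotent hI f.hom h

theorem cls_finProj (hI : I ≤ Ideal.jacobson (⊥ : Ideal R)) : Cls I (finProjP R) where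
  proj _ h := h.2
  compl X Y _ h := haveI : _root_.Module.Finite R (X × Y) := h.1
    haveI : _root_.Module.Projective R (X × Y) := h.2
    ⟨_root_.Module.Finite.of_surjective (LinearMap.snd R X Y) Prod.snd_surjective,
      _root_.Module.Projective.of_split (LinearMap.inr R X Y) (LinearMap.snd R X Y) rfl⟩
  surj _ Y f _ hY h := by
    haveI := hY.1
    exact LinearMap.range_eq_top.1 (top_le_iff.1
      (Submodule.le_of_le_smul_of_le_jacobson_bot _root_.Module.Finite.fg_top hI h.ge))

/-- The reassociation used for stably free complements. -/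
def shuffle (X Y M N : Type u) [AddCommGroup X] [_root_.Module R X] [AddCommGroup Y] [_root_.Module R Y]
    [AddCommGroup M] [_root_.Module R M] [AddCommGroup N] [_root_.Module R N] :
    (((X × Y) × N) × M) ≃ₗ[R] Y × ((X × M) × N) where
  toFun p := (p.1.1.2, (p.1.1.1, p.2), p.1.2)
  invFun p := (((p.2.1.1, p.1), p.2.2), p.2.1.2)
  left_inv _ := rfl
  right_inv _ := rfl
  map_add' _ _ := rfl
  map_smul' _ _ := rfl

theorem cls_stFree (hI : I ≤ Ideal.jacobson (⊥ : Ideal R)) : Cls I (stFreeP R) where
  proj _ h := haveI := h.2; inferInstance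
  compl X Y hX h := by
    haveI : _root_.Module.Finite R (X × Y) := h.1
    haveI : _root_.Module.IsStablyFree R (X × Y) := h.2
    haveI := hX.1
    haveI := hX.2
    refine ⟨_root_.Module.Finite.of_surjective (LinearMap.snd R X Y) Prod.snd_surjective, ?_⟩
    obtain ⟨M, _, _, _, _, _⟩ := _root_.Module.IsStablyFree.exist_free_prod R X
    obtain ⟨N, _, _, _, _, _⟩ := _root_.Module.IsStablyFree.exist_free_prod R (X × Y)
    haveI : _root_.Module.Free R (Y × ((X × M) × N)) := _root_.Module.Free.of_equiv (shuffle X Y M N)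
    exact _root_.Module.IsStablyFree.of_free_prod R Y ((X × M) × N)
  surj _ Y f _ hY h := by
    haveI := hY.1
    exact LinearMap.range_eq_top.1 (top_le_iff.1
      (Submodule.le_of_le_smul_of_le_jacobson_bot _root_.Module.Finite.fg_top hI h.ge))

theorem stFree_prod (X Y : ModuleCat.{u} R) (hX : stFreeP R X) (hY : stFreeP R Y) :
    stFreeP R (ModuleCat.of R (X × Y)) := by
  haveI := hX.1
  haveI := hX.2
  haveI := hY.1
  haveI := hY.2
  refine ⟨inferInstanceAs (_root_.Module.Finite R (X × Y)), ?_⟩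
  obtain ⟨M, _, _, _, _, _⟩ := _root_.Module.IsStablyFree.exist_free_prod R X
  obtain ⟨N, _, _, _, _, _⟩ := _root_.Module.IsStablyFree.exist_free_prod R Y
  haveI : _root_.Module.Free R ((X × Y) × (M × N)) :=
    _root_.Module.Free.of_equiv (LinearEquiv.prodProdProdComm R X M Y N)
  exact _root_.Module.IsStablyFree.of_free_prod R (X × Y) (M × N)

/-- Reduction as a map of endomorphism rings. -/
noncomputable def redEnd (F : ModuleCat.{u} R) : End F →+* End ((red I).obj F) where
  toFun f := (red I).map f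
  map_one' := (red I).map_id F
  map_mul' f g := (red I).map_comp g f
  map_zero' := (red I).map_zero _ _
  map_add' _ _ := (red I).map_add

theorem mem_smul_of_red_eq_zero {F G : ModuleCat.{u} R} (f : F ⟶ G) (hf : (red I).map f = 0) (x : F) :
    f x ∈ I • (⊤ : Submodule R G) := by
  let η := (ModuleCat.extendRestrictScalarsAdj.{u, u, u} (Ideal.Quotient.mk I)).unit
  have h0 : η.app G (f x) = 0 := by
    refine (congrArg (fun k => k x) (η.naturality f)).trans ?_
    show ((red I).map f).hom (η.app F x) = 0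
    rw [hf]
    rfl
  have := unit_eq_zero _ Ideal.Quotient.mk_surjective _ h0
  rwa [Ideal.mk_ker] at this

theorem isNilpotent_of_red_eq_zero (hI : IsNilpotent I) {F : ModuleCat.{u} R} (f : End F)
    (hf : (red I).map f = 0) : IsNilpotent f := by
  obtain ⟨n, hn⟩ := hI
  let e := F.endRingEquiv
  refine ⟨n, e.injective ?_⟩
  rw [map_pow, map_zero]
  have : ∀ k : ℕ, ∀ x, (e f ^ k) x ∈ I ^ k • (⊤ : Submodule R F) := by
    intro k
    induction k with
    | zero => intro x; simp
    | succ k ih =>
      intro x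
      rw [pow_succ, pow_succ, Module.End.mul_apply, Submodule.mul_smul]
      have hx := Submodule.mem_map_of_mem (f := (e f ^ k)) (mem_smul_of_red_eq_zero f hf x)
      rw [Submodule.map_smul''] at hx
      have hle : I • Submodule.map (e f ^ k) ⊤ ≤ I • I ^ k • (⊤ : Submodule R F) :=
        Submodule.smul_mono le_rfl (by rintro _ ⟨y, -, rfl⟩; exact ih y)
      rw [← Submodule.mul_smul, mul_comm, Submodule.mul_smul]
      exact hle hx
  refine LinearMap.ext fun x => ?_
  have h := this n x
  rw [hn, Submodule.zero_eq_bot, Submodule.bot_smul, Submodule.mem_bot] at h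
  exact h

theorem exists_free_surj (N' : ModuleCat.{u} R) : ∃ (F : ModuleCat.{u} R) (ψ : F ⟶ N'),
    _root_.Module.Projective R F ∧ Function.Surjective ψ :=
  ⟨ModuleCat.of R (↑N' →₀ R), ModuleCat.ofHom (Finsupp.linearCombination R id),
    inferInstanceAs (_root_.Module.Projective R (↑N' →₀ R)), fun x => ⟨Finsupp.single x 1, by simp⟩⟩

theorem exists_projective_lift (hI : IsNilpotent I) (N : ModuleCat.{u} (R ⧸ I))
    [_root_.Module.Projective (R ⧸ I) N] :
    ∃ X : ModuleCat.{u} R, projP R X ∧ Nonempty ((red I).obj X ≅ N) := by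
  let adj := ModuleCat.extendRestrictScalarsAdj.{u, u, u} (Ideal.Quotient.mk I)
  let N' := (ModuleCat.restrictScalars (Ideal.Quotient.mk I)).obj N
  obtain ⟨F, ψ, hF, hψ⟩ := exists_free_surj N'
  let q : (red I).obj F ⟶ N := (adj.homEquiv F N).symm ψ
  haveI : Epi q := by
    refine (ModuleCat.epi_iff_surjective _).2 fun x => ?_
    obtain ⟨y, hy⟩ := hψ x
    have h : adj.unit.app F ≫ (ModuleCat.restrictScalars (Ideal.Quotient.mk I)).map q = ψ :=
      ((adj.homEquiv_unit _ _ _).symm).trans ((adj.homEquiv F N).apply_symm_apply ψ)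
    exact ⟨adj.unit.app F y, (congrArg (fun k => k y) h).trans hy⟩
  haveI : Projective N := (IsProjective.iff_projective N).1 inferInstance
  let s := Projective.factorThru (𝟙 N) q
  have hs : s ≫ q = 𝟙 N := Projective.factorThru_comp _ _
  let e₀ : End ((red I).obj F) := q ≫ s
  have he₀ : IsIdempotentElem e₀ := by
    show (q ≫ s) ≫ (q ≫ s) = q ≫ s
    simp [reassoc_of% hs]
  obtain ⟨g, hg⟩ := exists_lift (I := I) hF e₀
  have hnil : ∀ f ∈ RingHom.ker (redEnd (I := I) F), IsNilpotent f := fun f hf =>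
    isNilpotent_of_red_eq_zero hI f hf
  obtain ⟨e, he, hee⟩ := exists_isIdempotentElem_eq_of_ker_isNilpotent (redEnd (I := I) F) hnil e₀ ⟨g, hg⟩ he₀
  obtain ⟨Y, i, p, hip, hpi⟩ := IsIdempotentComplete.idempotents_split F e he
  have hee' : (red I).map e = q ≫ s := hee
  refine ⟨Y, _root_.Module.Projective.of_split i.hom p.hom (congrArg ModuleCat.Hom.hom hip),
    ⟨{ hom := (red I).map i ≫ q, inv := s ≫ (red I).map p, hom_inv_id := ?_, inv_hom_id := ?_ }⟩⟩
  · rw [Category.assoc, ← Category.assoc q, ← hee', ← Functor.map_comp, ← Functor.map_comp, ← hpi,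
      Category.assoc, hip, Category.comp_id, hip, CategoryTheory.Functor.map_id]
  · rw [Category.assoc, ← Category.assoc ((red I).map p), ← Functor.map_comp, hpi, hee']
    simp [hs, reassoc_of% hs]

theorem exists_red_free_iso (N : ModuleCat.{u} (R ⧸ I)) [_root_.Module.Finite (R ⧸ I) N]
    [_root_.Module.Free (R ⧸ I) N] :
    ∃ X : ModuleCat.{u} R, _root_.Module.Finite R X ∧ _root_.Module.Free R X ∧
      Nonempty ((red I).obj X ≅ N) := by
  classical
  let b := _root_.Module.Free.chooseBasis (R ⧸ I) N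
  let ι := _root_.Module.Free.ChooseBasisIndex (R ⧸ I) N
  exact ⟨ModuleCat.of R (ι → R), inferInstanceAs (_root_.Module.Finite R (ι → R)),
    inferInstanceAs (_root_.Module.Free R (ι → R)),
    red_iso_of_tensor ⟨(TensorProduct.piScalarRight R (R ⧸ I) (R ⧸ I) ι).trans b.equivFun.symm⟩⟩

theorem exists_stFree_lift (hI : I ≤ Ideal.jacobson (⊥ : Ideal R)) (N : ModuleCat.{u} (R ⧸ I))
    [_root_.Module.Finite (R ⧸ I) N] [_root_.Module.IsStablyFree (R ⧸ I) N] :
    ∃ X : ModuleCat.{u} R, stFreeP R X ∧ Nonempty ((red I).obj X ≅ N) := by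
  obtain ⟨M, _, _, _, _, _⟩ := _root_.Module.IsStablyFree.exist_free_prod (R ⧸ I) N
  obtain ⟨X, hX, hXf, ⟨eX⟩⟩ := exists_red_free_iso (ModuleCat.of (R ⧸ I) (N × M))
  obtain ⟨Y, hY, hYf, ⟨eY⟩⟩ := exists_red_free_iso (ModuleCat.of (R ⧸ I) M)
  let p : (red I).obj X ⟶ ModuleCat.of (R ⧸ I) M := eX.hom ≫ ModuleCat.ofHom (LinearMap.snd (R ⧸ I) N M)
  haveI : Epi (ModuleCat.ofHom (LinearMap.snd (R ⧸ I) N M)) :=
    (ModuleCat.epi_iff_surjective _).2 Prod.snd_surjective
  obtain ⟨K, hK, ⟨eK⟩, -⟩ := exists_kernel (cls_stFree hI) (X := X) (Y := Y) ⟨hX, inferInstance⟩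
    ⟨hY, inferInstance⟩ p eY
  let k : kernel (ModuleCat.ofHom (LinearMap.snd (R ⧸ I) N M)) ≅ N :=
    ModuleCat.kernelIsoKer _ ≪≫ LinearEquiv.toModuleIso
      ((LinearEquiv.ofEq _ _ (LinearMap.ker_snd (R := R ⧸ I) (M := ↑N) (M₂ := M))).trans
        (LinearEquiv.ofInjective (LinearMap.inl (R ⧸ I) N M) LinearMap.inl_injective).symm)
  exact ⟨K, hK, ⟨eK ≪≫ kernelIsIsoComp eX.hom _ ≪≫ k⟩⟩

end Groth.Agent.DBaseChange.Lift
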