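import Groth.Agent.Lib.DBaseChange.LiftClass
import Groth.Agent.S7011
import Mathlib.LinearAlgebra.Dimension.Finrank
import Mathlib.LinearAlgebra.FiniteDimensional.Basic

/-! Complexes over a field and minimal complexes over a local ring. -/

set_option autoImplicit false
set_option linter.style.haveILetI false
set_option backward.isDefEq.respectTransparency false

universe u

open CategoryTheory CategoryTheory.Limits

attribute [local instance] HasDerivedCategory.standard

namespace Groth.Agent.DBaseChange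

variable {k : Type u} [Field k]

/-- The complex of cohomology modules with zero differentials. -/
noncomputable def zeroD (G : DRing.Cx k) : DRing.Cx k :=
  CochainComplex.of (fun i => G.homology i) (fun _ => 0) (fun _ => zero_comp)

theorem zeroD_d (G : DRing.Cx k) (i j : ℤ) : (zeroD G).d i j = 0 := by
  by_cases h : i + 1 = j
  · subst h; simp [zeroD]
  · exact (zeroD G).shape i j h

theorem nonempty_zeroD_iso (G : DRing.Cx k) : Nonempty (DRing.toD (zeroD G) ≅ DRing.toD G) := by
  have hs : ∀ i, ∃ s : G.homology i →ₗ[k] G.cycles i, (G.homologyπ i).hom ∘ₗ s = LinearMap.id :=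
    fun i => by
      haveI : _root_.Module.Free k (G.homology i) := _root_.Module.Free.of_divisionRing k _
      haveI : _root_.Module.Projective k (G.homology i) := _root_.Module.Projective.of_free
      exact _root_.Module.projective_lifting_property (G.homologyπ i).hom LinearMap.id
        (DMod.homologyπ_surjective G i)
  choose s hs using hs
  let f : zeroD G ⟶ G :=
    { f := fun i => ModuleCat.ofHom ((G.iCycles i).hom ∘ₗ s i)
      comm' := fun i j hij => by
        rw [zeroD_d, zero_comp]
        refine ModuleCat.hom_ext (LinearMap.ext fun (x : G.homology i) => ?_)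
        exact DMod.d_iCycles i j (s i x) }
  have hq : QuasiIso f := by
    rw [quasiIso_iff]
    intro i
    rw [quasiIsoAt_iff_isIso_homologyMap, ConcreteCategory.isIso_iff_bijective]
    refine DMod.homologyMap_bijective_of f (i := i - 1) (k := i + 1) (by simp) (by simp)
      (fun x hx => ?_) (fun (w : G.homology i) y _ hy => ?_)
    · obtain ⟨z, rfl⟩ := DMod.exists_cycle (k := i + 1) (by simp) x hx
      obtain ⟨y, hy⟩ := (DMod.homologyπ_eq_zero_iff (i := i - 1) (by simp) (z - s i (G.homologyπ i z))).1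
        (by rw [map_sub, sub_eq_zero]; exact (LinearMap.congr_fun (hs i) _).symm)
      refine ⟨(G.homologyπ i z : G.homology i), y, by rw [zeroD_d]; rfl, ?_⟩
      show G.iCycles i (s i (G.homologyπ i z)) + _ = _
      rw [hy, map_sub, add_sub_cancel]
    · refine ⟨0, ?_⟩
      rw [map_zero]
      have := (DMod.homologyπ_eq_zero_iff (i := i - 1) (by simp) (s i w)).2 ⟨y, hy⟩
      exact (((LinearMap.congr_fun (hs i) w).symm).trans this).symm
  haveI : IsIso (DerivedCategory.Q.map f) :=
    (DerivedCategory.isIso_Q_map_iff_quasiIso (C := ModuleCat.{u} k) f).2 hq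
  exact ⟨asIso (DerivedCategory.Q.map f)⟩

theorem finite_homology (G : DRing.Cx k) (i : ℤ) [_root_.Module.Finite k (G.X i)] :
    _root_.Module.Finite k (G.homology i) :=
  haveI : _root_.Module.Finite k (G.cycles i) :=
    _root_.Module.Finite.of_injective (G.iCycles i).hom (DMod.iCycles_injective G i)
  _root_.Module.Finite.of_surjective (G.homologyπ i).hom (DMod.homologyπ_surjective G i)

theorem bijective_of_finrank (G : DRing.Cx k) (i : ℤ) [_root_.Module.Finite k (G.X i)]
    (h : _root_.Module.finrank k (G.X i) = _root_.Module.finrank k (G.homology i)) :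
    Function.Bijective (G.iCycles i) ∧ Function.Bijective (G.homologyπ i) := by
  haveI : _root_.Module.Finite k (G.cycles i) :=
    _root_.Module.Finite.of_injective (G.iCycles i).hom (DMod.iCycles_injective G i)
  haveI := finite_homology G i
  have h₁ := LinearMap.finrank_le_finrank_of_injective (f := (G.iCycles i).hom) (DMod.iCycles_injective G i)
  have h₂ := LinearMap.finrank_le_finrank_of_surjective (f := (G.homologyπ i).hom) (DMod.homologyπ_surjective G i)
  refine ⟨⟨DMod.iCycles_injective G i, (LinearMap.injective_iff_surjective_of_finrank_eq_finrank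
    (f := (G.iCycles i).hom) (by omega)).1 (DMod.iCycles_injective G i)⟩,
    ⟨(LinearMap.injective_iff_surjective_of_finrank_eq_finrank
    (f := (G.homologyπ i).hom) (by omega)).2 (DMod.homologyπ_surjective G i), DMod.homologyπ_surjective G i⟩⟩

theorem bijective_of_homologyMap {G H : DRing.Cx k} (f : G ⟶ H) (i : ℤ)
    [_root_.Module.Finite k (G.X i)] [_root_.Module.Finite k (H.X i)]
    (hG : _root_.Module.finrank k (G.X i) = _root_.Module.finrank k (G.homology i))
    (hH : _root_.Module.finrank k (H.X i) = _root_.Module.finrank k (H.homology i))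
    (hf : Function.Bijective (HomologicalComplex.homologyMap f i)) : Function.Bijective (f.f i) := by
  obtain ⟨g₁, g₂⟩ := bijective_of_finrank G i hG
  obtain ⟨e₁, e₂⟩ := bijective_of_finrank H i hH
  have hc : Function.Bijective (HomologicalComplex.cyclesMap f i) := by
    refine ⟨fun x y hxy => g₂.1 (hf.1 ?_), fun y => ?_⟩
    · rw [DMod.homologyMap_π, DMod.homologyMap_π, hxy]
    · obtain ⟨q, hq⟩ := hf.2 (H.homologyπ i y)
      obtain ⟨x, rfl⟩ := g₂.2 q
      exact ⟨x, e₂.1 (by rw [← DMod.homologyMap_π, hq])⟩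
  refine ⟨fun x y hxy => ?_, fun y => ?_⟩
  · obtain ⟨x, rfl⟩ := g₁.2 x
    obtain ⟨y, rfl⟩ := g₁.2 y
    rw [← DMod.iCycles_cyclesMap, ← DMod.iCycles_cyclesMap] at hxy
    rw [hc.1 (e₁.1 hxy)]
  · obtain ⟨y, rfl⟩ := e₁.2 y
    obtain ⟨x, rfl⟩ := hc.2 y
    exact ⟨G.iCycles i x, (DMod.iCycles_cyclesMap _ _ _).symm⟩

section Local

variable {R : Type u} [CommRing R] (m : Ideal R)

theorem finrank_red [Nontrivial R] [m.IsMaximal] (X : ModuleCat.{u} R) [_root_.Module.Finite R X]
    [_root_.Module.Free R X] :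
    _root_.Module.finrank (R ⧸ m) ((Lift.red m).obj X) = _root_.Module.finrank R X := by
  obtain ⟨e⟩ := Lift.red_iso_of_tensor (I := m) (X := X) (N := ModuleCat.of (R ⧸ m) (TensorProduct R (R ⧸ m) X))
    ⟨LinearEquiv.refl _ _⟩
  rw [e.toLinearEquiv.finrank_eq]
  exact _root_.Module.finrank_baseChange

variable [DRing.HasLBaseChange (Ideal.Quotient.mk m)]

theorem minimal_aux [IsLocalRing R] (hm : m = IsLocalRing.maximalIdeal R) [m.IsMaximal] (K : Dual.D R)
    (hK : DRing.IsPseudoCoherent' R K) :
    letI := Ideal.Quotient.field m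
    (∀ i, _root_.Module.Finite (R ⧸ m) (Dual.HD (R ⧸ m) ((DRing.LBaseChange (Ideal.Quotient.mk m)).obj K) i)) ∧
    (∃ b : ℤ, ∀ i, b < i → Subsingleton (Dual.HD (R ⧸ m) ((DRing.LBaseChange (Ideal.Quotient.mk m)).obj K) i)) ∧
    (∃ P : DRing.Cx R, (∃ b : ℤ, DRing.VanishesAbove P b) ∧
      (∀ i : ℤ, _root_.Module.Free R (P.X i) ∧ _root_.Module.Finite R (P.X i) ∧
        _root_.Module.finrank R (P.X i) =
          _root_.Module.finrank (R ⧸ m) (Dual.HD (R ⧸ m) ((DRing.LBaseChange (Ideal.Quotient.mk m)).obj K) i)) ∧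
      Nonempty (DRing.toD P ≅ K)) ∧
    ∀ P Q : DRing.Cx R,
      ((∃ b : ℤ, DRing.VanishesAbove P b) ∧
      (∀ i : ℤ, _root_.Module.Free R (P.X i) ∧ _root_.Module.Finite R (P.X i) ∧
        _root_.Module.finrank R (P.X i) =
          _root_.Module.finrank (R ⧸ m) (Dual.HD (R ⧸ m) ((DRing.LBaseChange (Ideal.Quotient.mk m)).obj K) i)) ∧
      Nonempty (DRing.toD P ≅ K)) →
      ((∃ b : ℤ, DRing.VanishesAbove Q b) ∧
      (∀ i : ℤ, _root_.Module.Free R (Q.X i) ∧ _root_.Module.Finite R (Q.X i) ∧
        _root_.Module.finrank R (Q.X i) =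
          _root_.Module.finrank (R ⧸ m) (Dual.HD (R ⧸ m) ((DRing.LBaseChange (Ideal.Quotient.mk m)).obj K) i)) ∧
      Nonempty (DRing.toD Q ≅ K)) → Nonempty (P ≅ Q) := by
  letI := Ideal.Quotient.field m
  let φ := Ideal.Quotient.mk m
  have hjac : m ≤ Ideal.jacobson (⊥ : Ideal R) := hm ▸ IsLocalRing.maximalIdeal_le_jacobson _
  have hadapt : ∀ (P : DRing.Cx R) (b : ℤ), P.IsStrictlyLE b → (∀ i, _root_.Module.Free R (P.X i)) →
      Adapted P := fun P b _ hf => adapted_of_flat P b (flat_of_free hf)
  obtain ⟨F, c, hFc, hFf, ⟨eF⟩⟩ := id hK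
  haveI := (DMod.vanishesAbove_iff F c).1 hFc
  let G := (extCx φ).obj F
  have hGf := termwiseFiniteFree_ext φ hFf
  haveI : G.IsStrictlyLE c := (CochainComplex.isStrictlyLE_iff _ _).2 fun j hj =>
    Functor.map_isZero (ModuleCat.extendScalars.{u, u, u} φ) (F.isZero_of_isStrictlyLE c j hj)
  let eG : (DRing.LBaseChange φ).obj K ≅ DRing.toD G :=
    (DRing.LBaseChange φ).mapIso eF.symm ≪≫ valueIso φ F (hadapt F c inferInstance fun i => (hFf i).2)
  have hl : ∀ i, Nonempty (Dual.HD (R ⧸ m) ((DRing.LBaseChange φ).obj K) i ≃ₗ[R ⧸ m] G.homology i) := fun i =>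
    ⟨((DMod.HH i).mapIso eG ≪≫ (DerivedCategory.homologyFunctorFactors _ i).app G).toLinearEquiv⟩
  haveI hfinG : ∀ i, _root_.Module.Finite (R ⧸ m) (G.homology i) := fun i =>
    haveI := (hGf i).1; finite_homology G i
  have hvan : ∀ i, c < i → Subsingleton (G.homology i) := fun i hi => by
    have := ModuleCat.subsingleton_of_isZero (G.isZero_of_isStrictlyLE c i hi)
    rw [DMod.subsingleton_homology_iff G (i := i - 1) (k := i + 1) (by simp) (by simp)]
    exact fun x _ => ⟨0, this.elim _ _⟩
  refine ⟨fun i => _root_.Module.Finite.equiv (hl i).some.symm,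
    ⟨c, fun i hi => (hl i).some.toEquiv.subsingleton_congr.2 (hvan i hi)⟩, ?_, ?_⟩
  · obtain ⟨e₀⟩ := nonempty_zeroD_iso G
    have hE : DRing.VanishesAbove (zeroD G) c := fun i hi => (DMod.isZero_iff_subsingleton _).2 (hvan i hi)
    obtain ⟨P, b', hb', hP, hPK, ⟨iso⟩, hfree⟩ := Groth.Agent.S7011.result R m hjac K hK (zeroD G) c hE
      (fun i => ⟨hfinG i, (inferInstanceAs (_root_.Module.IsStablyFree (R ⧸ m) (G.homology i)) : _)⟩)
      ⟨e₀ ≪≫ eG.symm⟩
    refine ⟨P, ⟨b', hb'⟩, fun i => ?_, hPK⟩
    haveI := hfree i (inferInstanceAs (_root_.Module.Free (R ⧸ m) (G.homology i)))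
    haveI := (hP i).1
    refine ⟨inferInstance, inferInstance, ?_⟩
    rw [(hl i).some.finrank_eq, ← finrank_red m (P.X i)]
    exact ((HomologicalComplex.eval _ _ i).mapIso iso).toLinearEquiv.finrank_eq
  · rintro P Q ⟨⟨b, hb⟩, hP, ⟨eP⟩⟩ ⟨⟨b', hb'⟩, hQ, ⟨eQ⟩⟩
    haveI := (DMod.vanishesAbove_iff P b).1 hb
    haveI := (DMod.vanishesAbove_iff Q b').1 hb'
    haveI := DMod.isKProjective b fun i =>
      haveI := (hP i).1; (inferInstance : _root_.Module.Projective R (P.X i))
    obtain ⟨f, hf⟩ := DMod.exists_map_eq (eP ≪≫ eQ.symm).hom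
    haveI : QuasiIso f := by
      rw [← DerivedCategory.isIso_Q_map_iff_quasiIso, hf]; infer_instance
    have hPa := hadapt P b inferInstance fun i => (hP i).1
    have hQa := hadapt Q b' inferInstance fun i => (hQ i).1
    haveI := quasiIso_ext φ f hPa hQa
    have hr : ∀ (T : DRing.Cx R), Adapted T → (DRing.toD T ≅ K) → ∀ i,
        (_root_.Module.finrank (R ⧸ m) (((extCx φ).obj T).homology i) =
          _root_.Module.finrank (R ⧸ m) (Dual.HD (R ⧸ m) ((DRing.LBaseChange φ).obj K) i)) := fun T hT e i =>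
      (((DMod.HH i).mapIso ((DRing.LBaseChange φ).mapIso e.symm ≪≫ valueIso φ T hT)) ≪≫
        (DerivedCategory.homologyFunctorFactors _ i).app ((extCx φ).obj T)).toLinearEquiv.finrank_eq.symm
    have hiso : ∀ i, IsIso (f.f i) := fun i => by
      haveI := (hP i).1
      haveI := (hP i).2.1
      haveI := (hQ i).1
      haveI := (hQ i).2.1
      haveI : _root_.Module.Finite (R ⧸ m) (((extCx φ).obj P).X i) := (finiteFree_ext φ (P.X i) ⟨inferInstance, inferInstance⟩).1
      haveI : _root_.Module.Finite (R ⧸ m) (((extCx φ).obj Q).X i) := (finiteFree_ext φ (Q.X i) ⟨inferInstance, inferInstance⟩).1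
      have hb := bijective_of_homologyMap ((extCx φ).map f) i
        (by rw [hr P hPa eP i, ← (hP i).2.2]; exact finrank_red m (P.X i))
        (by rw [hr Q hQa eQ i, ← (hQ i).2.2]; exact finrank_red m (Q.X i))
        ((ConcreteCategory.isIso_iff_bijective _).1 inferInstance)
      haveI : IsIso ((Lift.red m).map (f.f i)) := (ConcreteCategory.isIso_iff_bijective _).2 hb
      exact Lift.isIso_of_red (Lift.cls_stFree hjac) ⟨inferInstance, inferInstance⟩
        ⟨inferInstance, inferInstance⟩ (f.f i)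
    haveI := HomologicalComplex.Hom.isIso_of_components f
    exact ⟨asIso f⟩

end Local

end Groth.Agent.DBaseChange
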