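import Groth.Agent.Lib.DBaseChange.Nilp2
import Groth.Agent.Lib.DPerf.LocalFibre
import Groth.Agent.Lib.DMod.Amplitude
import Mathlib.RingTheory.LocalRing.Module
import Mathlib.RingTheory.LocalProperties.Submodule
import Mathlib.RingTheory.Localization.BaseChange
import Mathlib.RingTheory.Localization.AtPrime.Basic
import Mathlib.RingTheory.Flat.Localization

/-! Tor amplitude of pseudo-coherent complexes from the fibres at maximal ideals. -/

set_option autoImplicit false
set_option linter.style.haveILetI false
set_option backward.isDefEq.respectTransparency false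

universe u

open CategoryTheory CategoryTheory.Limits MonoidalCategory CategoryTheory.Pretriangulated CategoryTheory.Triangulated
open scoped TensorProduct

attribute [local instance] HasDerivedCategory.standard

namespace Groth.Agent.DBaseChange

open KFlat KFlat.Module Groth.Agent.DPerf.LocalFibre

section Local

variable {A : Type u} [CommRing A] [IsLocalRing A]

theorem fibreExact_of_ext (F : DRing.Cx A) (l : ℤ)
    (h : Subsingleton (((extCx (IsLocalRing.residue A)).obj F).homology l)) : FibreExact F l := by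
  let G := (extCx (IsLocalRing.residue A)).obj F
  intro z
  constructor
  · intro hz
    exact (DMod.subsingleton_homology_iff G (i := l - 1) (k := l + 1) (by simp) (by simp)).1 h z hz
  · rintro ⟨y, rfl⟩
    change G.d l (l + 1) (G.d (l - 1) l y) = 0
    rw [← ModuleCat.comp_apply, G.d_comp_d]
    rfl

/-- One fibre-exact degree splits a free complex. -/
theorem split_of_fibreExact (F : DRing.Cx A) (hF : DRing.TermwiseFiniteFree F) (l : ℤ)
    (h : FibreExact F l) :
    (∀ x : F.X l, F.d l (l + 1) x = 0 → ∃ y, F.d (l - 1) l y = x) ∧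
      _root_.Module.Projective A (F.X (l + 1) ⧸ LinearMap.range (F.d l (l + 1)).hom) := by
  have hdd : ∀ y, F.d l (l + 1) (F.d (l - 1) l y) = 0 := fun y => by
    rw [← ModuleCat.comp_apply, F.d_comp_d]
    rfl
  let g : (F.X l ⧸ LinearMap.range (F.d (l - 1) l).hom) →ₗ[A] F.X (l + 1) :=
    (LinearMap.range (F.d (l - 1) l).hom).liftQ (F.d l (l + 1)).hom (by
      rintro _ ⟨y, rfl⟩; exact hdd y)
  have hg : g ∘ₗ (LinearMap.range (F.d (l - 1) l).hom).mkQ = (F.d l (l + 1)).hom :=
    Submodule.liftQ_mkQ _ _ _
  have hinj : Function.Injective (g.lTensor (IsLocalRing.ResidueField A)) := by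
    rw [injective_iff_map_eq_zero]
    intro z hz
    obtain ⟨w, rfl⟩ := LinearMap.lTensor_surjective _ (Submodule.mkQ_surjective _) z
    rw [← LinearMap.comp_apply, ← LinearMap.lTensor_comp, hg] at hz
    obtain ⟨v, rfl⟩ := (h w).1 hz
    rw [← LinearMap.comp_apply, ← LinearMap.lTensor_comp, LinearMap.range_mkQ_comp,
      LinearMap.lTensor_zero, LinearMap.zero_apply]
  haveI := (hF (l + 1)).1
  haveI := (hF (l + 1)).2
  haveI := (hF l).1
  obtain ⟨g', hg'⟩ := (IsLocalRing.split_injective_iff_lTensor_residueField_injective g).2 hinj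
  have hg₁ : ∀ x, g' (g x) = x := LinearMap.congr_fun hg'
  refine ⟨fun x hx => LinearMap.mem_range.1
    ((Submodule.Quotient.mk_eq_zero (LinearMap.range (F.d (l - 1) l).hom)).1 ?_), ?_⟩
  · rw [← hg₁ (Submodule.Quotient.mk x), show g (Submodule.Quotient.mk x) = 0 from hx, map_zero]
  have hr : LinearMap.range g = LinearMap.range (F.d l (l + 1)).hom := Submodule.range_liftQ _ _ _
  refine _root_.Module.Projective.of_split
    ((LinearMap.range (F.d l (l + 1)).hom).liftQ (LinearMap.id - g ∘ₗ g') ?_)
    (LinearMap.range (F.d l (l + 1)).hom).mkQ (LinearMap.ext fun q => ?_)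
  · rw [← hr]
    rintro _ ⟨x, rfl⟩
    show g x - g (g' (g x)) = 0
    rw [hg₁, sub_self]
  · obtain ⟨x, rfl⟩ := Submodule.mkQ_surjective _ q
    show Submodule.Quotient.mk (x - g (g' x)) = Submodule.Quotient.mk x
    rw [Submodule.Quotient.eq, ← hr]
    exact ⟨- g' x, by rw [map_neg]; abel⟩

/-- Over a local ring fibre exactness outside `[a, b]` bounds the tor amplitude. -/
theorem torAmp_of_fibre_local (F : DRing.Cx A) (B : ℤ) [F.IsStrictlyLE B]
    (hF : DRing.TermwiseFiniteFree F) (a b : ℤ) (h : ∀ l, (l < a ∨ b < l) → FibreExact F l) :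
    DRing.HasTorAmplitudeIn A a b (DRing.toD F) := by
  have hflat : ∀ i, _root_.Module.Flat A (F.X i) := fun i => have := (hF i).2; inferInstance
  haveI : (DRing.toD F).IsGE a := (DMod.isGE_iff _ a).2 fun i hi => by
    rw [DMod.subsingleton_HD_toD_iff, DMod.subsingleton_homology_iff F (i := i - 1) (k := i + 1) (by simp) (by simp)]
    exact (split_of_fibreExact F hF i (h i (Or.inl hi))).1
  haveI : (DRing.toD F).IsLE b := (DMod.isLE_iff _ b).2 fun i hi => by
    rw [DMod.subsingleton_HD_toD_iff, DMod.subsingleton_homology_iff F (i := i - 1) (k := i + 1) (by simp) (by simp)]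
    exact (split_of_fibreExact F hF i (h i (Or.inr hi))).1
  obtain ⟨e⟩ := DMod.exists_truncFrom_iso F a
  let T := DMod.truncFrom F a
  let B' := max B b
  haveI : F.IsStrictlyLE B' := F.isStrictlyLE_of_le B B' (le_max_left _ _)
  have hT : ∀ i, _root_.Module.Flat A (T.X i) := by
    refine DMod.truncFrom_mem DMod.modClass_flat F a (fun i _ => hflat i) ?_
    have hp : _root_.Module.Projective A (F.X a ⧸ LinearMap.range (F.d (a - 1) a).hom) := by
      have := (split_of_fibreExact F hF (a - 1) (h _ (Or.inl (by omega)))).2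
      have key : ∀ m, m = a → _root_.Module.Projective A (F.X m ⧸ LinearMap.range (F.d (a - 1) m).hom) →
          _root_.Module.Projective A (F.X a ⧸ LinearMap.range (F.d (a - 1) a).hom) := by rintro m rfl h; exact h
      exact key _ (sub_add_cancel a 1) this
    exact _root_.Module.Flat.of_linearEquiv (DMod.truncFromBotEquiv F a).symm
  have hV := (DMod.vanishesOutside_iff T a B').1 (DMod.vanishesOutside_truncFrom F a B')
  haveI := hV.1
  haveI := hV.2
  haveI : (DRing.toD T).IsLE b := (DMod.tS A).isLE_of_iso e.symm b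
  obtain ⟨e'⟩ := DMod.exists_truncTo_iso T b
  refine ⟨DMod.truncTo T b, DMod.vanishesOutside_truncTo T b a, fun i => ?_, ⟨e' ≪≫ e⟩⟩
  rcases lt_trichotomy i b with hi | rfl | hi
  · exact DMod.modClass_flat.equiv (DMod.truncToXEquiv T hi).symm (hT i)
  · exact DMod.modClass_flat.equiv (DMod.truncToTopEquiv T i).symm
      (DMod.cycles_mem DMod.resClass_flat i B' (fun j _ => hT j)
        (fun j hj => (DMod.subsingleton_HD_toD_iff T j).1 ((DMod.isLE_iff _ i).1 inferInstance j hj)) i le_rfl)
  · have := ModuleCat.subsingleton_of_isZero (DMod.isZero_truncTo_X T hi)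
    exact DMod.modClass_flat.subsingleton _

end Local

variable {A : Type u} [CommRing A]

theorem subsingleton_tensor_of_ext {S : Type u} [CommRing S] [Algebra A S] (M : ModuleCat.{u} A)
    (h : Subsingleton ((ModuleCat.extendScalars.{u, u, u} (algebraMap A S)).obj M)) :
    Subsingleton (S ⊗[A] M) := by
  have e : (algebraMap A S).toAlgebra = ‹Algebra A S› := Algebra.algebra_ext _ _ fun _ => rfl
  change Subsingleton (@TensorProduct A _ S M _ _ (algebraMap A S).toAlgebra.toModule _) at h
  rw [e] at h
  exact h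

theorem extCx_comp_homology {S T : Type u} [CommRing S] [CommRing T] (φ : A →+* S) (χ : S →+* T)
    (hχ : χ.Flat) (F : DRing.Cx A) (l : ℤ) (h : Subsingleton (((extCx φ).obj F).homology l)) :
    Subsingleton (((extCx (χ.comp φ)).obj F).homology l) := by
  refine (DMod.isZero_iff_subsingleton _).1 ((IsZero.of_iso ?_
    (homologyExtIso χ hχ ((extCx φ).obj F) l)).of_iso
      ((HomologicalComplex.homologyFunctor _ _ l).mapIso (extCompIso φ χ F)))
  exact Functor.map_isZero _ ((DMod.isZero_iff_subsingleton _).2 h)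

/-- Fibres at maximal ideals bound the tor amplitude of a pseudo-coherent complex. -/
theorem torAmp_of_fibres (F : DRing.Cx A) (B : ℤ) [F.IsStrictlyLE B]
    (hF : DRing.TermwiseFiniteFree F) (a b : ℤ)
    (h : ∀ (m : Ideal A), m.IsMaximal → ∀ l, (l < a ∨ b < l) →
      Subsingleton (((extCx (Ideal.Quotient.mk m)).obj F).homology l)) :
    DRing.HasTorAmplitudeIn A a b (DRing.toD F) := by
  have hflat : ∀ i, _root_.Module.Flat A (F.X i) := fun i => have := (hF i).2; inferInstance
  have hFa := adapted_of_flat F B hflat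
  have key : ∀ (M : ModuleCat.{u} A) (i : ℤ), (i < a ∨ b < i) → Subsingleton (((tm M).obj F).homology i) := by
    intro M i hi
    refine _root_.Module.subsingleton_of_localization_maximal
      (fun (P : Ideal A) [P.IsMaximal] => LocalizedModule P.primeCompl (((tm M).obj F).homology i))
      (fun (P : Ideal A) [P.IsMaximal] => LocalizedModule.mkLinearMap P.primeCompl _) fun P hP => ?_
    let S := Localization.AtPrime P
    let φ : A →+* S := algebraMap A S
    have hφ : φ.Flat := RingHom.flat_algebraMap_iff.2 (IsLocalization.flat _ P.primeCompl)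
    let G := (extCx φ).obj F
    haveI : G.IsStrictlyLE B := (CochainComplex.isStrictlyLE_iff _ _).2 fun j hj =>
      Functor.map_isZero (ModuleCat.extendScalars.{u, u, u} φ) (F.isZero_of_isStrictlyLE B j hj)
    have hG : DRing.TermwiseFiniteFree G := termwiseFiniteFree_ext φ hF
    let ψ : A ⧸ P →+* IsLocalRing.ResidueField S :=
      Ideal.Quotient.lift P ((IsLocalRing.residue S).comp φ) fun x hx => by
        refine (IsLocalRing.residue_eq_zero_iff _).2 ?_
        exact (IsLocalization.AtPrime.to_map_mem_maximal_iff S P x).2 hx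
    letI := Ideal.Quotient.field P
    have hψ : ψ.Flat := by
      letI := ψ.toAlgebra
      have : _root_.Module.Flat (A ⧸ P) (IsLocalRing.ResidueField S) := inferInstance
      exact this
    have hfib : ∀ l, (l < a ∨ b < l) → FibreExact G l := fun l hl => by
      refine fibreExact_of_ext G l ?_
      have h' := extCx_comp_homology (Ideal.Quotient.mk P) ψ hψ F l (h P hP l hl)
      have h'' : Subsingleton (((extCx ((IsLocalRing.residue S).comp φ)).obj F).homology l) := h'
      exact ((HomologicalComplex.homologyFunctor _ _ l).mapIso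
        (extCompIso φ (IsLocalRing.residue S) F)).toLinearEquiv.toEquiv.subsingleton_congr.1 h''
    have hb := torBound_of_hasTorAmplitudeIn G B (fun j => have := (hG j).2; inferInstance) a b
      (torAmp_of_fibre_local G B hG a b hfib) ((ModuleCat.extendScalars.{u, u, u} φ).obj M)
    have hz : Subsingleton (((extCx φ).obj ((tm M).obj F)).homology i) := by
      refine ((HomologicalComplex.homologyFunctor _ _ i).mapIso (tmExtIso φ M F)).toLinearEquiv.toEquiv.subsingleton_congr.1 ?_
      refine (DMod.subsingleton_HD_toD_iff _ i).1 ?_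
      rcases hi with hi | hi
      · exact (DMod.isGE_iff _ a).1 hb.1 i hi
      · exact (DMod.isLE_iff _ b).1 hb.2 i hi
    have := subsingleton_tensor_of_ext (S := S) _
      ((homologyExtIso φ hφ ((tm M).obj F) i).toLinearEquiv.toEquiv.subsingleton_congr.1 hz)
    exact (LocalizedModule.equivTensorProduct P.primeCompl _).toEquiv.subsingleton_congr.2 this
  exact (torAmp_iff_torBound hFa a b).2 fun M =>
    ⟨(DMod.isGE_iff _ a).2 fun i hi => (DMod.subsingleton_HD_toD_iff _ i).2 (key M i (Or.inl hi)),
      (DMod.isLE_iff _ b).2 fun i hi => (DMod.subsingleton_HD_toD_iff _ i).2 (key M i (Or.inr hi))⟩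

/-- Base change of an object of tor amplitude `[a, b]` has cohomology in `[a, b]`. -/
theorem subsingleton_homology_ext {S : Type u} [CommRing S] (χ : A →+* S) {G : DRing.Cx A} (c : ℤ)
    [G.IsStrictlyLE c] (hG : ∀ i, _root_.Module.Flat A (G.X i)) {a b : ℤ}
    (h : DRing.HasTorAmplitudeIn A a b (DRing.toD G)) (l : ℤ) (hl : l < a ∨ b < l) :
    Subsingleton (((extCx χ).obj G).homology l) := by
  obtain ⟨E, hE, hEf, ⟨e⟩⟩ := h
  haveI := ((DMod.vanishesOutside_iff E a b).1 hE).2
  haveI : (DRing.toD G).IsLE c := inferInstanceAs ((DerivedCategory.Q.obj G).IsLE c)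
  haveI : (DRing.toD E).IsLE c := (DMod.tS A).isLE_of_iso e.symm c
  obtain ⟨F, hF, hFf, ⟨f⟩⟩ := DMod.exists_free_resolution (DRing.toD G) c
  haveI := DMod.isKProjective c fun i => have := hFf i; (inferInstance : _root_.Module.Projective A (F.X i))
  have hFa := adapted_of_flat F c (flat_of_free hFf)
  obtain ⟨g₁, hg₁⟩ := DMod.exists_map_eq f.hom
  obtain ⟨g₂, hg₂⟩ := DMod.exists_map_eq (f ≪≫ e.symm).hom
  haveI : QuasiIso g₁ := by rw [← DerivedCategory.isIso_Q_map_iff_quasiIso, hg₁]; infer_instance
  haveI : QuasiIso g₂ := by rw [← DerivedCategory.isIso_Q_map_iff_quasiIso, hg₂]; infer_instance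
  haveI := quasiIso_ext χ g₁ hFa (adapted_of_flat G c hG)
  haveI := quasiIso_ext χ g₂ hFa (adapted_of_flat E b hEf)
  let i₁ := asIso (DerivedCategory.Q.map ((extCx χ).map g₁))
  let i₂ := asIso (DerivedCategory.Q.map ((extCx χ).map g₂))
  refine (DMod.subsingleton_HD_toD_iff _ l).1 ?_
  refine ((DMod.HH l).mapIso (i₁.symm ≪≫ i₂)).toLinearEquiv.toEquiv.subsingleton_congr.2 ?_
  refine (DMod.subsingleton_HD_toD_iff _ l).2 ?_
  have := ModuleCat.subsingleton_of_isZero
    (Functor.map_isZero (ModuleCat.extendScalars.{u, u, u} χ) (hE l hl))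
  rw [DMod.subsingleton_homology_iff ((extCx χ).obj E) (i := l - 1) (k := l + 1) (by simp) (by simp)]
  exact fun x _ => ⟨0, this.elim _ _⟩

end Groth.Agent.DBaseChange
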