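import Groth.Agent.Lib.DBaseChange.ResFlat
import Groth.Agent.Lib.DBaseChange.TorTri
import Mathlib.Algebra.Homology.BifunctorShift
import Mathlib.Algebra.Homology.DerivedCategory.ExactFunctor

/-! Tor amplitude over `A` of a derived tensor product over `B`. -/

set_option autoImplicit false
set_option linter.style.haveILetI false
set_option backward.isDefEq.respectTransparency false

universe u

open CategoryTheory CategoryTheory.Limits CategoryTheory.Pretriangulated MonoidalCategory

attribute [local instance] HasDerivedCategory.standard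

namespace Groth.Agent.DBaseChange

open KFlat KFlat.Module

variable {A B : Type u} [CommRing A] [CommRing B] (φ : A →+* B)

/-- `M[0] ⊗ L` is `L ⊗ M` termwise. -/
noncomputable def singleTensorIso (M : ModuleCat.{u} B) (L : DRing.Cx B) :
    ((tcx (TM B)).obj ((HomologicalComplex.single _ (ComplexShape.up ℤ) 0).obj M)).obj L ≅ (tm M).obj L :=
  (flipIso (TM B) L ((HomologicalComplex.single _ (ComplexShape.up ℤ) 0).obj M)).symm ≪≫
    (HomologicalComplex.Hom.isoOfComponents
      (fun p => singleTotalIso (T := (TM B).flip) L 0 M (add_zero p))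
      (fun i j hij => (singleTotalIso_d (T := (TM B).flip) L 0 M (add_zero i) (add_zero j) hij).symm) :
        ((tensorLeft M).mapHomologicalComplex (ComplexShape.up ℤ)).obj L ≅ _).symm ≪≫
    (NatIso.mapHomologicalComplex (BraidedCategory.tensorLeftIsoTensorRight M) (ComplexShape.up ℤ)).app L

theorem geSub_splitting (E : DRing.Cx B) (m i : ℤ) :
    Nonempty ((ShortComplex.mk (DMod.subι E (DMod.geSub E m) (DMod.geSub_stable E m))
      (DMod.quotπ E (DMod.geSub E m) (DMod.geSub_stable E m)) (by
        ext i x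
        exact (Submodule.Quotient.mk_eq_zero (DMod.geSub E m i)).2 x.2)).map
      (HomologicalComplex.eval (ModuleCat.{u} B) (ComplexShape.up ℤ) i)).Splitting := by
  have hex := ModuleCat.shortComplex_shortExact
    ((ShortComplex.mk (DMod.subι E (DMod.geSub E m) (DMod.geSub_stable E m))
      (DMod.quotπ E (DMod.geSub E m) (DMod.geSub_stable E m)) (by
        ext i x
        exact (Submodule.Quotient.mk_eq_zero (DMod.geSub E m i)).2 x.2)).map
      (HomologicalComplex.eval (ModuleCat.{u} B) (ComplexShape.up ℤ) i))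
    (LinearMap.exact_subtype_mkQ (DMod.geSub E m i))
    (Submodule.injective_subtype _) (Submodule.mkQ_surjective _)
  have hr : ∃ r : E.X i →ₗ[B] DMod.geSub E m i, r ∘ₗ (DMod.geSub E m i).subtype = LinearMap.id := by
    by_cases h : m ≤ i
    · exact ⟨(LinearEquiv.ofTop (DMod.geSub E m i) (if_pos h)).symm.toLinearMap, by ext x; rfl⟩
    · refine ⟨0, LinearMap.ext fun x => ?_⟩
      have : Subsingleton ↥(DMod.geSub E m i) := by rw [DMod.geSub, if_neg h]; infer_instance
      exact Subsingleton.elim _ _
  obtain ⟨r, hr⟩ := hr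
  exact ⟨ShortComplex.Splitting.ofExactOfRetraction _ hex.exact (ModuleCat.ofHom r)
    (ModuleCat.hom_ext hr) hex.epi_g⟩

variable (L : DRing.Cx B) {c d : ℤ}

theorem torAmp_res_tensor (hL : DRing.HasTorAmplitudeIn A c d (DRing.toD ((DRing.restrictCx φ).obj L)))
    (E : DRing.Cx B) (a b : ℤ) (hv : DRing.VanishesOutside E a b)
    (hE : ∀ i, _root_.Module.Flat B (E.X i)) :
    DRing.HasTorAmplitudeIn A (a + c) (b + d) (DRing.toD ((DRing.restrictCx φ).obj (E ⊗ L))) := by
  refine DMod.bounded_induction
    (Q := fun E => DRing.HasTorAmplitudeIn A (a + c) (b + d) (DRing.toD ((DRing.restrictCx φ).obj (E ⊗ L))))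
    (p := fun n M => _root_.Module.Flat B M ∧ a ≤ n ∧ n ≤ b)
    (fun E hz => ?_) (fun E n hn hp => ?_) (fun E n h₁ h₂ => ?_)
    (fun n M N e h => ⟨(haveI := h.1; _root_.Module.Flat.of_linearEquiv e.symm.toLinearEquiv), h.2⟩)
    E a b hv (fun i ha hb => ⟨hE i, ha, hb⟩)
  · refine hasTorAmplitudeIn_of_isZero (Functor.map_isZero DerivedCategory.Q (Functor.map_isZero _ ?_)) _ _
    have : IsZero E := by
      rw [IsZero.iff_id_eq_zero]
      ext i : 1
      exact (hz i).eq_of_src _ _
    exact Functor.map_isZero ((tcx (TM B)).flip.obj L) this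
  · haveI := ((DMod.vanishesOutside_iff E n n).1 hn).1
    haveI := ((DMod.vanishesOutside_iff E n n).1 hn).2
    obtain ⟨hF, ha, hb⟩ := hp
    obtain ⟨M, ⟨e⟩⟩ := CochainComplex.exists_iso_single E n
    let eX : E.X n ≅ M := (HomologicalComplex.eval _ _ n).mapIso e ≪≫
      HomologicalComplex.singleObjXSelf (ComplexShape.up ℤ) n M
    haveI : _root_.Module.Flat B (E.X n) := hF
    haveI : _root_.Module.Flat B M := _root_.Module.Flat.of_linearEquiv eX.toLinearEquiv.symm
    let S0 : DRing.Cx B := (HomologicalComplex.single _ (ComplexShape.up ℤ) 0).obj M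
    let es : E ≅ (shiftFunctor (DRing.Cx B) (-n)).obj S0 :=
      e ≪≫ (((CochainComplex.singleFunctors (ModuleCat.{u} B)).shiftIso (-n) n 0 (neg_add_cancel n)).app M).symm
    let et : E ⊗ L ≅ (shiftFunctor (DRing.Cx B) (-n)).obj ((tm M).obj L) :=
      (((tcx (TM B)).flip.obj L).mapIso es) ≪≫
        CochainComplex.mapBifunctorShift₁Iso S0 L (TM B) (-n) ≪≫
        (shiftFunctor (DRing.Cx B) (-n)).mapIso (singleTensorIso M L)
    refine hasTorAmplitudeIn_of_iso ((DMod.toDShiftIso _ (-n)).symm ≪≫ DerivedCategory.Q.mapIso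
      ((((ModuleCat.restrictScalars.{u} φ).mapHomologicalComplex (ComplexShape.up ℤ)).commShiftIso (-n)).app
        ((tm M).obj L)).symm ≪≫ DerivedCategory.Q.mapIso ((DRing.restrictCx φ).mapIso et.symm)) ?_
    exact hasTorAmplitudeIn_mono (a := c + n) (b := d + n) (by omega) (by omega)
      (hasTorAmplitudeIn_shift (-n) (c + n) (d + n) (by omega) (by omega) (torAmp_res_flat φ L M hL))
  · let T : ShortComplex (DRing.Cx B) := ShortComplex.mk (DMod.subι E (DMod.geSub E n) (DMod.geSub_stable E n))
      (DMod.quotπ E (DMod.geSub E n) (DMod.geSub_stable E n)) (by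
        ext i x
        exact (Submodule.Quotient.mk_eq_zero (DMod.geSub E n i)).2 x.2)
    have hT : (T.map ((tcx (TM B)).flip.obj L)).ShortExact :=
      (splitPres_right (TM B) L).shortExact T (geSub_splitting E n)
    haveI : PreservesFiniteLimits (DRing.restrictCx φ) := by
      unfold DRing.restrictCx; infer_instance
    haveI : PreservesFiniteColimits (DRing.restrictCx φ) := by
      unfold DRing.restrictCx; infer_instance
    exact torAmp_triangle₂ _ _ _
      (DerivedCategory.triangleOfSES_distinguished (hT.map_of_exact (DRing.restrictCx φ))) h₁ h₂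

theorem torAmp_res_lTensorCx [DRing.HasLTensorCx B L]
    (hL : DRing.HasTorAmplitudeIn A c d (DRing.toD ((DRing.restrictCx φ).obj L)))
    (K : Dual.D B) (a b : ℤ) (hK : DRing.HasTorAmplitudeIn B a b K) :
    DRing.HasTorAmplitudeIn A (a + c) (b + d) ((DRing.restrictD φ).obj ((DRing.LTensorCx B L).obj K)) := by
  obtain ⟨E, hv, hE, ⟨e⟩⟩ := hK
  haveI := ((DMod.vanishesOutside_iff E a b).1 hv).2
  obtain ⟨t⟩ := nonempty_lTensorCx_iso L (isKFlat_of_boundedAbove E b hE)
  exact hasTorAmplitudeIn_of_iso
    (((ModuleCat.restrictScalars.{u} φ).mapDerivedCategoryFactors.app (E ⊗ L)).symm ≪≫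
      (DRing.restrictD φ).mapIso (t.symm ≪≫ (DRing.LTensorCx B L).mapIso e))
    (torAmp_res_tensor φ L hL E a b hv hE)

end Groth.Agent.DBaseChange
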