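import Groth.Agent.Lib.DBaseChange.ResPerfect
import Groth.Agent.Lib.DMod.PCModule
import Groth.Agent.Lib.DMod.Resolve

/-! Restriction of scalars along a pseudo-coherent algebra and pseudo-coherence. -/

set_option autoImplicit false
set_option linter.unusedSectionVars false
set_option linter.style.haveILetI false
set_option backward.isDefEq.respectTransparency false

universe u

open CategoryTheory CategoryTheory.Limits CategoryTheory.Pretriangulated

attribute [local instance] HasDerivedCategory.standard

namespace Groth.Agent.DBaseChange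

open DMod

section Hom

variable {A B : Type u} [CommRing A] [CommRing B] (φ : A →+* B)

/-- Cohomology commutes with restriction of scalars. -/
theorem nonempty_resHD_iso (K : Dual.D B) (i : ℤ) :
    Nonempty ((HH i).obj ((DRing.restrictD φ).obj K) ≅
      (ModuleCat.restrictScalars.{u} φ).obj ((HH i).obj K)) := by
  let X := DerivedCategory.Q.objPreimage K
  let e : DerivedCategory.Q.obj X ≅ K := DerivedCategory.Q.objObjPreimageIso K
  exact ⟨(HH i).mapIso ((DRing.restrictD φ).mapIso e.symm ≪≫
      (ModuleCat.restrictScalars.{u} φ).mapDerivedCategoryFactors.app X) ≪≫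
    (DerivedCategory.homologyFunctorFactors _ i).app _ ≪≫
    (X.sc i).mapHomologyIso (ModuleCat.restrictScalars.{u} φ) ≪≫
    (ModuleCat.restrictScalars.{u} φ).mapIso
      (((DerivedCategory.homologyFunctorFactors _ i).app X).symm ≪≫ (HH i).mapIso e)⟩

theorem resD_isLE_iff (K : Dual.D B) (n : ℤ) :
    ((DRing.restrictD φ).obj K).IsLE n ↔ K.IsLE n := by
  rw [DMod.isLE_iff, DMod.isLE_iff]
  refine forall₂_congr fun i _ => ?_
  obtain ⟨e⟩ := nonempty_resHD_iso φ K i
  exact e.toLinearEquiv.toEquiv.subsingleton_congr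

theorem finite_of_res (M : ModuleCat.{u} B)
    [h : _root_.Module.Finite A ((ModuleCat.restrictScalars.{u} φ).obj M)] :
    _root_.Module.Finite B M := by
  obtain ⟨n, f, hf⟩ := _root_.Module.Finite.exists_fin' A ((ModuleCat.restrictScalars.{u} φ).obj M)
  let g : (Fin n → B) →ₗ[B] M := Fintype.linearCombination B fun j => (f (Pi.single j 1) : M)
  refine _root_.Module.Finite.of_surjective g fun x => ?_
  obtain ⟨c, rfl⟩ := hf x
  refine ⟨fun j => φ (c j), ?_⟩
  rw [show c = ∑ j, c j • Pi.single j (1 : A) by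
    ext j; simp [Pi.single_apply, Finset.sum_apply]]
  simp only [map_sum, map_smul]
  rw [← show c = ∑ j, c j • Pi.single j (1 : A) by
    ext j; simp [Pi.single_apply, Finset.sum_apply]]
  exact Fintype.linearCombination_apply B _ _

/-- A free generator in the top degree lifts. -/
theorem exists_top_lift (K : Dual.D B) (b : ℤ) [K.IsLE b] (n : ℕ)
    (p : ModuleCat.of B (Fin n → B) ⟶ (HH b).obj K) (hp : Epi p) :
    ∃ α : (single b).obj (ModuleCat.of B (Fin n → B)) ⟶ K,
      ∀ (C : Dual.D B) (g : K ⟶ C) (h : C ⟶ ((single b).obj (ModuleCat.of B (Fin n → B)))⟦(1 : ℤ)⟧),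
        Triangle.mk α g h ∈ distTriang _ → C.IsLE (b - 1) := by
  obtain ⟨K', f, g, h, hT, hK', -, hg⟩ := exists_top_triangle K b
  let F := ModuleCat.of B (Fin n → B)
  let P : DRing.Cx B := (CochainComplex.singleFunctor (ModuleCat.{u} B) b).obj F
  let eP : DRing.toD P ≅ (single b).obj F :=
    ((DerivedCategory.singleFunctorIsoCompQ (ModuleCat.{u} B) b).app F).symm
  have hproj : ∀ i, _root_.Module.Projective B (P.X i) := fun i => by
    by_cases hi : i = b
    · subst hi
      exact _root_.Module.Projective.of_equiv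
        (HomologicalComplex.singleObjXSelf (ComplexShape.up ℤ) i F).toLinearEquiv.symm
    · haveI : Subsingleton (P.X i) :=
        ModuleCat.subsingleton_of_isZero (HomologicalComplex.isZero_single_obj_X _ b F i hi)
      infer_instance
  haveI : P.IsKProjective := DMod.isKProjective b hproj
  haveI : (K'⟦(1 : ℤ)⟧).IsLE (b - 2) := (tS B).isLE_shift K' (b - 1) 1 (b - 2)
  have hz : ((single b).map p ≫ h : (single b).obj F ⟶ K'⟦(1 : ℤ)⟧) = 0 := by
    rw [← cancel_epi eP.hom, comp_zero]
    exact DMod.hom_eq_zero b (b - 2) (by omega) _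
  obtain ⟨α, hα⟩ := Triangle.coyoneda_exact₃ (Triangle.mk f g h) hT ((single b).map p) hz
  refine ⟨α, fun C g' h' hT' => (cone_isLE_iff _ hT' b).2 ⟨fun i hi => ?_, ?_⟩⟩
  · exact ⟨0, (DerivedCategory.isZero_of_isLE ((single b).obj F) b i hi).eq_of_src _ _,
      (DerivedCategory.isZero_of_isLE K b i hi).eq_of_src _ _⟩
  · haveI := hp
    let σ := DerivedCategory.singleFunctorCompHomologyFunctorIso (ModuleCat.{u} B) b
    haveI : Epi ((HH b).map ((single b).map p)) := by
      have := NatIso.naturality_2 σ p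
      change σ.hom.app _ ≫ p ≫ σ.inv.app _ = (HH b).map ((single b).map p) at this
      rw [← this]; infer_instance
    haveI : Epi ((HH b).map α ≫ (HH b).map g) := by
      rw [← Functor.map_comp]
      exact hα ▸ (inferInstance : Epi ((HH b).map ((single b).map p)))
    have := epi_comp ((HH b).map α ≫ (HH b).map g) (inv ((HH b).map g))
    rwa [Category.assoc, IsIso.hom_inv_id, Category.comp_id] at this

end Hom

section Alg

variable {A B : Type u} [CommRing A] [CommRing B] [Algebra A B]

theorem pc_res_single_free (hB : DRing.IsPseudoCoherentModule' A B) (m i : ℤ) (n : ℕ) :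
    DRing.IsPseudoCoherent A m ((single i).obj ((ModuleCat.restrictScalars.{u} (algebraMap A B)).obj (ModuleCat.of B (Fin n → B)))) := by
  induction n with
  | zero =>
    haveI : Subsingleton ((ModuleCat.restrictScalars.{u} (algebraMap A B)).obj (ModuleCat.of B (Fin 0 → B))) :=
      inferInstanceAs (Subsingleton (Fin 0 → B))
    haveI := _root_.Module.Free.of_subsingleton A ((ModuleCat.restrictScalars.{u} (algebraMap A B)).obj (ModuleCat.of B (Fin 0 → B)))
    exact (pc_single_iff m i _).2 (pcModule_finiteFree _ _)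
  | succ n ih =>
    let s : ModuleCat.of B (Fin (n + 1) → B) ≅ ModuleCat.of B B ⊞ ModuleCat.of B (Fin n → B) :=
      (Fin.consLinearEquiv B fun _ : Fin (n + 1) => B).symm.toModuleIso ≪≫
        (ModuleCat.biprodIsoProd (ModuleCat.of B B) (ModuleCat.of B (Fin n → B))).symm
    refine pc_of_iso ((ModuleCat.restrictScalars.{u} (algebraMap A B) ⋙ single i).mapIso s.symm) ?_
    have := preservesBinaryBiproducts_of_preservesBiproducts (ModuleCat.restrictScalars.{u} (algebraMap A B) ⋙ single i)
    refine pc_of_iso ((ModuleCat.restrictScalars.{u} (algebraMap A B) ⋙ single i).mapBiprod _ _).symm (pc_biprod ?_ ih)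
    let g : ModuleCat.of A B ≅ (ModuleCat.restrictScalars.{u} (algebraMap A B)).obj (ModuleCat.of B B) :=
      LinearEquiv.toModuleIso
        ({ AddEquiv.refl B with map_smul' := fun a x => @Algebra.smul_def A B _ _ _ a x } :
          B ≃ₗ[A] (ModuleCat.restrictScalars.{u} (algebraMap A B)).obj (ModuleCat.of B B))
    exact pc_of_iso ((single i).mapIso g) ((pc_single_iff m i _).2 ((pcModule'_iff B).1 hB _))

theorem pc_res_of_pc (hB : DRing.IsPseudoCoherentModule' A B) {K : Dual.D B} {m : ℤ}
    (hK : DRing.IsPseudoCoherent B m K) :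
    DRing.IsPseudoCoherent A m ((DRing.restrictD (algebraMap A B)).obj K) := by
  obtain ⟨E, b, C, α, g, h, hE, hF, hT, hC⟩ := (pc_iff m K).1 hK
  haveI : ((DRing.restrictD (algebraMap A B)).obj C).IsLE (m - 1) := (resD_isLE_iff _ _ _).2 hC
  have hC' : DRing.IsPseudoCoherent A m ((DRing.restrictD (algebraMap A B)).obj C) :=
    pc_of_isLE (n := m - 1) (by omega)
  refine pc_triangle₂ _ ((DRing.restrictD (algebraMap A B)).map_distinguished _ hT) ?_ hC'
  refine pc_of_iso ((ModuleCat.restrictScalars.{u} (algebraMap A B)).mapDerivedCategoryFactors.app E).symm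
    (pc_of_terms (b := b) (fun i hi => Functor.map_isZero (ModuleCat.restrictScalars.{u} (algebraMap A B)) (hE i (Or.inr hi))) fun i _ => ?_)
  haveI := (hF i).1
  haveI := (hF i).2
  obtain ⟨n, ⟨e⟩⟩ : ∃ n : ℕ, Nonempty ((Fin n → B) ≃ₗ[B] E.X i) := by
    rcases subsingleton_or_nontrivial B with hs | hn
    · haveI := _root_.Module.subsingleton B (E.X i)
      exact ⟨0, ⟨LinearEquiv.ofSubsingleton _ _⟩⟩
    · exact ⟨_, ⟨(_root_.Module.finBasis B (E.X i)).equivFun.symm⟩⟩
  have := (pc_single_iff (m - i + 0) 0 _).1 (pc_of_iso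
    ((ModuleCat.restrictScalars.{u} (algebraMap A B) ⋙ single 0).mapIso e.toModuleIso) (pc_res_single_free hB (m - i + 0) 0 n))
  rwa [add_zero, sub_zero] at this

theorem pc_of_pc_res (hB : DRing.IsPseudoCoherentModule' A B) {K : Dual.D B} {m : ℤ}
    (hK : DRing.IsPseudoCoherent A m ((DRing.restrictD (algebraMap A B)).obj K)) :
    DRing.IsPseudoCoherent B m K := by
  let R := DRing.restrictD (algebraMap A B)
  suffices H : ∀ (k : ℕ) (b : ℤ) (K : Dual.D B), K.IsLE b → b < m + k →
      DRing.IsPseudoCoherent A m (R.obj K) → DRing.IsPseudoCoherent B m K by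
    obtain ⟨b, hb⟩ := pc_bddAbove hK
    exact H (b + 1 - m).toNat b K ((resD_isLE_iff _ _ _).1 hb) (by omega) hK
  intro k
  induction k with
  | zero => exact fun b K hK hb _ => pc_of_isLE (n := b) (by simpa using hb)
  | succ k ih =>
    intro b K hK hb h
    by_cases hbm : b < m
    · exact pc_of_isLE (n := b) hbm
    haveI : (R.obj K).IsLE b := (resD_isLE_iff _ _ _).2 hK
    haveI : _root_.Module.Finite A (Dual.HD A (R.obj K) b) := finite_top (pc_mono (by omega) h)
    obtain ⟨e⟩ := nonempty_resHD_iso (algebraMap A B) K b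
    haveI : _root_.Module.Finite A ((ModuleCat.restrictScalars.{u} (algebraMap A B)).obj ((HH b).obj K)) :=
      _root_.Module.Finite.equiv e.toLinearEquiv
    haveI := finite_of_res (algebraMap A B) ((HH b).obj K)
    obtain ⟨n, p, hp⟩ := _root_.Module.Finite.exists_fin' B ((HH b).obj K)
    obtain ⟨α, hα⟩ := exists_top_lift K b n (ModuleCat.ofHom p)
      ((ModuleCat.epi_iff_surjective _).2 hp)
    obtain ⟨C, g, w, hT⟩ := distinguished_cocone_triangle α
    have hC := hα C g w hT
    have hF : ∀ j, DRing.IsPseudoCoherent B j ((single b).obj (ModuleCat.of B (Fin n → B))) :=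
      fun j => (pc_single_iff j b _).2 (pcModule_finiteFree _ _)
    refine pc_triangle₂ _ hT (hF m) (ih (b - 1) C hC (by omega) ?_)
    exact pc_triangle₃ _ (R.map_distinguished _ hT) (pc_res_of_pc hB (hF (m + 1))) h

theorem pc_res_iff (hB : DRing.IsPseudoCoherentModule' A B) (K : Dual.D B) (m : ℤ) :
    DRing.IsPseudoCoherent B m K ↔
      DRing.IsPseudoCoherent A m ((DRing.restrictD (algebraMap A B)).obj K) :=
  ⟨pc_res_of_pc hB, pc_of_pc_res hB⟩

theorem pc'_res_iff (hB : DRing.IsPseudoCoherentModule' A B) (K : Dual.D B) :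
    DRing.IsPseudoCoherent' B K ↔
      DRing.IsPseudoCoherent' A ((DRing.restrictD (algebraMap A B)).obj K) := by
  rw [pc'_iff, pc'_iff]
  exact forall_congr' fun m => pc_res_iff hB K m

end Alg

end Groth.Agent.DBaseChange
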