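import Groth.Agent.Lib.DBaseChange.Value
import Mathlib.RingTheory.TensorProduct.Free

/-!
Derived base change preserves pseudo-coherence.
-/

set_option autoImplicit false

universe u

open CategoryTheory CategoryTheory.Limits CategoryTheory.Pretriangulated

attribute [local instance] HasDerivedCategory.standard

namespace Groth.Agent.DBaseChange

variable {A B : Type u} [CommRing A] [CommRing B] (φ : A →+* B)

theorem finiteFree_ext (M : ModuleCat.{u} A) (h : Module.Finite A M ∧ Module.Free A M) :
    Module.Finite B ((ModuleCat.extendScalars.{u, u, u} φ).obj M) ∧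
      Module.Free B ((ModuleCat.extendScalars.{u, u, u} φ).obj M) := by
  letI := φ.toAlgebra
  have := h.1
  have := h.2
  exact ⟨inferInstanceAs (Module.Finite B (TensorProduct A B M)),
    inferInstanceAs (Module.Free B (TensorProduct A B M))⟩

theorem termwiseFiniteFree_ext {E : DRing.Cx A} (h : DRing.TermwiseFiniteFree E) :
    DRing.TermwiseFiniteFree ((extCx φ).obj E) :=
  fun i => finiteFree_ext φ (E.X i) (h i)

theorem vanishesOutside_ext {E : DRing.Cx A} {a b : ℤ} (h : DRing.VanishesOutside E a b) :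
    DRing.VanishesOutside ((extCx φ).obj E) a b :=
  fun i hi => Functor.map_isZero (ModuleCat.extendScalars.{u, u, u} φ) (h i hi)

theorem flat_cone {P Q : DRing.Cx A} (f : P ⟶ Q) (hP : ∀ i, Module.Flat A (P.X i))
    (hQ : ∀ i, Module.Flat A (Q.X i)) (i : ℤ) :
    Module.Flat A ((CochainComplex.mappingCone f).X i) :=
  DMod.cone_mem DMod.modClass_flat f hP hQ i

variable [DRing.HasLBaseChange φ]

/-- The cone of the base change of a map of adapted complexes. -/
theorem isLE_cone_ext {P Q : DRing.Cx A} (f : P ⟶ Q) (b b' : ℤ) [P.IsStrictlyLE b] [Q.IsStrictlyLE b']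
    (hP : ∀ i, Module.Flat A (P.X i)) (hQ : ∀ i, Module.Flat A (Q.X i)) (n : ℤ)
    (h : (DRing.toD (CochainComplex.mappingCone f)).IsLE n) :
    (DRing.toD (CochainComplex.mappingCone ((extCx φ).map f))).IsLE n := by
  have := DMod.cone_isStrictlyLE f b b' (max b b') (by omega) (le_max_right _ _)
  have := h
  have := isLE_obj φ (DRing.toD (CochainComplex.mappingCone f)) n
  exact DMod.exists_iso_of_isLE _ n
    ((valueIso φ _ (adapted_of_flat _ (max b b') (flat_cone f hP hQ))) ≪≫
      DerivedCategory.Q.mapIso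
        (CochainComplex.mappingCone.mapHomologicalComplexIso f (ModuleCat.extendScalars.{u, u, u} φ)))

theorem pc_obj {K : Dual.D A} {m : ℤ} (hK : DRing.IsPseudoCoherent A m K) :
    DRing.IsPseudoCoherent B m ((DRing.LBaseChange φ).obj K) := by
  obtain ⟨b₀, hb₀⟩ := DMod.pc_bddAbove hK
  obtain ⟨E, a, b, α, hE, hF, h1, h2⟩ := hK
  obtain ⟨P, hP, hfree, ⟨e⟩⟩ := DMod.exists_free_resolution K b₀
  have := ((DMod.vanishesOutside_iff E a b).1 hE).2
  have hEflat : ∀ i, Module.Flat A (E.X i) := fun i => have := (hF i).2; inferInstance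
  have hPflat := flat_of_free hfree
  have : E.IsKProjective := DMod.isKProjective b fun i => have := (hF i).2; inferInstance
  obtain ⟨f, hf⟩ := DMod.exists_map_eq (α ≫ e.inv)
  obtain ⟨g, h, hT⟩ := DMod.exists_cone_triangle f
  have hC : (DRing.toD (CochainComplex.mappingCone f)).IsLE (m - 1) := by
    refine (DMod.cone_isLE_iff _ hT m).2 ⟨fun i hi => ?_, ?_⟩
    · show IsIso ((DMod.HH i).map (DerivedCategory.Q.map f))
      rw [hf, Functor.map_comp]
      have := h1 i hi
      infer_instance
    · show Epi ((DMod.HH m).map (DerivedCategory.Q.map f))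
      rw [hf, Functor.map_comp]
      have := h2
      infer_instance
  obtain ⟨g', h', hT'⟩ := DMod.exists_cone_triangle ((extCx φ).map f)
  obtain ⟨i1, i2⟩ := (DMod.cone_isLE_iff _ hT' m).1 (isLE_cone_ext φ f b b₀ hEflat hPflat (m - 1) hC)
  exact DMod.pc_of_iso
    ((valueIso φ P (adapted_of_flat P b₀ hPflat)).symm ≪≫ (DRing.LBaseChange φ).mapIso e)
    ⟨(extCx φ).obj E, a, b, DerivedCategory.Q.map ((extCx φ).map f), vanishesOutside_ext φ hE,
      termwiseFiniteFree_ext φ hF, i1, i2⟩

end Groth.Agent.DBaseChange
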