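import Groth.Agent.Lib.DBaseChange.Value
import Groth.Agent.Lib.KFlat.DTenBase

/-!
Derived base change is left adjoint to restriction.
-/

set_option autoImplicit false
set_option linter.unusedSectionVars false

universe u

open CategoryTheory CategoryTheory.Limits

attribute [local instance] HasDerivedCategory.standard

namespace Groth.Agent.DBaseChange

open KFlat KFlat.Module

variable {R A : Type u} [CommRing R] [CommRing A] (φ : R →+* A)

theorem adapted_res (K : DRing.Cx R) : Adapted ((DT.res R).obj K) :=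
  ⟨isKFlat_resObj _ K isFlat_cover, isKFlat_flip_resObj _ K isFlat_cover,
    isFlat_resObj_X _ K isFlat_cover⟩

theorem isIso_extQ_map {K K' : DRing.Cx R} (f : K ⟶ K') (hf : DTen.qis R f) (hK : Adapted K)
    (hK' : Adapted K') : IsIso ((DTen.extCx φ ⋙ DerivedCategory.Q).map f) :=
  have : QuasiIso f := hf
  have := quasiIso_ext φ f hK hK'
  inferInstanceAs (IsIso (DerivedCategory.Q.map ((extCx φ).map f)))

theorem nonempty_adjunction [DRing.HasLBaseChange φ] :
    Nonempty (DRing.LBaseChange φ ⊣ DRing.restrictD φ) := by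
  let α : DerivedCategory.Q ⋙ DRing.LBaseChange φ ⟶ DTen.extCx φ ⋙ DerivedCategory.Q := valueMap φ
  let β : DTen.resCx φ ⋙ DerivedCategory.Q ⟶ DerivedCategory.Q ⋙ DRing.restrictD φ :=
    (DTen.resFactors φ).inv
  have : (DRing.LBaseChange φ).IsLeftDerivedFunctor α (DTen.qis R) :=
    KFlat.isLeftDerivedFunctor_of_isIso (W := DTen.qis R) (DT.res R) (DT.aug R) DT.qis_aug _
      (Adapted (A := R)) adapted_res (fun f => isIso_extQ_map φ f) _ _ _ (isIso_valueMap φ)
  have : (DRing.restrictD φ).IsRightDerivedFunctor β (DTen.qis A) :=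
    KFlat.isRightDerivedFunctor_of_iso _ _ _ β
  have : (DRing.LBaseChange φ ⋙ DRing.restrictD φ).IsLeftDerivedFunctor
      ((Functor.associator _ _ _).inv ≫ Functor.whiskerRight α (DRing.restrictD φ)) (DTen.qis R) := by
    refine KFlat.isLeftDerivedFunctor_of_isIso (W := DTen.qis R) (DT.res R) (DT.aug R) DT.qis_aug _
      (Adapted (A := R)) adapted_res (fun f hf hK hK' => ?_) _ _ _ (fun K hK => ?_)
    · have := isIso_extQ_map φ f hf hK hK'
      exact inferInstanceAs (IsIso ((DRing.restrictD φ).map _))
    · have := isIso_valueMap φ K hK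
      simp only [NatTrans.comp_app, Functor.whiskerRight_app, Functor.associator_inv_app]
      infer_instance
  have : (DRing.restrictD φ ⋙ DRing.LBaseChange φ).IsRightDerivedFunctor
      (Functor.whiskerRight β (DRing.LBaseChange φ) ≫ (Functor.associator _ _ _).hom) (DTen.qis A) :=
    KFlat.isRightDerivedFunctor_of_iso _ _ _ _
  exact ⟨(DT.cxAdj φ).derived (DTen.qis R) (DTen.qis A) α β⟩

end Groth.Agent.DBaseChange
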