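import Groth.Agent.Lib.DBaseChange.ResLocal
import Groth.Agent.Lib.DBaseChange.Fibre
import Groth.Agent.Lib.TorBal.Perfect
import Groth.Agent.Lib.RegLoc.GlobalDim
import Mathlib.Algebra.Homology.DerivedCategory.ExactFunctor
import Mathlib.RingTheory.LocalRing.ResidueField.Ideal
import Mathlib.RingTheory.TensorProduct.Quotient
import Mathlib.RingTheory.TensorProduct.Maps
import Mathlib.RingTheory.Flat.Stability

/-!
Perfectness over a flat algebra from finite global dimension of the fibres.
-/

set_option autoImplicit false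
set_option linter.style.haveILetI false
set_option backward.isDefEq.respectTransparency false

universe u

open CategoryTheory CategoryTheory.Limits MonoidalCategory
open scoped TensorProduct

attribute [local instance] HasDerivedCategory.standard

namespace Groth.Agent.DBaseChange

variable {A B : Type u} [CommRing A] [CommRing B] [Algebra A B]

/-- Tensoring a restriction of scalars. -/
noncomputable def tensorResIso (N : ModuleCat.{u} A) :
    tensorRight (ModuleCat.of B (B ⊗[A] N)) ⋙ ModuleCat.restrictScalars.{u} (algebraMap A B) ≅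
      ModuleCat.restrictScalars.{u} (algebraMap A B) ⋙ tensorRight N :=
  NatIso.ofComponents
    (fun X =>
      letI : _root_.Module A X := _root_.Module.compHom X (algebraMap A B)
      haveI : IsScalarTower A B X := ⟨fun a b n => by
        show (a • b) • n = algebraMap A B a • (b • n)
        rw [Algebra.smul_def, mul_smul]⟩
      let c := TensorProduct.AlgebraTensorModule.cancelBaseChange A B B X N
      LinearEquiv.toModuleIso
        ({ c.toAddEquiv with
            map_smul' := fun a z =>
              (c.map_smul (algebraMap A B a) z).trans (algebraMap_smul B a (c z)) } :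
          (ModuleCat.restrictScalars.{u} (algebraMap A B)).obj ((tensorRight (ModuleCat.of B (B ⊗[A] N))).obj X) ≃ₗ[A]
            (tensorRight N).obj ((ModuleCat.restrictScalars.{u} (algebraMap A B)).obj X)))
    fun {X Y} g => by
      letI : _root_.Module A X := _root_.Module.compHom X (algebraMap A B)
      letI : _root_.Module A Y := _root_.Module.compHom Y (algebraMap A B)
      ext z
      induction z using TensorProduct.induction_on with
      | zero => exact (map_zero _).trans (map_zero _).symm
      | add x y hx hy => exact ((map_add _ x y).trans (congrArg₂ (· + ·) hx hy)).trans (map_add _ x y).symm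
      | tmul x w =>
        induction w using TensorProduct.induction_on with
        | zero =>
          erw [TensorProduct.tmul_zero]
          exact (map_zero _).trans (map_zero _).symm
        | add v w hv hw =>
          erw [TensorProduct.tmul_add, map_add, map_add, hv, hw]
        | tmul b n =>
          show ((b • g.hom x) ⊗ₜ[A] n : TensorProduct A ((ModuleCat.restrictScalars.{u} (algebraMap A B)).obj Y) N) =
            (g.hom (b • x)) ⊗ₜ[A] n
          rw [map_smul]

theorem subsingleton_homology_res_iff {R S : Type u} [CommRing R] [CommRing S] (φ : R →+* S)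
    (X : DRing.Cx S) (l : ℤ) :
    Subsingleton (((DRing.restrictCx φ).obj X).homology l) ↔ Subsingleton (X.homology l) :=
  ((X.sc l).mapHomologyIso (ModuleCat.restrictScalars.{u} φ)).toLinearEquiv.toEquiv.subsingleton_congr

theorem subsingleton_homology_fibre (N : ModuleCat.{u} A) {S : Type u} [CommRing S] (ψ : B →+* S)
    (e : ModuleCat.of B (B ⊗[A] N) ≅ algMod ψ) (F : DRing.Cx B) (l : ℤ)
    (h : Subsingleton (((tm N).obj ((DRing.restrictCx (algebraMap A B)).obj F)).homology l)) :
    Subsingleton (((extCx ψ).obj F).homology l) := by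
  let r := DRing.restrictCx (algebraMap A B)
  let e₁ : (DRing.restrictCx (ψ.comp (algebraMap A B))).obj ((extCx ψ).obj F) ≅ r.obj ((tm (algMod ψ)).obj F) :=
    (NatIso.mapHomologicalComplex (resExtIso (algebraMap A B) ψ _ rfl) (ComplexShape.up ℤ)).app F
  let e₂ : (tm (algMod ψ)).obj F ≅ (tm (ModuleCat.of B (B ⊗[A] N))).obj F :=
    (NatIso.mapHomologicalComplex ((tensoringRight (ModuleCat.{u} B)).mapIso e.symm) (ComplexShape.up ℤ)).app F
  let e₃ : r.obj ((tm (ModuleCat.of B (B ⊗[A] N))).obj F) ≅ (tm N).obj (r.obj F) :=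
    (NatIso.mapHomologicalComplex (tensorResIso N) (ComplexShape.up ℤ)).app F
  refine (subsingleton_homology_res_iff (ψ.comp (algebraMap A B)) _ l).1 ?_
  exact ((HomologicalComplex.homologyFunctor _ _ l).mapIso
    (e₁ ≪≫ r.mapIso e₂ ≪≫ e₃)).toLinearEquiv.toEquiv.subsingleton_congr.2 h

theorem flat_res [_root_.Module.Flat A B] (X : ModuleCat.{u} B) [_root_.Module.Flat B X] :
    _root_.Module.Flat A ((ModuleCat.restrictScalars.{u} (algebraMap A B)).obj X) := by
  letI : _root_.Module A X := _root_.Module.compHom X (algebraMap A B)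
  haveI : IsScalarTower A B X := ⟨fun a b n => by
    show (a • b) • n = algebraMap A B a • (b • n)
    rw [Algebra.smul_def, mul_smul]⟩
  exact _root_.Module.Flat.trans A B X

theorem torAmp_of_fibre_rings (F : DRing.Cx B) (Bd : ℤ) [F.IsStrictlyLE Bd]
    (hF : DRing.TermwiseFiniteFree F) (a b : ℤ) (d : ℕ)
    (h : ∀ m : Ideal B, m.IsMaximal → ∃ (S : Type u) (_ : CommRing S) (ψ : B →+* S) (χ : S →+* B ⧸ m),
      χ.comp ψ = Ideal.Quotient.mk m ∧
      (∀ (M : Type u) [AddCommGroup M] [_root_.Module S M],
        DRing.HasTorAmplitudeIn S (-(d : ℤ)) 0 (Dual.inD S M)) ∧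
      ∀ l, (l < a ∨ b < l) → Subsingleton (((extCx ψ).obj F).homology l)) :
    DRing.HasTorAmplitudeIn B (a - d) b (DRing.toD F) := by
  refine torAmp_of_fibres F Bd hF _ _ fun m hm l hl => ?_
  obtain ⟨S, _, ψ, χ, hχ, hM, hH⟩ := h m hm
  let G := (extCx ψ).obj F
  haveI : G.IsStrictlyLE Bd := (CochainComplex.isStrictlyLE_iff _ _).2 fun j hj =>
    Functor.map_isZero (ModuleCat.extendScalars.{u, u, u} ψ) (F.isZero_of_isStrictlyLE Bd j hj)
  have hG : ∀ i, _root_.Module.Flat S (G.X i) := fun i => by
    haveI := (termwiseFiniteFree_ext ψ hF i).2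
    infer_instance
  have hamp := TorBal.amplitude_of_homology d hM (DRing.toD G) a b fun i hi =>
    (DMod.subsingleton_HD_toD_iff G i).2 (hH i hi)
  have h' := subsingleton_homology_ext χ Bd hG hamp l hl
  have h'' := ((HomologicalComplex.homologyFunctor _ _ l).mapIso
    (extCompIso ψ χ F)).toLinearEquiv.toEquiv.subsingleton_congr.2 h'
  rw [hχ] at h''
  exact h''

theorem isPerfect_of_fibres_globalDim [_root_.Module.Flat A B] (d : ℕ)
    (hgl : ∀ (p : PrimeSpectrum A) (M : Type u) [AddCommGroup M]
      [_root_.Module (TensorProduct A p.asIdeal.ResidueField B) M],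
      HasProjectiveDimensionLT (ModuleCat.of (TensorProduct A p.asIdeal.ResidueField B) M) (d + 1))
    (a b : ℤ) (K : Dual.D B) (hK : DRing.IsPseudoCoherent' B K)
    (hKa : DRing.HasTorAmplitudeIn A a b ((DRing.restrictD (algebraMap A B)).obj K)) :
    DRing.IsPerfect B K ∧ DRing.HasTorAmplitudeIn B (a - d) b K := by
  obtain ⟨F, Bd, hBd, hF, ⟨e⟩⟩ := id hK
  haveI := (DMod.vanishesAbove_iff F Bd).1 hBd
  let r := DRing.restrictCx (algebraMap A B)
  haveI : (r.obj F).IsStrictlyLE Bd := (CochainComplex.isStrictlyLE_iff _ _).2 fun j hj =>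
    Functor.map_isZero (ModuleCat.restrictScalars.{u} (algebraMap A B)) (F.isZero_of_isStrictlyLE Bd j hj)
  have hrF : ∀ i, _root_.Module.Flat A ((r.obj F).X i) := fun i => by
    haveI := (hF i).2
    exact flat_res (F.X i)
  have hb := torBound_of_hasTorAmplitudeIn (r.obj F) Bd hrF a b (hasTorAmplitudeIn_of_iso
    ((DRing.restrictD (algebraMap A B)).mapIso e.symm ≪≫
      (ModuleCat.restrictScalars.{u} (algebraMap A B)).mapDerivedCategoryFactors.app F) hKa)
  have ht : DRing.HasTorAmplitudeIn B (a - d) b (DRing.toD F) := by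
    refine torAmp_of_fibre_rings F Bd hF a b d fun m hm => ?_
    let p : PrimeSpectrum A := ⟨m.comap (algebraMap A B), inferInstance⟩
    letI := Ideal.Quotient.field m
    have hf₂ : p.asIdeal.primeCompl ≤ (IsUnit.submonoid (B ⧸ m)).comap (Algebra.ofId A (B ⧸ m)) :=
      fun x hx => by
        refine isUnit_iff_ne_zero.2 fun h0 => hx ?_
        exact (Ideal.Quotient.eq_zero_iff_mem (I := m)).1 h0
    let f : p.asIdeal.ResidueField →ₐ[A] B ⧸ m :=
      Ideal.ResidueField.liftₐ p.asIdeal (Algebra.ofId A (B ⧸ m))
        (fun x hx => RingHom.mem_ker.2 (Ideal.Quotient.eq_zero_iff_mem.2 hx)) hf₂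
    let χ : TensorProduct A p.asIdeal.ResidueField B →ₐ[A] B ⧸ m :=
      Algebra.TensorProduct.lift f (Ideal.Quotient.mkₐ A m) fun _ _ => Commute.all _ _
    let ψ : B →+* TensorProduct A p.asIdeal.ResidueField B :=
      (Algebra.TensorProduct.includeRight : B →ₐ[A] _).toRingHom
    let N := ModuleCat.of A p.asIdeal.ResidueField
    refine ⟨_, inferInstance, ψ, χ.toRingHom, RingHom.ext fun x => ?_,
      fun M _ _ => TorBal.amplitude_of_pd d M (hgl p M), fun l hl => ?_⟩
    · show f 1 * Ideal.Quotient.mk m x = Ideal.Quotient.mk m x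
      rw [map_one, one_mul]
    · let c := TensorProduct.comm A B p.asIdeal.ResidueField
      let e : ModuleCat.of B (B ⊗[A] N) ≅ algMod ψ := LinearEquiv.toModuleIso
        ({ c.toAddEquiv with
            map_smul' := fun x z => by
              show c (x • (z : B ⊗[A] p.asIdeal.ResidueField)) = ψ x * c z
              induction z using TensorProduct.induction_on with
              | zero => simp
              | add z w hz hw => rw [smul_add, map_add, map_add, hz, hw, mul_add]
              | tmul y k => simp [c, ψ, TensorProduct.smul_tmul', Algebra.TensorProduct.tmul_mul_tmul] } :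
          (B ⊗[A] p.asIdeal.ResidueField) ≃ₗ[B] algMod ψ)
      refine subsingleton_homology_fibre N ψ e F l ((DMod.subsingleton_HD_toD_iff _ l).1 ?_)
      rcases hl with hl | hl
      · exact (DMod.isGE_iff _ a).1 (hb N).1 l hl
      · exact (DMod.isLE_iff _ b).1 (hb N).2 l hl
  have ht' := hasTorAmplitudeIn_of_iso e ht
  exact ⟨isPerfect_of_pc_of_torAmp hK ht', ht'⟩

theorem isPerfect_of_regular_fibre [IsLocalRing A] [IsLocalRing B] [IsLocalHom (algebraMap A B)]
    [_root_.Module.Flat A B] (d : ℕ)
    [IsRegularLocalRing (B ⧸ (IsLocalRing.maximalIdeal A).map (algebraMap A B))]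
    (hd : ringKrullDim (B ⧸ (IsLocalRing.maximalIdeal A).map (algebraMap A B)) = d)
    [DRing.HasLBaseChange (IsLocalRing.residue A)] (a b : ℤ) (K : Dual.D B) (hK : DRing.IsPseudoCoherent' B K)
    (h : ∀ i : ℤ, (i < a ∨ b < i) → Subsingleton (Dual.HD (IsLocalRing.ResidueField A)
      ((DRing.LBaseChange (IsLocalRing.residue A)).obj ((DRing.restrictD (algebraMap A B)).obj K)) i)) :
    DRing.IsPerfect B K ∧ DRing.HasTorAmplitudeIn B (a - d) b K := by
  obtain ⟨F, Bd, hBd, hF, ⟨e⟩⟩ := id hK
  haveI := (DMod.vanishesAbove_iff F Bd).1 hBd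
  let r := DRing.restrictCx (algebraMap A B)
  haveI : (r.obj F).IsStrictlyLE Bd := (CochainComplex.isStrictlyLE_iff _ _).2 fun j hj =>
    Functor.map_isZero (ModuleCat.restrictScalars.{u} (algebraMap A B)) (F.isZero_of_isStrictlyLE Bd j hj)
  have hrF : ∀ i, _root_.Module.Flat A ((r.obj F).X i) := fun i => by
    haveI := (hF i).2
    exact flat_res (F.X i)
  let I := IsLocalRing.maximalIdeal A
  let J := I.map (algebraMap A B)
  let N := algMod (IsLocalRing.residue A)
  have hN : ∀ l, (l < a ∨ b < l) → Subsingleton (((tm N).obj (r.obj F)).homology l) := fun l hl => by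
    let t := (DRing.LBaseChange (IsLocalRing.residue A)).mapIso
        ((DRing.restrictD (algebraMap A B)).mapIso e.symm ≪≫
          (ModuleCat.restrictScalars.{u} (algebraMap A B)).mapDerivedCategoryFactors.app F) ≪≫
      valueIso (IsLocalRing.residue A) (r.obj F) (adapted_of_flat _ Bd hrF)
    have h1 := (DMod.subsingleton_HD_toD_iff _ l).1
      (((DMod.HH l).mapIso t).toLinearEquiv.toEquiv.subsingleton_congr.1 (h l hl))
    let ei : (DRing.restrictCx (IsLocalRing.residue A)).obj ((extCx (IsLocalRing.residue A)).obj (r.obj F)) ≅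
        (DRing.restrictCx (RingHom.id A)).obj ((tm N).obj (r.obj F)) :=
      (NatIso.mapHomologicalComplex (resExtIso (RingHom.id A) (IsLocalRing.residue A) _
        (RingHom.comp_id _).symm) (ComplexShape.up ℤ)).app (r.obj F)
    exact (subsingleton_homology_res_iff (RingHom.id A) _ l).1
      (((HomologicalComplex.homologyFunctor _ _ l).mapIso ei).toLinearEquiv.toEquiv.subsingleton_congr.1
        ((subsingleton_homology_res_iff (IsLocalRing.residue A) _ l).2 h1))
  have ht : DRing.HasTorAmplitudeIn B (a - d) b (DRing.toD F) := by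
    refine torAmp_of_fibre_rings F Bd hF a b d fun m hm => ?_
    obtain rfl := IsLocalRing.eq_maximalIdeal hm
    have hle : J ≤ IsLocalRing.maximalIdeal B := Ideal.map_le_iff_le_comap.2 fun x hx =>
      map_nonunit (algebraMap A B) x hx
    refine ⟨B ⧸ J, inferInstance, Ideal.Quotient.mk J, Ideal.Quotient.factor hle,
      Ideal.Quotient.factor_comp_mk hle, fun M _ _ => TorBal.amplitude_of_pd d M
        (RegLoc.hasProjectiveDimensionLT_of_regular ?_ (ModuleCat.of (B ⧸ J) M)), fun l hl => ?_⟩
    · exact_mod_cast (IsRegularLocalRing.spanFinrank_maximalIdeal (R := B ⧸ J)).trans hd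
    · let q : (B ⊗[A] (A ⧸ I)) ≃ₗ[B] (B ⧸ J) :=
        (Algebra.TensorProduct.quotIdealMapEquivTensorQuot B I).symm.toLinearEquiv
      let e' : ModuleCat.of B (B ⊗[A] N) ≅ algMod (Ideal.Quotient.mk J) :=
        (LinearEquiv.toModuleIso
          ((TensorProduct.AlgebraTensorModule.congr (LinearEquiv.refl B B)
            ({ AddEquiv.refl (A ⧸ I) with map_smul' := fun x z => (Algebra.smul_def (R := A) (A := A ⧸ I) x (z : A ⧸ I)).symm } :
              N ≃ₗ[A] (A ⧸ I))).trans (q.trans
            ({ AddEquiv.refl (B ⧸ J) with map_smul' := fun x z => Algebra.smul_def x z } :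
              (B ⧸ J) ≃ₗ[B] algMod (Ideal.Quotient.mk J)))))
      exact subsingleton_homology_fibre N _ e' F l (hN l hl)
  have ht' := hasTorAmplitudeIn_of_iso e ht
  exact ⟨isPerfect_of_pc_of_torAmp hK ht', ht'⟩

end Groth.Agent.DBaseChange
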