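import Groth.Agent.Lib.DMod.Splitting
import Groth.Agent.Lib.DMod.PCModule
import Groth.Agent.Lib.DBaseChange.TorTri
import Groth.Agent.Lib.HomDim.LocalizePd
import Groth.Agent.Lib.HomDim.Basic
import Groth.Agent.Lib.FlatSyz.TorDim
import Groth.Agent.Lib.TorBal.Perfect
import Mathlib.RingTheory.Ideal.Height

/-! Morphisms across a gap of cohomology over a regular ring. -/

set_option autoImplicit false
set_option linter.style.haveILetI false
set_option backward.isDefEq.respectTransparency false

universe u

open CategoryTheory CategoryTheory.Limits CategoryTheory.Pretriangulated CategoryTheory.Triangulated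

attribute [local instance] HasDerivedCategory.standard

namespace Groth.Agent.DBaseChange

open DMod

variable {R : Type u} [CommRing R]

theorem pd_le_dim_of_regular [IsNoetherianRing R]
    (hreg : ∀ p : PrimeSpectrum R, IsRegularLocalRing (Localization.AtPrime p.asIdeal)) (d : ℕ)
    (hd : ringKrullDim R = d) (M : ModuleCat.{u} R) : HasProjectiveDimensionLE M d := by
  refine HomDim.hasProjectiveDimensionLT_of_forall_cyclic d (fun I => ?_) M
  refine ((ModuleCat.of R (R ⧸ I)).hasProjectiveDimensionLE_iff_forall_primeSpectrum d).2 fun q => ?_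
  haveI := hreg q
  refine (HomDim.hasPD_of_iso_iff (HomDim.locIso q.asIdeal.primeCompl (R ⧸ I)) _).2 ?_
  have hle : (IsLocalRing.maximalIdeal (Localization.AtPrime q.asIdeal)).spanFinrank ≤ d := by
    have h1 : ((IsLocalRing.maximalIdeal (Localization.AtPrime q.asIdeal)).spanFinrank : WithBot ℕ∞) ≤
        (d : WithBot ℕ∞) := by
      rw [IsRegularLocalRing.spanFinrank_maximalIdeal, ← hd,
        IsLocalization.AtPrime.ringKrullDim_eq_height q.asIdeal (Localization.AtPrime q.asIdeal)]
      exact Ideal.height_le_ringKrullDim_of_ne_top q.isPrime.ne_top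
    exact_mod_cast h1
  exact @hasProjectiveDimensionLT_of_ge _ _ _ _
    ((IsLocalRing.maximalIdeal (Localization.AtPrime q.asIdeal)).spanFinrank + 1) _ (by omega)
    (RegLoc.hasProjectiveDimensionLT_of_regular rfl _)

theorem hom_single_zero (d : ℕ) : ∀ (H : Type u) [AddCommGroup H] [_root_.Module R H],
    HasProjectiveDimensionLE (ModuleCat.of R H) d →
      ∀ (X : Dual.D R) (c : ℤ), X.IsLE c → c < -(d : ℤ) →
        Subsingleton ((single 0).obj (ModuleCat.of R H) ⟶ X) := by
  have free : ∀ (F : ModuleCat.{u} R), _root_.Module.Projective R F → ∀ (X : Dual.D R) (c : ℤ), X.IsLE c →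
      c < 0 → ∀ f : (single 0).obj F ⟶ X, f = 0 := by
    intro F hF X c hX hc f
    let P : DRing.Cx R := (CochainComplex.singleFunctor (ModuleCat.{u} R) 0).obj F
    let eP : DRing.toD P ≅ (single 0).obj F :=
      ((DerivedCategory.singleFunctorIsoCompQ (ModuleCat.{u} R) 0).app F).symm
    haveI : P.IsKProjective := DMod.isKProjective 0 fun i => by
      by_cases hi : i = 0
      · subst hi
        exact _root_.Module.Projective.of_equiv
          (HomologicalComplex.singleObjXSelf (ComplexShape.up ℤ) 0 F).toLinearEquiv.symm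
      · haveI : Subsingleton (P.X i) :=
          ModuleCat.subsingleton_of_isZero (HomologicalComplex.isZero_single_obj_X _ 0 F i hi)
        infer_instance
    rw [← cancel_epi eP.hom, comp_zero]
    exact DMod.hom_eq_zero 0 c hc _
  induction d with
  | zero =>
    intro H _ _ h X c hX hc
    have : _root_.Module.Projective R H :=
      (IsProjective.iff_projective H).2 ((projective_iff_hasProjectiveDimensionLE_zero _).2 h)
    exact ⟨fun f g => by rw [free _ this X c hX (by omega) f, free _ this X c hX (by omega) g]⟩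
  | succ d ih =>
    intro H _ _ h X c hX hc
    let p := Finsupp.linearCombination R (id : H → H)
    have hp : Function.Surjective p := Finsupp.linearCombination_id_surjective R H
    let i : LinearMap.ker p →ₗ[R] (H →₀ R) := (LinearMap.ker p).subtype
    have hex : Function.Exact i p := LinearMap.exact_subtype_ker_map p
    have hiff := FlatSyz.hasProjectiveDimensionLE_succ_iff (R := R) (K := ↥(LinearMap.ker p)) (F := H →₀ R)
      (M := H) i (LinearMap.ker p).injective_subtype p hex hp d
    obtain ⟨t, hT⟩ := exists_surj_triangle p hp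
    suffices ∀ f : (single 0).obj (ModuleCat.of R H) ⟶ X, f = 0 from ⟨fun f g => by rw [this f, this g]⟩
    intro f
    obtain ⟨f', hf'⟩ := Triangle.yoneda_exact₃ _ hT f
      (free _ (inferInstanceAs (_root_.Module.Projective R (H →₀ R))) X c hX (by omega) _)
    haveI : (X⟦(-1 : ℤ)⟧).IsLE (c + 1) := (tS R).isLE_shift X c (-1) (c + 1)
    have h0 := ih ↥(LinearMap.ker p) (hiff.1 h) (X⟦(-1 : ℤ)⟧) (c + 1) inferInstance (by omega)
    have : f' = 0 := by
      refine (shiftFunctor (Dual.D R) (-1 : ℤ)).map_injective ?_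
      rw [Functor.map_zero, ← cancel_epi ((shiftFunctorCompIsoId (Dual.D R) (1 : ℤ) (-1) (by omega)).inv.app
        ((single 0).obj (ModuleCat.of R ↥(LinearMap.ker p)))), comp_zero]
      exact h0.elim _ _
    rw [hf', this]
    exact comp_zero

theorem hom_eq_zero_of_gap (d : ℕ) (hM : ∀ M : ModuleCat.{u} R, HasProjectiveDimensionLE M d)
    (K L : Dual.D R) (a b c : ℤ) [L.IsLE c] (hc : c < a - d)
    (hK : ∀ i, i < a ∨ b < i → Subsingleton (Dual.HD R K i)) : Subsingleton (K ⟶ L) := by
  suffices H : ∀ X : Dual.D R, X.IsLE c → Subsingleton (K ⟶ X) from H L inferInstance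
  refine prop_of_homology (fun K => ∀ X : Dual.D R, X.IsLE c → Subsingleton (K ⟶ X))
    (fun {K K'} e h X hX => ⟨fun f g => (cancel_epi e.hom).1 ((h X hX).elim _ _)⟩)
    (fun K hK X _ => ⟨fun f g => hK.eq_of_src f g⟩)
    (fun T hT h₁ h₃ X hX => ?_) K a b hK fun i X hX => ?_
  · suffices ∀ f : T.obj₂ ⟶ X, f = 0 from ⟨fun f g => by rw [this f, this g]⟩
    intro f
    obtain ⟨f', hf'⟩ := Triangle.yoneda_exact₂ T hT f ((h₁ X hX).elim _ _)
    rw [hf', (h₃ X hX).elim f' 0, comp_zero]
  · by_cases hi : i < a ∨ b < i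
    · haveI : Subsingleton ((HH i).obj K) := hK i hi
      exact ⟨fun f g => (Functor.map_isZero (single i) (ModuleCat.isZero_of_subsingleton _)).eq_of_src f g⟩
    · haveI : (X⟦i⟧).IsLE (c - i) := (tS R).isLE_shift X c i (c - i)
      have h0 := hom_single_zero (R := R) d ((HH i).obj K) (hM _) (X⟦i⟧) (c - i) inferInstance (by omega)
      refine ⟨fun f g => ?_⟩
      rw [← cancel_epi (singleShiftIso i ((HH i).obj K)).hom]
      refine (shiftFunctor (Dual.D R) i).map_injective ?_
      rw [← cancel_epi ((shiftFunctorCompIsoId (Dual.D R) (-i) i (by omega)).inv.app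
        ((single 0).obj ((HH i).obj K)))]
      exact h0.elim _ _

theorem exists_split_of_gap (d : ℕ) (hM : ∀ M : ModuleCat.{u} R, HasProjectiveDimensionLE M d)
    (K : Dual.D R) (b : ℤ) (hb : ∀ i, b < i → Subsingleton (Dual.HD R K i)) (k n : ℤ) (hn : n + d = k + 2)
    (hnk : n ≤ k + 1)
    (hgap : ∀ i : ℤ, n ≤ i → i ≤ k → Subsingleton (Dual.HD R K i))
    [HasBinaryBiproduct (((tS R).truncLT n).obj K) (((tS R).truncGE (k + 1)).obj K)] :
    ∃ e : K ≅ ((tS R).truncLT n).obj K ⊞ ((tS R).truncGE (k + 1)).obj K,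
      ((tS R).truncLTι n).app K ≫ e.hom = biprod.inl ∧
        e.hom ≫ biprod.snd = ((tS R).truncGEπ (k + 1)).app K := by
  let ν := ((tS R).natTransTruncLTOfLE n (k + 1) hnk).app K
  have hι : ν ≫ ((tS R).truncLTι (k + 1)).app K = ((tS R).truncLTι n).app K :=
    (tS R).natTransTruncLTOfLE_ι_app _ _ _ _
  haveI : (((tS R).truncLT n).obj K).IsLE (n - 1) := (tS R).isLE_truncLT_obj K n (n - 1) (by omega)
  haveI : (((tS R).truncLT (k + 1)).obj K).IsLE k := (tS R).isLE_truncLT_obj K (k + 1) k (by omega)
  haveI : IsIso ν := by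
    rw [DerivedCategory.isIso_iff]
    intro i
    by_cases hi : i < n
    · have e1 := DerTrunc.isIso_homology_truncLTι K n i hi
      have e2 := DerTrunc.isIso_homology_truncLTι K (k + 1) i (by omega)
      rw [← hι, Functor.map_comp] at e1
      exact IsIso.of_isIso_comp_right _ ((HH i).map (((tS R).truncLTι (k + 1)).app K))
    · refine (DerivedCategory.isZero_of_isLE _ (n - 1) i (by omega)).isIso ?_ _
      by_cases hi' : i ≤ k
      · have e2 := DerTrunc.isIso_homology_truncLTι K (k + 1) i (by omega)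
        exact ((DMod.isZero_iff_subsingleton _).2 (hgap i (by omega) hi')).of_iso
          (asIso ((HH i).map (((tS R).truncLTι (k + 1)).app K)))
      · exact DerivedCategory.isZero_of_isLE _ k i (by omega)
  have hT := isomorphic_distinguished _ ((tS R).triangleLTGE_distinguished (k + 1) K)
    (Triangle.mk (((tS R).truncLTι n).app K) (((tS R).truncGEπ (k + 1)).app K)
      (((tS R).truncGEδLT (k + 1)).app K ≫ (shiftFunctor (Dual.D R) (1 : ℤ)).map (inv ν)))
    (Triangle.isoMk _ _ (asIso ν) (Iso.refl _) (Iso.refl _)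
      ((Category.comp_id _).trans hι.symm)
      ((Category.comp_id _).trans (Category.id_comp _).symm)
      (by
        show (((tS R).truncGEδLT (k + 1)).app K ≫ _) ≫ (shiftFunctor (Dual.D R) (1 : ℤ)).map ν =
          𝟙 _ ≫ ((tS R).truncGEδLT (k + 1)).app K
        rw [Category.assoc, ← Functor.map_comp, IsIso.inv_hom_id, CategoryTheory.Functor.map_id]
        exact (Category.comp_id _).trans (Category.id_comp _).symm))
  have hz : ∀ i, i < k + 1 ∨ b < i → Subsingleton (Dual.HD R (((tS R).truncGE (k + 1)).obj K) i) := by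
    intro i hi
    by_cases hik : i < k + 1
    · haveI : (((tS R).truncGE (k + 1)).obj K).IsGE (k + 1) := inferInstanceAs ((tS R).IsGE _ (k + 1))
      exact (DMod.isGE_iff _ (k + 1)).1 inferInstance i hik
    · haveI := DerTrunc.isIso_homology_truncGEπ K (k + 1) i (by omega)
      haveI : Subsingleton ((HH i).obj ((𝟭 (Dual.D R)).obj K)) := hb i (hi.resolve_left hik)
      exact (asIso ((HH i).map (((tS R).truncGEπ (k + 1)).app K))).symm.toLinearEquiv.toEquiv.subsingleton
  haveI : ((((tS R).truncLT n).obj K)⟦(1 : ℤ)⟧).IsLE (n - 2) :=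
    (tS R).isLE_shift _ (n - 1) 1 (n - 2)
  have h0 := hom_eq_zero_of_gap d hM (((tS R).truncGE (k + 1)).obj K)
    ((((tS R).truncLT n).obj K)⟦(1 : ℤ)⟧) (k + 1) b (n - 2) (by omega) hz
  obtain ⟨e, he₁, he₂⟩ := exists_iso_binaryBiproduct_of_distTriang _ hT (h0.elim _ _)
  exact ⟨e, he₁, he₂.symm⟩

end Groth.Agent.DBaseChange
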