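import Groth.Agent.Lib.DBaseChange.TorAmp
import Groth.Agent.Lib.DBaseChange.TensorValue
import Groth.Agent.Lib.KFlat.DTen
import Groth.Agent.Lib.KFlat.Flat
import Groth.Agent.Lib.KFlat.Api

/-!
Tor amplitude of a complex read off from tensor products with K-flat resolutions of modules.
-/

set_option autoImplicit false
set_option linter.style.haveILetI false
set_option backward.isDefEq.respectTransparency false

universe u

open CategoryTheory CategoryTheory.Limits MonoidalCategory

attribute [local instance] HasDerivedCategory.standard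

namespace Groth.Agent.DBaseChange

open KFlat KFlat.Module

variable {R : Type u} [CommRing R]

theorem exists_qres (M : ModuleCat.{u} R) :
    ∃ (Q : DRing.Cx R) (q : Q ⟶ (HomologicalComplex.single _ (ComplexShape.up ℤ) 0).obj M),
      DRing.IsKFlat R Q ∧ QuasiIso q := by
  obtain ⟨Q, q, hQ, -, -, hq, -⟩ := exists_resolution (T := TM R) cover isFlat_cover
    ((HomologicalComplex.single _ (ComplexShape.up ℤ) 0).obj M)
  exact ⟨Q, q, (isKFlat_iff _).1 hQ, hq⟩

/-- A K-flat resolution of a module. -/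
noncomputable def qres (M : ModuleCat.{u} R) : DRing.Cx R := (exists_qres M).choose

/-- Tensoring with it. -/
noncomputable abbrev qT (M : ModuleCat.{u} R) : DRing.Cx R ⥤ DRing.Cx R := (tcx (TM R)).obj (qres M)

/-- `M[0] ⊗ P` in a degree is `M ⊗ P`. -/
theorem exactAt_single_tensor_iff (M : ModuleCat.{u} R) (P : DRing.Cx R) (i : ℤ) :
    ((((tcx (TM R)).obj ((HomologicalComplex.single _ (ComplexShape.up ℤ) 0).obj M))).obj P).ExactAt i ↔
      ((tm M).obj P).ExactAt i := by
  let e := flipIso (TM R) P ((HomologicalComplex.single _ (ComplexShape.up ℤ) 0).obj M)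
  rw [← exactAt_iff_of_quasiIsoAt e.hom i, exactAt_tcx_single_iff (T := (TM R).flip) P 0 M i i (add_zero i)]
  let t : ((tensorLeft M).mapHomologicalComplex (ComplexShape.up ℤ)).obj P ≅ (tm M).obj P :=
    (NatIso.mapHomologicalComplex (BraidedCategory.tensorLeftIsoTensorRight M) (ComplexShape.up ℤ)).app P
  rw [← exactAt_iff_of_quasiIsoAt t.hom i,
    HomologicalComplex.exactAt_iff' _ (i - 1) i (i + 1) (by simp) (by simp)]
  exact Iff.rfl

theorem exactAt_qT_iff (M : ModuleCat.{u} R) {P W : DRing.Cx R} (g : P ⟶ W) [QuasiIso g]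
    (hP : DRing.IsKFlat R P) (i : ℤ) : ((qT M).obj W).ExactAt i ↔ ((tm M).obj P).ExactAt i := by
  obtain ⟨hQ, hq⟩ := (exists_qres M).choose_spec.choose_spec
  have h1 : QuasiIso (qres M ◁ g) := DT.quasiIso_whiskerLeft g hQ
  have h2 : QuasiIso ((exists_qres M).choose_spec.choose ▷ P) :=
    ((isKFlat_iff _).2 hP).quasiIso_map₁ _
  refine (exactAt_iff_of_quasiIsoAt (qres M ◁ g) i).symm.trans ?_
  exact (exactAt_iff_of_quasiIsoAt ((exists_qres M).choose_spec.choose ▷ P) i).trans
    (exactAt_single_tensor_iff M P i)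

theorem isGE_isLE_iff (X : DRing.Cx R) (a b : ℤ) :
    ((DRing.toD X).IsGE a ∧ (DRing.toD X).IsLE b) ↔ ∀ i, (i < a ∨ b < i) → X.ExactAt i := by
  rw [DMod.isGE_iff, DMod.isLE_iff]
  refine ⟨fun h i hi => (DMod.exactAt_iff_subsingleton X i).2 ((DMod.subsingleton_HD_toD_iff X i).1
      (hi.elim (h.1 i) (h.2 i))), fun h => ⟨fun i hi => ?_, fun i hi => ?_⟩⟩
  · exact (DMod.subsingleton_HD_toD_iff X i).2 ((DMod.exactAt_iff_subsingleton X i).1 (h i (Or.inl hi)))
  · exact (DMod.subsingleton_HD_toD_iff X i).2 ((DMod.exactAt_iff_subsingleton X i).1 (h i (Or.inr hi)))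

theorem exists_flat_quasiIso_hom (W : DRing.Cx R) (b : ℤ) [(DRing.toD W).IsLE b] :
    ∃ (P : DRing.Cx R) (g : P ⟶ W), P.IsStrictlyLE b ∧ (∀ i, _root_.Module.Flat R (P.X i)) ∧
      QuasiIso g := by
  obtain ⟨P, hP, hPf, ⟨e⟩⟩ := DMod.exists_free_resolution (DRing.toD W) b
  have := DMod.isKProjective b fun i => (have := hPf i; inferInstance : _root_.Module.Projective R (P.X i))
  obtain ⟨g, hg⟩ := DMod.exists_map_eq e.hom
  refine ⟨P, g, hP, flat_of_free hPf, ?_⟩
  rw [← DerivedCategory.isIso_Q_map_iff_quasiIso, hg]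
  infer_instance

theorem torAmp_iff_qT (W : DRing.Cx R) (a b : ℤ) :
    DRing.HasTorAmplitudeIn R a b (DRing.toD W) ↔
      ∀ (M : ModuleCat.{u} R) (i : ℤ), (i < a ∨ b < i) → ((qT M).obj W).ExactAt i := by
  constructor
  · intro h M
    have : (DRing.toD W).IsLE b := by
      obtain ⟨E, hv, -, ⟨e⟩⟩ := h
      have := DMod.isLE_toD hv
      exact DMod.exists_iso_of_isLE _ b e
    obtain ⟨P, g, hP, hPf, hg⟩ := exists_flat_quasiIso_hom W b
    have hk := isKFlat_of_boundedAbove P b hPf
    have hb := torBound_of_hasTorAmplitudeIn P b hPf a b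
      (hasTorAmplitudeIn_of_iso (asIso (DerivedCategory.Q.map g)).symm h) M
    exact fun i hi => (exactAt_qT_iff M g hk i).2 ((isGE_isLE_iff _ a b).1 hb i hi)
  · intro h
    have : (DRing.toD W).IsLE b := by
      obtain ⟨K, g, hK, -, -, hg, -⟩ := exists_resolution (T := TM R) cover isFlat_cover W
      rw [DMod.isLE_iff]
      intro i hi
      rw [DMod.subsingleton_HD_toD_iff, ← DMod.exactAt_iff_subsingleton,
        ← exactAt_iff_of_quasiIsoAt g i, ← exactAt_iff_of_quasiIsoAt (tmSelfIso K).hom i,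
        ← exactAt_qT_iff (ModuleCat.of R R) g ((isKFlat_iff _).1 hK) i]
      exact h _ i (Or.inr hi)
    obtain ⟨P, g, hP, hPf, hg⟩ := exists_flat_quasiIso_hom W b
    have hk := isKFlat_of_boundedAbove P b hPf
    exact hasTorAmplitudeIn_of_iso (asIso (DerivedCategory.Q.map g))
      (hasTorAmplitudeIn_of_torBound P b hPf a b fun M =>
        (isGE_isLE_iff _ a b).2 fun i hi => (exactAt_qT_iff M g hk i).1 (h M i hi))

end Groth.Agent.DBaseChange
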