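import Groth.Prelude.Def_DDual2
import Groth.Agent.Lib.DMod.PC
import Groth.Agent.Lib.DMod.ResClass
import Groth.Agent.Lib.KFlat.Api
import Groth.Agent.Lib.KFlat.Module

/-!
The value of derived base change on K-flat complexes of flat modules, and right t-exactness.
-/

set_option autoImplicit false
set_option linter.unusedSectionVars false

universe u v w x y z t

open CategoryTheory CategoryTheory.Limits CategoryTheory.Pretriangulated

attribute [local instance] HasDerivedCategory.standard

namespace Groth.Agent.DBaseChange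

section Kan

variable {C₀ : Type u} [Category.{v} C₀] {C : Type w} [Category.{x} C] {D : Type*} [Category* D]
  {H : Type*} [Category* H] (q : C₀ ⥤ C) [q.Full] (as : C → C₀) (has : ∀ X, q.obj (as X) = X)
  {L : C ⥤ D} {F : C ⥤ H} (LF : D ⥤ H) (α : L ⋙ LF ⟶ F)

include has in
/-- A right Kan extension stays one after restriction along a full functor surjective on objects. -/
theorem isRightKanExtension_precomp [LF.IsRightKanExtension α] :
    LF.IsRightKanExtension
      (show (q ⋙ L) ⋙ LF ⟶ q ⋙ F from (Functor.associator _ _ _).hom ≫ Functor.whiskerLeft q α) := by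
  have key : ∀ (G : D ⥤ H) (β : (q ⋙ L) ⋙ G ⟶ q ⋙ F), ∃ β₀ : L ⋙ G ⟶ F,
      ∀ X, β₀.app (q.obj X) = β.app X := by
    intro G β
    have hcomp : ∀ X Y (e : q.obj X = q.obj Y),
        β.app X ≫ eqToHom (congrArg F.obj e) = eqToHom (by simp [e]) ≫ β.app Y := by
      intro X Y e
      obtain ⟨f, hf⟩ := q.map_surjective (eqToHom e)
      have h := β.naturality f
      simpa [hf, eqToHom_map] using h.symm
    refine ⟨{ app := fun X => eqToHom (by simp [has]) ≫ β.app (as X) ≫ eqToHom (by simp [has])
              naturality := fun X Y g => ?_ }, fun X => ?_⟩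
    · obtain ⟨f, hf⟩ := q.map_surjective (eqToHom (has X) ≫ g ≫ eqToHom (has Y).symm)
      have hg : g = eqToHom (has X).symm ≫ q.map f ≫ eqToHom (has Y) := by simp [hf]
      have h := β.naturality f
      dsimp at h ⊢
      rw [hg]
      simp only [Functor.map_comp, eqToHom_map, Category.assoc, eqToHom_trans_assoc, eqToHom_refl,
        Category.id_comp, reassoc_of% h]
    · have h := hcomp (as (q.obj X)) X (has _)
      dsimp at h ⊢
      rw [h, eqToHom_trans_assoc, eqToHom_refl, Category.id_comp]
  refine ⟨⟨IsTerminal.ofUniqueHom (fun Y => ?_) fun Y m => ?_⟩⟩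
  · refine CostructuredArrow.homMk (LF.liftOfIsRightKanExtension α Y.left (key _ Y.hom).choose) ?_
    ext X
    have h := LF.liftOfIsRightKanExtension_fac_app α Y.left (key _ Y.hom).choose (q.obj X)
    dsimp [Functor.RightExtension.mk]
    simpa only [Category.id_comp, Category.comp_id] using h.trans ((key _ Y.hom).choose_spec X)
  · apply CostructuredArrow.hom_ext
    refine LF.hom_ext_of_isRightKanExtension α _ _ ?_
    ext X
    obtain ⟨Z, rfl⟩ : ∃ Z, q.obj Z = X := ⟨as X, has X⟩
    have h := congrArg (fun t => t.app Z) (CostructuredArrow.w m)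
    have h' := LF.liftOfIsRightKanExtension_fac_app α Y.left (key _ Y.hom).choose (q.obj Z)
    have h'' := h'.trans ((key _ Y.hom).choose_spec Z)
    dsimp [Functor.RightExtension.mk] at h h'' ⊢
    exact (((congrArg (_ ≫ ·) (Category.id_comp _).symm).trans h)).trans h''.symm

end Kan

variable {A B : Type u} [CommRing A] [CommRing B] (φ : A →+* B)

open KFlat KFlat.Module

/-- Termwise extension of scalars. -/
noncomputable abbrev extCx : DRing.Cx A ⥤ DRing.Cx B :=
  (ModuleCat.extendScalars.{u, u, u} φ).mapHomologicalComplex (ComplexShape.up ℤ)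

instance preservesFiniteColimits_ext : PreservesFiniteColimits (ModuleCat.extendScalars.{u, u, u} φ) :=
  have := (ModuleCat.extendRestrictScalarsAdj.{u, u, u} φ).leftAdjoint_preservesColimits.{0, 0}
  inferInstance

theorem mono_ext_map (S : ShortComplex (ModuleCat.{u} A)) (hS : S.ShortExact)
    (h : KFlat.IsFlat (TM A) S.X₃) : Mono ((ModuleCat.extendScalars.{u, u, u} φ).map S.f) := by
  have : _root_.Module.Flat A S.X₃ := (isFlat_iff _).1 h
  letI := φ.toAlgebra
  refine (ModuleCat.mono_iff_injective _).2 ?_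
  exact LinearMap.lTensor_injective_of_exact_of_flat S.g.hom hS.moduleCat_surjective_g S.f.hom
    hS.moduleCat_injective_f
    ((ShortComplex.ShortExact.moduleCat_exact_iff_function_exact S).1 hS.exact) B

/-- Complexes adapted to base change. -/
def Adapted (P : DRing.Cx A) : Prop :=
  IsKFlat (TM A) P ∧ IsKFlat (TM A).flip P ∧ ∀ n, KFlat.IsFlat (TM A) (P.X n)

theorem adapted_of_flat (P : DRing.Cx A) (b : ℤ) [P.IsStrictlyLE b]
    (hP : ∀ i, _root_.Module.Flat A (P.X i)) : Adapted P :=
  ⟨isKFlat_of_boundedAbove_flat P b fun n => (isFlat_iff _).2 (hP n),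
    isKFlat_of_boundedAbove_flat (T := (TM A).flip) P b fun n => ((isFlat_iff _).2 (hP n)).flip,
    fun n => (isFlat_iff _).2 (hP n)⟩

theorem quasiIso_ext {P Q : DRing.Cx A} (f : P ⟶ Q) [QuasiIso f] (hP : Adapted P) (hQ : Adapted Q) :
    QuasiIso ((extCx φ).map f) :=
  KFlat.quasiIso_map Module.cover isFlat_cover _ (mono_ext_map φ) f hP hQ (splitPres_map _)

instance isLocalization_quotient_Qh :
    (HomotopyCategory.quotient (ModuleCat.{u} A) (ComplexShape.up ℤ) ⋙
      DerivedCategory.Qh).IsLocalization
      (HomologicalComplex.quasiIso (ModuleCat.{u} A) (ComplexShape.up ℤ)) :=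
  Functor.IsLocalization.of_iso _ (DerivedCategory.quotientCompQhIso (ModuleCat.{u} A)).symm

/-- Termwise extension of scalars followed by localization, two ways. -/
noncomputable def factorIso :
    HomotopyCategory.quotient (ModuleCat.{u} A) (ComplexShape.up ℤ) ⋙ DRing.baseChangeKh φ ≅
      extCx φ ⋙ DerivedCategory.Q :=
  (Functor.associator _ _ _).symm ≪≫
    Functor.isoWhiskerRight ((ModuleCat.extendScalars.{u, u, u} φ).mapHomotopyCategoryFactors _) _ ≪≫
    Functor.associator _ _ _ ≪≫ Functor.isoWhiskerLeft _ (DerivedCategory.quotientCompQhIso _)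

variable [DRing.HasLBaseChange φ]

/-- The comparison `K ⊗^L_A B ⟶ K ⊗_A B`. -/
noncomputable def counit :
    (HomotopyCategory.quotient (ModuleCat.{u} A) (ComplexShape.up ℤ) ⋙ DerivedCategory.Qh) ⋙
      DRing.LBaseChange φ ⟶
    HomotopyCategory.quotient (ModuleCat.{u} A) (ComplexShape.up ℤ) ⋙ DRing.baseChangeKh φ :=
  (Functor.associator _ _ _).hom ≫ Functor.whiskerLeft _
    ((DRing.baseChangeKh φ).totalLeftDerivedCounit DerivedCategory.Qh
      (HomotopyCategory.quasiIso (ModuleCat.{u} A) (ComplexShape.up ℤ)))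

theorem isIso_counit (P : DRing.Cx A) (hP : Adapted P) : IsIso ((counit φ).app P) := by
  have hk : (DRing.LBaseChange φ).IsRightKanExtension
      ((DRing.baseChangeKh φ).totalLeftDerivedCounit DerivedCategory.Qh
        (HomotopyCategory.quasiIso (ModuleCat.{u} A) (ComplexShape.up ℤ))) :=
    Functor.IsLeftDerivedFunctor.isRightKanExtension _ _
      (HomotopyCategory.quasiIso (ModuleCat.{u} A) (ComplexShape.up ℤ))
  have : (DRing.LBaseChange φ).IsLeftDerivedFunctor (counit φ)
      (HomologicalComplex.quasiIso (ModuleCat.{u} A) (ComplexShape.up ℤ)) :=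
    ⟨isRightKanExtension_precomp _ (fun X => X.as) (fun _ => rfl) _ _⟩
  let Φ : Cover (ModuleCat.{u} A) := Module.cover
  refine KFlat.isIso_counit (W := HomologicalComplex.quasiIso (ModuleCat.{u} A) (ComplexShape.up ℤ))
    (resFunctor Φ) (resNatTrans Φ)
    (fun G => quasiIso_resπ Φ G)
    (HomotopyCategory.quotient (ModuleCat.{u} A) (ComplexShape.up ℤ) ⋙ DRing.baseChangeKh φ)
    (Adapted (A := A))
    (fun G => ⟨isKFlat_resObj Φ G isFlat_cover,
      isKFlat_flip_resObj Φ G isFlat_cover, isFlat_resObj_X Φ G isFlat_cover⟩)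
    (fun {K K'} f hf hK hK' => ?_)
    (HomotopyCategory.quotient (ModuleCat.{u} A) (ComplexShape.up ℤ) ⋙ DerivedCategory.Qh)
    (DRing.LBaseChange φ) (counit φ) P hP
  have : QuasiIso f := hf
  have := quasiIso_ext φ f hK hK'
  exact (NatIso.isIso_map_iff (factorIso φ) f).2
    (inferInstanceAs (IsIso (DerivedCategory.Q.map ((extCx φ).map f))))

/-- Derived base change of a complex maps to its termwise base change. -/
noncomputable def valueMap :
    DerivedCategory.Q ⋙ DRing.LBaseChange φ ⟶ extCx φ ⋙ DerivedCategory.Q :=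
  Functor.whiskerRight (DerivedCategory.quotientCompQhIso _).inv _ ≫ counit φ ≫ (factorIso φ).hom

theorem isIso_valueMap (P : DRing.Cx A) (hP : Adapted P) : IsIso ((valueMap φ).app P) := by
  have := isIso_counit φ P hP
  simp only [valueMap, NatTrans.comp_app, Functor.whiskerRight_app]
  infer_instance

/-- Derived base change of an adapted complex. -/
noncomputable def valueIso (P : DRing.Cx A) (hP : Adapted P) :
    (DRing.LBaseChange φ).obj (DRing.toD P) ≅ DRing.toD ((extCx φ).obj P) :=
  have := isIso_valueMap φ P hP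
  asIso ((valueMap φ).app P)

theorem flat_of_free {P : DRing.Cx A} (h : ∀ i, _root_.Module.Free A (P.X i)) (i : ℤ) :
    _root_.Module.Flat A (P.X i) :=
  have := h i
  inferInstance

theorem isStrictlyLE_ext (P : DRing.Cx A) (b : ℤ) [P.IsStrictlyLE b] :
    ((extCx φ).obj P).IsStrictlyLE b := by
  rw [CochainComplex.isStrictlyLE_iff]
  intro i hi
  exact Functor.map_isZero (ModuleCat.extendScalars.{u, u, u} φ) (P.isZero_of_isStrictlyLE b i hi)

/-- Derived base change is right t-exact. -/
theorem isLE_obj (K : Dual.D A) (n : ℤ) [K.IsLE n] : ((DRing.LBaseChange φ).obj K).IsLE n := by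
  obtain ⟨P, hP, hfree, ⟨e⟩⟩ := DMod.exists_free_resolution K n
  have := isStrictlyLE_ext φ P n
  have : (DRing.toD ((extCx φ).obj P)).IsLE n :=
    (inferInstance : (DerivedCategory.Q.obj ((extCx φ).obj P)).IsLE n)
  exact DMod.exists_iso_of_isLE (DRing.toD ((extCx φ).obj P)) n
    ((valueIso φ P (adapted_of_flat P n (flat_of_free hfree))).symm ≪≫
      (DRing.LBaseChange φ).mapIso e)

end Groth.Agent.DBaseChange
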