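import Mathlib.Algebra.Category.ModuleCat.FilteredColimits
import Mathlib.Algebra.Category.ModuleCat.Abelian
import Mathlib.Algebra.Category.ModuleCat.Colimits
import Mathlib.RingTheory.Flat.EquationalCriterion
import Mathlib.CategoryTheory.Limits.ConcreteCategory.Filtered
import Mathlib.CategoryTheory.Preadditive.AdditiveFunctor
import Mathlib.LinearAlgebra.Pi

/-! A flat module is a filtered colimit of finite free modules; consequences for additive functors. -/

set_option autoImplicit false
set_option linter.unusedSectionVars false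
set_option backward.isDefEq.respectTransparency false

universe u

open CategoryTheory CategoryTheory.Limits

namespace Groth.Agent.DBaseChange.FlatColim

variable {B : Type u} [CommRing B] (F : ModuleCat.{u} B)

/-- A finite free module over `F`. -/
structure Stage : Type u where
  n : ℕ
  v : (Fin n → B) →ₗ[B] F

variable {F}

@[ext]
structure StageHom (s t : Stage F) : Type u where
  f : (Fin s.n → B) →ₗ[B] (Fin t.n → B)
  w : t.v ∘ₗ f = s.v

instance : Category (Stage F) where
  Hom := StageHom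
  id s := ⟨LinearMap.id, LinearMap.comp_id _⟩
  comp {s t r} a b := ⟨b.f ∘ₗ a.f, by rw [← LinearMap.comp_assoc, b.w, a.w]⟩

@[ext]
theorem hom_ext {s t : Stage F} {a b : s ⟶ t} (h : a.f = b.f) : a = b := StageHom.ext h

theorem comp_f {s t r : Stage F} (a : s ⟶ t) (b : t ⟶ r) : (a ≫ b).f = b.f ∘ₗ a.f := rfl

theorem exists_kill [Module.Flat B F] {K : Type u} [AddCommGroup K] [Module B K] [Module.Finite B K]
    (t : Stage F) (g : K →ₗ[B] (Fin t.n → B)) (h : t.v ∘ₗ g = 0) :
    ∃ (r : Stage F) (a : t ⟶ r), a.f ∘ₗ g = 0 := by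
  obtain ⟨k, a, y, hy, ha⟩ := Module.Flat.exists_factorization_of_comp_eq_zero_of_free h
  let e := Finsupp.linearEquivFunOnFinite B B (Fin k)
  refine ⟨⟨k, y ∘ₗ e.symm.toLinearMap⟩, ⟨e.toLinearMap ∘ₗ a, ?_⟩, ?_⟩
  · rw [hy]; ext x; simp
  · show (e.toLinearMap ∘ₗ a) ∘ₗ g = 0
    rw [LinearMap.comp_assoc, ha, LinearMap.comp_zero]

theorem nonempty_stage : Nonempty (Stage F) := ⟨⟨0, 0⟩⟩

instance isFiltered [Module.Flat B F] : IsFiltered (Stage F) where
  toIsFilteredOrEmpty :=
  { cocone_objs := fun s t => by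
      let e : (Fin (s.n + t.n) → B) ≃ₗ[B] (Fin s.n → B) × (Fin t.n → B) :=
        (LinearEquiv.funCongrLeft B B finSumFinEquiv).trans (LinearEquiv.sumArrowLequivProdArrow _ _ B B)
      exact ⟨⟨s.n + t.n, (LinearMap.coprod s.v t.v) ∘ₗ e.toLinearMap⟩,
        ⟨e.symm.toLinearMap ∘ₗ LinearMap.inl B _ _, by ext x; simp⟩,
        ⟨e.symm.toLinearMap ∘ₗ LinearMap.inr B _ _, by ext x; simp⟩, trivial⟩
    cocone_maps := fun s t a b => by
      obtain ⟨r, c, hc⟩ := exists_kill t (a.f - b.f)
        (by rw [LinearMap.comp_sub, a.w, b.w, sub_self])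
      refine ⟨r, c, hom_ext ?_⟩
      rw [comp_f, comp_f, ← sub_eq_zero, ← LinearMap.comp_sub]
      exact hc }
  nonempty := nonempty_stage

variable (F)

/-- The diagram of finite free modules. -/
def diag : Stage F ⥤ ModuleCat.{u} B where
  obj s := ModuleCat.of B (Fin s.n → B)
  map a := ModuleCat.ofHom a.f

/-- The cocone to `F`. -/
def cocone : Cocone (diag F) where
  pt := F
  ι := { app := fun s => ModuleCat.ofHom s.v
         naturality := fun s t a => by
           ext1
           exact a.w }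

/-- A flat module is the colimit of the finite free modules over it. -/
noncomputable def isColimit [Module.Flat B F] : IsColimit (cocone F) := by
  suffices hiso : IsIso (colimit.desc (diag F) (cocone F)) from
    haveI : IsIso ((colimit.isColimit (diag F)).desc (cocone F)) := hiso
    IsColimit.ofPointIso (colimit.isColimit _)
  rw [ConcreteCategory.isIso_iff_bijective]
  constructor
  · rw [injective_iff_map_eq_zero]
    intro z hz
    obtain ⟨s, c, rfl⟩ := Concrete.colimit_exists_rep (diag F) z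
    have hv : s.v c = 0 := by
      rw [← hz]
      exact (ConcreteCategory.congr_hom (colimit.ι_desc (cocone F) s) c).symm
    let g : ULift.{u} B →ₗ[B] (Fin s.n → B) := (LinearMap.toSpanSingleton B _ c) ∘ₗ ULift.moduleEquiv.toLinearMap
    obtain ⟨r, a, ha⟩ := exists_kill s g (by ext; simp [g, hv])
    have h1 : a.f c = 0 := by simpa [g] using LinearMap.congr_fun ha (ULift.up 1)
    rw [← colimit.w (diag F) a]
    show colimit.ι (diag F) r (a.f c) = 0
    rw [h1]
    exact map_zero (colimit.ι (diag F) r).hom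
  · intro x
    let s : Stage F := ⟨1, (LinearMap.toSpanSingleton B F x) ∘ₗ LinearMap.proj 0⟩
    refine ⟨colimit.ι (diag F) s (fun _ => 1), ?_⟩
    refine (ConcreteCategory.congr_hom (colimit.ι_desc (cocone F) s) (fun _ => 1)).trans ?_
    show (1 : B) • x = x
    exact one_smul B x

/-- The basis maps. -/
def single (n : ℕ) (j : Fin n) : ModuleCat.of B B ⟶ ModuleCat.of B (Fin n → B) :=
  ModuleCat.ofHom (LinearMap.single B (fun _ => B) j)

/-- The coordinates. -/
def coord (n : ℕ) (j : Fin n) : ModuleCat.of B (Fin n → B) ⟶ ModuleCat.of B B :=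
  ModuleCat.ofHom (LinearMap.proj j)

theorem sum_coord_single (n : ℕ) :
    ∑ j : Fin n, coord n j ≫ single n j = 𝟙 (ModuleCat.of B (Fin n → B)) := by
  ext1
  rw [ModuleCat.hom_sum]
  refine LinearMap.ext fun x => ?_
  simp only [LinearMap.coe_sum, Finset.sum_apply]
  exact Finset.univ_sum_single x

variable {F}

theorem isZero_map_of_flat [Module.Flat B F] {D : Type*} [Category* D] [Preadditive D]
    (Φ : ModuleCat.{u} B ⥤ D) [Φ.Additive] [PreservesColimit (diag F) Φ]
    (h : IsZero (Φ.obj (ModuleCat.of B B))) : IsZero (Φ.obj F) := by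
  have hs : ∀ s : Stage F, IsZero (Φ.obj ((diag F).obj s)) := fun s => by
    rw [IsZero.iff_id_eq_zero, ← Φ.map_id]
    show Φ.map (𝟙 (ModuleCat.of B (Fin s.n → B))) = 0
    rw [← sum_coord_single, Φ.map_sum]
    exact Finset.sum_eq_zero fun j _ => by rw [Φ.map_comp, h.eq_of_tgt (Φ.map (coord s.n j)) 0, zero_comp]
  rw [IsZero.iff_id_eq_zero]
  exact (isColimitOfPreserves Φ (isColimit F)).hom_ext fun s => (hs s).eq_of_src _ _

/-- An element killed in `Φ F` is killed by the coefficients of the map. -/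
theorem mem_smul_top_of_map_eq_zero [Module.Flat B F] {A : Type u} [CommRing A]
    (Φ : ModuleCat.{u} B ⥤ ModuleCat.{u} A) [Φ.Additive] [PreservesColimit (diag F) Φ]
    (g : ModuleCat.of B B ⟶ F) (h : Φ.obj (ModuleCat.of B B)) (hg : Φ.map g h = 0)
    (I : Ideal B)
    (hI : ∀ b : B, Φ.map (b • 𝟙 (ModuleCat.of B B)) h = 0 → b ∈ I) :
    g (1 : B) ∈ I • (⊤ : Submodule B F) := by
  let s : Stage F := ⟨1, g.hom ∘ₗ LinearMap.proj 0⟩
  let ε : ModuleCat.of B B ⟶ (diag F).obj s := ModuleCat.ofHom (LinearMap.pi fun _ => LinearMap.id)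
  have hεg : ε ≫ (cocone F).ι.app s = g := by
    ext1
    refine LinearMap.ext fun x => ?_
    rfl
  have h0 : (Φ.mapCocone (cocone F)).ι.app s (Φ.map ε h) = 0 := by
    exact ((ConcreteCategory.congr_hom (Φ.map_comp ε ((cocone F).ι.app s)) h).symm.trans
      (ConcreteCategory.congr_hom (congrArg Φ.map hεg) h)).trans hg
  obtain ⟨t, a, a', hk⟩ := Concrete.isColimit_exists_of_rep_eq.{u} (diag F ⋙ Φ)
    (isColimitOfPreserves Φ (isColimit F)) (i := s) (j := s) (Φ.map ε h) 0
    (h0.trans (map_zero ((Φ.mapCocone (cocone F)).ι.app s).hom).symm)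
  rw [map_zero] at hk
  let c : Fin t.n → B := a.f (fun _ => 1)
  have hv : t.v c = g (1 : B) := by
    show (t.v ∘ₗ a.f) (fun _ => 1) = _
    rw [a.w]; rfl
  have hc : ∀ j, c j ∈ I := fun j => hI _ (by
    have hcomp : ε ≫ (diag F).map a ≫ coord t.n j = c j • 𝟙 (ModuleCat.of B B) := by
      ext1
      refine LinearMap.ext_ring ?_
      show a.f (fun _ => (1 : B)) j = c j • (1 : B)
      simp [c]
    rw [← hcomp, Φ.map_comp, Φ.map_comp, ModuleCat.comp_apply, ModuleCat.comp_apply]
    exact (congrArg (Φ.map (coord t.n j)) hk).trans (map_zero _))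
  rw [← hv, pi_eq_sum_univ' c, map_sum]
  refine Submodule.sum_mem _ fun j _ => ?_
  rw [map_smul]
  exact Submodule.smul_mem_smul (hc j) Submodule.mem_top

end Groth.Agent.DBaseChange.FlatColim
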