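import Groth.Agent.Lib.DBaseChange.Nilp
import Groth.Agent.Lib.DMod.Amplitude
import Mathlib.Algebra.Category.ModuleCat.Biproducts
import Mathlib.Algebra.Homology.HomologicalComplexBiprod

/-! Lifting complexes of projective modules along a quotient, inside a class of projectives. -/

set_option autoImplicit false
set_option linter.style.haveILetI false
set_option backward.isDefEq.respectTransparency false

universe u v v' u₁ u₂

open CategoryTheory CategoryTheory.Limits CategoryTheory.Pretriangulated CategoryTheory.Triangulated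

attribute [local instance] HasDerivedCategory.standard

namespace Groth.Agent.DBaseChange.Lift

section Sac

variable {C : Type u₁} [Category.{v} C] [Abelian C] {D : Type u₂} [Category.{v'} D] [Abelian D]

/-- The split acyclic complex `W i ⊞ W (i + 1)`. -/
noncomputable def sac (W : ℤ → C) : CochainComplex C ℤ :=
  CochainComplex.of (fun i => W i ⊞ W (i + 1)) (fun i => biprod.snd ≫ biprod.inl)
    (fun i => by simp)

theorem sac_d (W : ℤ → C) (i : ℤ) :
    (sac W).d i (i + 1) = (biprod.snd ≫ biprod.inl : (W i ⊞ W (i + 1) : C) ⟶ W (i + 1) ⊞ W (i + 1 + 1)) := by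
  simp [sac]

theorem isStrictlyLE_sac (W : ℤ → C) (b : ℤ) (h : ∀ i, b < i → IsZero (W i)) : (sac W).IsStrictlyLE b := by
  rw [CochainComplex.isStrictlyLE_iff]
  intro i hi
  show IsZero (W i ⊞ W (i + 1) : C)
  rw [IsZero.iff_id_eq_zero]
  exact biprod.hom_ext _ _ ((h i hi).eq_of_tgt _ _) ((h (i + 1) (by omega)).eq_of_tgt _ _)

instance (priority := 100) preservesBinaryBiproducts_additive (F : C ⥤ D) [F.Additive] :
    PreservesBinaryBiproducts F :=
  preservesBinaryBiproducts_of_preservesBiproducts F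

variable (F : C ⥤ D) [F.Additive] {W : ℤ → C} {E : CochainComplex D ℤ}

/-- The components of the map out of a split acyclic complex. -/
noncomputable def bot (g : ∀ i, F.obj (W (i + 1)) ⟶ E.X i) (i : ℤ) : F.obj (W i) ⟶ E.X i :=
  eqToHom (by rw [sub_add_cancel]) ≫ g (i - 1) ≫ E.d (i - 1) i

theorem bot_succ (g : ∀ i, F.obj (W (i + 1)) ⟶ E.X i) (i : ℤ) :
    bot F g (i + 1) = g i ≫ E.d i (i + 1) := by
  have : ∀ (j : ℤ) (h : j = i), (eqToHom (by rw [h]) : F.obj (W (i + 1)) ⟶ F.obj (W (j + 1))) ≫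
      g j ≫ E.d j (i + 1) = g i ≫ E.d i (i + 1) := by
    rintro j rfl
    simp
  exact this _ (add_sub_cancel_right i 1)

/-- The map out of a split acyclic complex determined by its second components. -/
noncomputable def descMap (g : ∀ i, F.obj (W (i + 1)) ⟶ E.X i) :
    (F.mapHomologicalComplex (ComplexShape.up ℤ)).obj (sac W) ⟶ E where
  f i := (F.mapBiprod (W i) (W (i + 1))).hom ≫ biprod.desc (bot F g i) (g i)
  comm' i j hij := by
    obtain rfl : i + 1 = j := hij
    have h0 : bot F g i ≫ E.d i (i + 1) = 0 := by simp [bot]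
    rw [← cancel_epi (F.mapBiprod (W i) (W (i + 1))).inv]
    simp only [Category.assoc, Iso.inv_hom_id_assoc]
    refine biprod.hom_ext' _ _ ?_ ?_
    · rw [biprod.inl_desc_assoc, h0]
      simp only [Functor.mapBiprod_inv, biprod.inl_desc_assoc]
      have h1 : F.map (biprod.inl : W i ⟶ W i ⊞ W (i + 1)) ≫ F.map ((sac W).d i (i + 1)) = 0 := by
        rw [← F.map_comp, sac_d, biprod.inl_snd_assoc, zero_comp, F.map_zero]
      exact (((Category.assoc _ _ _).symm.trans (congrArg (· ≫ _) h1)).trans zero_comp).symm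
    · rw [biprod.inr_desc_assoc]
      simp only [Functor.mapBiprod_inv, biprod.inr_desc_assoc]
      have h1 : F.map (biprod.inr : W (i + 1) ⟶ W i ⊞ W (i + 1)) ≫ F.map ((sac W).d i (i + 1)) =
          F.map biprod.inl := by
        rw [← F.map_comp, sac_d, biprod.inr_snd_assoc]
      have h2 : F.map (biprod.inl : W (i + 1) ⟶ W (i + 1) ⊞ W (i + 1 + 1)) ≫
          (F.mapBiprod (W (i + 1)) (W (i + 1 + 1))).hom = biprod.inl := by
        rw [← cancel_mono (F.mapBiprod (W (i + 1)) (W (i + 1 + 1))).inv, Category.assoc, Iso.hom_inv_id,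
          Category.comp_id, Functor.mapBiprod_inv, biprod.inl_desc]
      refine Eq.trans ?_ ((Category.assoc _ _ _).symm.trans (congrArg (· ≫ _) h1)).symm
      rw [← Category.assoc, h2, biprod.inl_desc, bot_succ]

theorem inr_descMap (g : ∀ i, F.obj (W (i + 1)) ⟶ E.X i) (i : ℤ) :
    F.map biprod.inr ≫ (descMap F g).f i = g i := by
  have : F.map biprod.inr ≫ (F.mapBiprod (W i) (W (i + 1))).hom = biprod.inr := by
    rw [← cancel_mono (F.mapBiprod (W i) (W (i + 1))).inv, Category.assoc, Iso.hom_inv_id,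
      Category.comp_id, Functor.mapBiprod_inv, biprod.inr_desc]
  show F.map biprod.inr ≫ (F.mapBiprod (W i) (W (i + 1))).hom ≫ biprod.desc (bot F g i) (g i) = g i
  rw [← Category.assoc, this, biprod.inr_desc]

/-- Maps out of a split acyclic complex are determined by their second components. -/
theorem hom_ext {f f' : (F.mapHomologicalComplex (ComplexShape.up ℤ)).obj (sac W) ⟶ E}
    (h : ∀ i, F.map (biprod.inr : W (i + 1) ⟶ W i ⊞ W (i + 1)) ≫ f.f i = F.map biprod.inr ≫ f'.f i) :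
    f = f' := by
  ext i : 1
  refine (cancel_epi (F.mapBiprod (W i) (W (i + 1))).inv).1 ?_
  rw [Functor.mapBiprod_inv]
  refine biprod.hom_ext' _ _ ?_ ?_
  · rw [biprod.inl_desc_assoc, biprod.inl_desc_assoc]
    obtain ⟨j, rfl⟩ : ∃ j, i = j + 1 := ⟨i - 1, by omega⟩
    have key : F.map (biprod.inl : W (j + 1) ⟶ W (j + 1) ⊞ W (j + 1 + 1)) =
        F.map (biprod.inr : W (j + 1) ⟶ W j ⊞ W (j + 1)) ≫
          ((F.mapHomologicalComplex (ComplexShape.up ℤ)).obj (sac W)).d j (j + 1) := by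
      show _ = F.map biprod.inr ≫ F.map ((sac W).d j (j + 1))
      rw [← F.map_comp, sac_d, biprod.inr_snd_assoc]
    rw [key, Category.assoc, Category.assoc]
    refine (congrArg (_ ≫ ·) (f.comm j (j + 1)).symm).trans ?_
    refine Eq.trans ?_ (congrArg (_ ≫ ·) (f'.comm j (j + 1)))
    rw [← Category.assoc, h j, Category.assoc]
  · rw [biprod.inr_desc_assoc, biprod.inr_desc_assoc]
    exact h i

end Sac

variable {R : Type u} [CommRing R]

theorem acyclic_sac (W : ℤ → ModuleCat.{u} R) : (sac W : DRing.Cx R).Acyclic := by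
  intro i
  obtain ⟨j, rfl⟩ : ∃ j, i = j + 1 := ⟨i - 1, by omega⟩
  rw [DMod.exactAt_iff_subsingleton,
    DMod.subsingleton_homology_iff _ (i := j) (k := j + 1 + 1) (by simp) (by simp)]
  intro (x : (W (j + 1) ⊞ W (j + 1 + 1) : ModuleCat.{u} R)) hx
  rw [sac_d] at hx
  have h2 : (biprod.snd : (W (j + 1) ⊞ W (j + 1 + 1) : ModuleCat.{u} R) ⟶ _) x = 0 := by
    have hc : (biprod.snd ≫ biprod.inl) ≫ (biprod.fst : (W (j + 1 + 1) ⊞ W (j + 1 + 1 + 1) : ModuleCat.{u} R) ⟶ _) =
        (biprod.snd : (W (j + 1) ⊞ W (j + 1 + 1) : ModuleCat.{u} R) ⟶ _) := by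
      rw [Category.assoc, biprod.inl_fst (X := W (j + 1 + 1)) (Y := W (j + 1 + 1 + 1)), Category.comp_id]
    rw [← hc]
    exact (congrArg (fun y => (biprod.fst : (W (j + 1 + 1) ⊞ W (j + 1 + 1 + 1) : ModuleCat.{u} R) ⟶ _) y) hx).trans
      (map_zero _)
  refine ⟨(biprod.inr : W (j + 1) ⟶ W j ⊞ W (j + 1)) ((biprod.fst : (W (j + 1) ⊞ W (j + 1 + 1) : ModuleCat.{u} R) ⟶ _) x), ?_⟩
  rw [sac_d]
  refine Eq.trans (congrArg (fun f => f ((biprod.fst : (W (j + 1) ⊞ W (j + 1 + 1) : ModuleCat.{u} R) ⟶ _) x))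
    (show (biprod.inr : W (j + 1) ⟶ W j ⊞ W (j + 1)) ≫ biprod.snd ≫ biprod.inl = (biprod.inl : _ ⟶ W (j + 1) ⊞ W (j + 1 + 1)) by simp)) ?_
  have ht := congrArg (fun f => f x) (biprod.total (X := W (j + 1)) (Y := W (j + 1 + 1)))
  simp only [ModuleCat.hom_add, LinearMap.add_apply, ModuleCat.comp_apply, ModuleCat.id_apply, h2, map_zero, add_zero] at ht
  exact ht

variable (I : Ideal R) (Pc : ObjectProperty (ModuleCat.{u} R))

/-- The hypotheses on a class of projective modules. -/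
structure Cls : Prop where
  proj : ∀ X : ModuleCat.{u} R, Pc X → _root_.Module.Projective R X
  compl : ∀ X Y : ModuleCat.{u} R, Pc X → Pc (ModuleCat.of R (X × Y)) → Pc Y
  surj : ∀ (X Y : ModuleCat.{u} R) (f : X ⟶ Y), Pc X → Pc Y →
    LinearMap.range f.hom ⊔ I • (⊤ : Submodule R Y) = ⊤ → Function.Surjective f.hom

/-- Reduction modulo `I`. -/
noncomputable abbrev red : ModuleCat.{u} R ⥤ ModuleCat.{u} (R ⧸ I) :=
  ModuleCat.extendScalars.{u, u, u} (Ideal.Quotient.mk I)

variable {I} {Pc} [Pc.IsClosedUnderIsomorphisms]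

theorem projective_red {X : ModuleCat.{u} R} (h : _root_.Module.Projective R X) :
    Projective ((red I).obj X) := by
  haveI := DMod.projective_X (P := (HomologicalComplex.single (ModuleCat.{u} R) (ComplexShape.up ℤ) 0).obj X) (i := 0)
    (_root_.Module.Projective.of_equiv (HomologicalComplex.singleObjXSelf (ComplexShape.up ℤ) 0 X).toLinearEquiv.symm)
  haveI : Projective X := Projective.of_iso (HomologicalComplex.singleObjXSelf (ComplexShape.up ℤ) 0 X) this
  exact (ModuleCat.extendRestrictScalarsAdj.{u, u, u} (Ideal.Quotient.mk I)).map_projective X inferInstance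

theorem exists_lift {X Y : ModuleCat.{u} R} (hX : _root_.Module.Projective R X)
    (f : (red I).obj X ⟶ (red I).obj Y) : ∃ g : X ⟶ Y, (red I).map g = f := by
  let adj := ModuleCat.extendRestrictScalarsAdj.{u, u, u} (Ideal.Quotient.mk I)
  obtain ⟨g, hg⟩ := _root_.Module.projective_lifting_property (adj.unit.app Y).hom
    ((adj.homEquiv _ _) f).hom (unit_surjective _ Ideal.Quotient.mk_surjective Y)
  refine ⟨ModuleCat.ofHom g, (adj.homEquiv _ _).injective ?_⟩
  rw [adj.homEquiv_unit]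
  exact (adj.unit.naturality (ModuleCat.ofHom g)).symm.trans (ModuleCat.hom_ext hg)

theorem surj_of_red (hc : Cls I Pc) {X Y : ModuleCat.{u} R} (hX : Pc X) (hY : Pc Y) (f : X ⟶ Y)
    (hf : Epi ((red I).map f)) : Function.Surjective f.hom := by
  refine hc.surj X Y f hX hY (eq_top_iff.2 fun y _ => ?_)
  let η := (ModuleCat.extendRestrictScalarsAdj.{u, u, u} (Ideal.Quotient.mk I)).unit
  obtain ⟨z, hz⟩ := (ModuleCat.epi_iff_surjective _).1 hf (η.app Y y)
  obtain ⟨x, rfl⟩ := unit_surjective (Ideal.Quotient.mk I) Ideal.Quotient.mk_surjective X z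
  have h0 : η.app Y (y - f x) = 0 := by
    rw [map_sub, sub_eq_zero, ← hz]
    exact (congrArg (fun k => k x) (η.naturality f)).symm
  have := unit_eq_zero _ Ideal.Quotient.mk_surjective _ h0
  rw [Ideal.mk_ker] at this
  exact Submodule.mem_sup.2 ⟨f x, ⟨x, rfl⟩, _, this, by abel⟩

theorem isZero_of_red (hc : Cls I Pc) {X : ModuleCat.{u} R} (hX : Pc X) (h : IsZero ((red I).obj X)) :
    IsZero X := by
  have := surj_of_red hc hX hX (0 : X ⟶ X) ⟨fun _ _ _ => h.eq_of_src _ _⟩
  exact (DMod.isZero_iff_subsingleton _).2 ⟨fun a b => by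
    obtain ⟨a', rfl⟩ := this a
    obtain ⟨b', rfl⟩ := this b
    rfl⟩

theorem pc_compl (hc : Cls I Pc) {X Y Z : ModuleCat.{u} R} (hX : Pc X) (hZ : Pc Z) (e : Z ≅ X ⊞ Y) : Pc Y :=
  hc.compl X Y hX (Pc.prop_of_iso (e ≪≫ ModuleCat.biprodIsoProd X Y) hZ)

/-- A surjection modulo `I` onto a member splits, with kernel in the class. -/
theorem exists_kernel (hc : Cls I Pc) {X Y : ModuleCat.{u} R} (hX : Pc X) (hY : Pc Y) {N : ModuleCat.{u} (R ⧸ I)}
    (p : (red I).obj X ⟶ N) [Epi p] (e : (red I).obj Y ≅ N) :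
    ∃ (K : ModuleCat.{u} R) (_ : Pc K) (_ : Nonempty ((red I).obj K ≅ kernel p)), Nonempty (X ≅ K ⊞ Y) := by
  obtain ⟨f, hf⟩ := exists_lift (hc.proj X hX) (p ≫ e.inv)
  have hs := surj_of_red hc hX hY f (hf ▸ inferInstance)
  obtain ⟨s, hs'⟩ := _root_.Module.projective_lifting_property (h := hc.proj Y hY) f.hom LinearMap.id hs
  haveI : Epi f := (ModuleCat.epi_iff_surjective _).2 hs
  let S := ShortComplex.mk (kernel.ι f) f (kernel.condition f)
  have hS : S.Exact := ShortComplex.exact_kernel f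
  let σ := ShortComplex.Splitting.ofExactOfSection S hS (ModuleCat.ofHom s) (ModuleCat.hom_ext hs') inferInstance
  refine ⟨kernel f, pc_compl hc hY hX (σ.isoBinaryBiproduct ≪≫ biprod.braiding _ _), ?_, ⟨σ.isoBinaryBiproduct⟩⟩
  have hk := (σ.map (red I)).shortExact.fIsKernel
  exact ⟨(hk.conePointUniqueUpToIso (kernelIsKernel ((red I).map f))) ≪≫
    kernel.mapIso _ p (Iso.refl _) e (by simp [S, hf])⟩

theorem isIso_of_red (hc : Cls I Pc) {X Y : ModuleCat.{u} R} (hX : Pc X) (hY : Pc Y) (f : X ⟶ Y)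
    [IsIso ((red I).map f)] : IsIso f := by
  have hs := surj_of_red hc hX hY f inferInstance
  obtain ⟨s, hs'⟩ := _root_.Module.projective_lifting_property (h := hc.proj Y hY) f.hom LinearMap.id hs
  haveI : Epi f := (ModuleCat.epi_iff_surjective _).2 hs
  let S := ShortComplex.mk (kernel.ι f) f (kernel.condition f)
  have hS : S.Exact := ShortComplex.exact_kernel f
  let σ := ShortComplex.Splitting.ofExactOfSection S hS (ModuleCat.ofHom s) (ModuleCat.hom_ext hs') inferInstance
  have hk := (σ.map (red I)).shortExact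
  haveI : Mono ((red I).map (kernel.ι f)) := hk.mono_f
  have h0 : IsZero ((red I).obj (kernel f)) := by
    rw [IsZero.iff_id_eq_zero]
    refine (cancel_mono ((red I).map (kernel.ι f))).1 ?_
    refine (cancel_mono ((red I).map f)).1 ?_
    rw [zero_comp, zero_comp, Category.id_comp, ← Functor.map_comp, kernel.condition, Functor.map_zero]
  have hK := isZero_of_red hc (pc_compl hc hY hX (σ.isoBinaryBiproduct ≪≫ biprod.braiding _ _)) h0
  haveI : Mono f := Preadditive.mono_of_kernel_zero (hK.eq_of_src _ _)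
  exact isIso_of_mono_of_epi f

theorem iso_of_red_iso (hc : Cls I Pc) {X Y : ModuleCat.{u} R} (hX : Pc X) (hY : Pc Y)
    (e : (red I).obj X ≅ (red I).obj Y) : Nonempty (X ≅ Y) := by
  obtain ⟨f, hf⟩ := exists_lift (hc.proj X hX) e.hom
  haveI : IsIso ((red I).map f) := hf ▸ inferInstance
  haveI := isIso_of_red hc hX hY f
  exact ⟨asIso f⟩

/-- Bounded above acyclic complexes with liftable terms lift to split acyclic complexes. -/
theorem exists_acyclic_lift (hc : Cls I Pc) (E : DRing.Cx (R ⧸ I)) (b : ℤ) [E.IsStrictlyLE b]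
    (hEa : E.Acyclic) (hEt : ∀ i, ∃ X, Pc X ∧ Nonempty ((red I).obj X ≅ E.X i)) :
    ∃ (Z : ℤ → ModuleCat.{u} R), (∀ i, b < i → IsZero (Z i)) ∧ (∀ i, Pc (Z i ⊞ Z (i + 1))) ∧
      Nonempty (((red I).mapHomologicalComplex (ComplexShape.up ℤ)).obj (sac Z) ≅ E) := by
  choose X hX e using hEt
  let toC (i : ℤ) : E.X i ⟶ E.cycles (i + 1) := E.toCycles i (i + 1)
  have hepi : ∀ i, Epi (toC i) := fun i => by
    refine (ModuleCat.epi_iff_surjective _).2 fun z => ?_
    obtain ⟨y, hy⟩ := (DMod.subsingleton_homology_iff E (i := i) (k := i + 1 + 1) (by simp) (by simp)).1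
      ((DMod.exactAt_iff_subsingleton _ _).1 (hEa (i + 1))) (E.iCycles (i + 1) z) (DMod.d_iCycles _ _ z)
    refine ⟨y, DMod.iCycles_injective E (i + 1) ?_⟩
    rw [← ModuleCat.comp_apply, HomologicalComplex.toCycles_i]
    exact hy
  have hz : ∀ i, b < i → IsZero (X i) := fun i hi =>
    isZero_of_red hc (hX i) ((E.isZero_of_isStrictlyLE b i hi).of_iso (e i).some)
  have hcyc0 : ∀ i, b < i → IsZero (E.cycles i) := fun i hi =>
    IsZero.of_mono (E.iCycles i) (E.isZero_of_isStrictlyLE b i hi)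
  have hcycIso : ∀ i, Nonempty (kernel ((e i).some.hom ≫ toC i) ≅ E.cycles i) := fun i => by
    have hlim : IsLimit (KernelFork.ofι (E.iCycles i) (show E.iCycles i ≫ toC i = 0 from by
        rw [← cancel_mono (E.iCycles (i + 1)), Category.assoc, HomologicalComplex.toCycles_i,
          HomologicalComplex.iCycles_d, zero_comp])) :=
      KernelFork.IsLimit.ofι' _ _ fun {W} k hk => ⟨E.liftCycles k (i + 1) (by simp) (by
        rw [← E.toCycles_i i (i + 1), ← Category.assoc, hk, zero_comp]), E.liftCycles_i _ _ _ _⟩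
    exact ⟨kernel.mapIso _ (toC i) (e i).some (Iso.refl _) (by simp) ≪≫
      (kernelIsKernel (toC i)).conePointUniqueUpToIso hlim⟩
  have ind : ∀ (k : ℕ) (i : ℤ), b + 1 - k ≤ i →
      ∃ Z : ModuleCat.{u} R, Pc Z ∧ Nonempty ((red I).obj Z ≅ E.cycles i) := by
    intro k
    induction k with
    | zero => exact fun i hi => ⟨X i, hX i, ⟨((red I).map_isZero (hz i (by omega))).iso (hcyc0 i (by omega))⟩⟩
    | succ k ih =>
      intro i hi
      obtain ⟨Q, hQ, ⟨eQ⟩⟩ := ih (i + 1) (by omega)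
      haveI := hepi i
      obtain ⟨K, hK, ⟨eK⟩, -⟩ := exists_kernel hc (hX i) hQ ((e i).some.hom ≫ toC i) eQ
      exact ⟨K, hK, ⟨eK ≪≫ (hcycIso i).some⟩⟩
  have ind' : ∀ i, ∃ Z : ModuleCat.{u} R, Pc Z ∧ Nonempty ((red I).obj Z ≅ E.cycles i) :=
    fun i => ind (b + 1 - i).toNat i (by omega)
  choose Z hZ eZ using ind'
  refine ⟨Z, fun i hi => isZero_of_red hc (hZ i) ((hcyc0 i hi).of_iso (eZ i).some), ?_⟩
  have hsec : ∀ i, ∃ s : (red I).obj (Z (i + 1)) ⟶ E.X i, s ≫ toC i = (eZ (i + 1)).some.hom := fun i => by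
    haveI := hepi i
    haveI := projective_red (I := I) (hc.proj _ (hZ (i + 1)))
    exact ⟨Projective.factorThru (eZ (i + 1)).some.hom (toC i), Projective.factorThru_comp _ _⟩
  choose s hs using hsec
  let φ := descMap (red I) s
  have hbot : ∀ i, bot (red I) s i = (eZ i).some.hom ≫ E.iCycles i := fun i => by
    obtain ⟨j, rfl⟩ : ∃ j, i = j + 1 := ⟨i - 1, by omega⟩
    rw [bot_succ, ← hs j, Category.assoc, HomologicalComplex.toCycles_i]
  have hiso : ∀ i, IsIso (φ.f i) := fun i => by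
    haveI := hepi i
    let S := ShortComplex.mk (E.iCycles i) (toC i) (by
      rw [← cancel_mono (E.iCycles (i + 1)), Category.assoc, HomologicalComplex.toCycles_i,
        HomologicalComplex.iCycles_d, zero_comp])
    have hS : S.Exact := (ShortComplex.ShortExact.moduleCat_exact_iff_function_exact S).2 fun x => by
      refine ⟨fun hx => ?_, fun ⟨y, hy⟩ => hy ▸ congrArg (fun f => f y) S.zero⟩
      refine DMod.exists_cycle (k := i + 1) (by simp) x ?_
      rw [← E.toCycles_i i (i + 1), ModuleCat.comp_apply]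
      show E.iCycles (i + 1) (S.g x) = 0
      rw [hx, map_zero]
    let σ := ShortComplex.Splitting.ofExactOfSection S hS ((eZ (i + 1)).some.inv ≫ s i)
      (by show _ ≫ toC i = _; rw [Category.assoc, hs, Iso.inv_hom_id]) inferInstance
    have : φ.f i = ((red I).mapBiprod (Z i) (Z (i + 1))).hom ≫
        (biprod.mapIso (eZ i).some (eZ (i + 1)).some).hom ≫ σ.isoBinaryBiproduct.inv := by
      show _ ≫ biprod.desc (bot (red I) s i) (s i) = _
      congr 1
      refine biprod.hom_ext' _ _ ?_ ?_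
      · simp [σ, S, hbot, ShortComplex.Splitting.isoBinaryBiproduct]
      · simp [σ, S, ShortComplex.Splitting.isoBinaryBiproduct, ShortComplex.Splitting.ofExactOfSection]
    rw [this]
    infer_instance
  refine ⟨fun i => ?_, ⟨@asIso _ _ _ _ φ (HomologicalComplex.Hom.isIso_of_components φ)⟩⟩
  haveI := hepi i
  obtain ⟨K, hK, ⟨eK⟩, ⟨eX⟩⟩ := exists_kernel hc (hX i) (hZ (i + 1)) ((e i).some.hom ≫ toC i) (eZ (i + 1)).some
  obtain ⟨k⟩ := iso_of_red_iso hc hK (hZ i) (eK ≪≫ (hcycIso i).some ≪≫ (eZ i).some.symm)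
  exact Pc.prop_of_iso (eX ≪≫ biprod.mapIso k (Iso.refl _)) (hX i)

omit [Pc.IsClosedUnderIsomorphisms] in
theorem red_iso_of_tensor {X : ModuleCat.{u} R} {N : ModuleCat.{u} (R ⧸ I)}
    (h : Nonempty (TensorProduct R (R ⧸ I) X ≃ₗ[R ⧸ I] N)) : Nonempty ((red I).obj X ≅ N) :=
  h.map fun e => e.toModuleIso

theorem isZero_Q_obj {K : DRing.Cx R} (hK : K.Acyclic) : IsZero (DRing.toD K) := by
  haveI : QuasiIso (0 : K ⟶ K) := ⟨fun i => by
    rw [quasiIsoAt_iff_isIso_homologyMap]
    have h := (K.exactAt_iff_isZero_homology i).1 (hK i)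
    exact h.isIso h _⟩
  have : IsIso (DerivedCategory.Q.map (0 : K ⟶ K)) :=
    (DerivedCategory.isIso_Q_map_iff_quasiIso (C := ModuleCat.{u} R) _).2 inferInstance
  rw [Functor.map_zero] at this
  rw [IsZero.iff_id_eq_zero]
  exact (cancel_mono (0 : DRing.toD K ⟶ DRing.toD K)).1 (by rw [comp_zero, comp_zero])

/-- A complex of members lifting a given complex in the derived category lifts it on the nose. -/
theorem exists_representative_lift (hc : Cls I Pc)
    (hsum : ∀ X Y : ModuleCat.{u} R, Pc X → Pc Y → Pc (ModuleCat.of R (X × Y)))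
    (Q : DRing.Cx R) (B : ℤ) [Q.IsStrictlyLE B] (hQ : ∀ i, Pc (Q.X i))
    (E : DRing.Cx (R ⧸ I)) [E.IsStrictlyLE B] (hEt : ∀ i, ∃ X, Pc X ∧ Nonempty ((red I).obj X ≅ E.X i))
    (e : DRing.toD ((extCx (Ideal.Quotient.mk I)).obj Q) ≅ DRing.toD E) :
    ∃ (P : DRing.Cx R) (b' : ℤ), DRing.VanishesAbove P b' ∧ (∀ i, Pc (P.X i)) ∧
      Nonempty (DRing.toD P ≅ DRing.toD Q) ∧ Nonempty ((extCx (Ideal.Quotient.mk I)).obj P ≅ E) := by
  let r := extCx (Ideal.Quotient.mk I)
  have hbip : ∀ X Y : ModuleCat.{u} R, Pc X → Pc Y → Pc (X ⊞ Y) := fun X Y hX hY =>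
    Pc.prop_of_iso (ModuleCat.biprodIsoProd X Y).symm (hsum X Y hX hY)
  haveI hEp : ∀ i, Projective (E.X i) := fun i => by
    obtain ⟨X, hX, ⟨eX⟩⟩ := hEt i
    exact Projective.of_iso eX (projective_red (hc.proj X hX))
  choose X hX eX using hEt
  haveI : (r.obj Q).IsStrictlyLE B := (CochainComplex.isStrictlyLE_iff _ _).2 fun j hj =>
    (red I).map_isZero (Q.isZero_of_isStrictlyLE B j hj)
  haveI : (r.obj Q).IsKProjective := DMod.isKProjective B fun i =>
    (IsProjective.iff_projective ((r.obj Q).X i)).2 (projective_red (hc.proj _ (hQ i)))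
  obtain ⟨α, hα⟩ := DMod.exists_map_eq e.hom
  let W : ℤ → ModuleCat.{u} R := fun i => X (i - 1)
  have hW0 : ∀ i, B + 1 < i → IsZero (W i) := fun i hi =>
    isZero_of_red hc (hX _) ((E.isZero_of_isStrictlyLE B (i - 1) (by omega)).of_iso (eX _).some)
  let g : ∀ i, (red I).obj (W (i + 1)) ⟶ E.X i := fun i =>
    (eX (i + 1 - 1)).some.hom ≫ eqToHom (by rw [add_sub_cancel_right])
  let S : DRing.Cx R := sac W
  haveI : S.IsStrictlyLE (B + 1) := isStrictlyLE_sac W (B + 1) hW0
  let P₂ : DRing.Cx R := Q ⊞ S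
  have hP₂ : ∀ i, Pc (P₂.X i) := fun i => Pc.prop_of_iso (HomologicalComplex.biprodXIso Q S i).symm
    (hbip _ _ (hQ i) (hbip _ _ (hX _) (hX _)))
  haveI : P₂.IsStrictlyLE (B + 1) := (CochainComplex.isStrictlyLE_iff _ _).2 fun j hj => by
    refine IsZero.of_iso ?_ (HomologicalComplex.biprodXIso Q S j)
    rw [IsZero.iff_id_eq_zero]
    exact biprod.hom_ext _ _ ((Q.isZero_of_isStrictlyLE B j (by omega)).eq_of_tgt _ _)
      ((S.isZero_of_isStrictlyLE (B + 1) j hj).eq_of_tgt _ _)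
  haveI : PreservesBinaryBiproducts r := preservesBinaryBiproducts_additive r
  let p : r.obj P₂ ⟶ E := (r.mapBiprod Q S).hom ≫ biprod.desc α (descMap (red I) g)
  have hinl : r.map (biprod.inl : Q ⟶ P₂) ≫ p = α := by
    have : r.map (biprod.inl : Q ⟶ P₂) ≫ (r.mapBiprod Q S).hom = biprod.inl := by
      rw [← cancel_mono (r.mapBiprod Q S).inv, Category.assoc, Iso.hom_inv_id, Category.comp_id,
        Functor.mapBiprod_inv, biprod.inl_desc]
    rw [← Category.assoc, this, biprod.inl_desc]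
  haveI hinlQ : IsIso (DerivedCategory.Q.map (biprod.inl : Q ⟶ P₂)) := by
    have hz : IsZero (DerivedCategory.Q.obj S) := isZero_Q_obj (acyclic_sac W)
    refine ⟨DerivedCategory.Q.map biprod.fst, ?_, ?_⟩
    · rw [← Functor.map_comp, biprod.inl_fst, CategoryTheory.Functor.map_id]
    · rw [← Functor.map_comp, ← CategoryTheory.Functor.map_id, ← biprod.total, Functor.map_add,
        Functor.map_comp DerivedCategory.Q (biprod.snd : P₂ ⟶ S), hz.eq_of_tgt (DerivedCategory.Q.map (biprod.snd : P₂ ⟶ S)) 0,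
        zero_comp, add_zero]
  have hflat : ∀ (K : DRing.Cx R), (∀ i, Pc (K.X i)) → ∀ i, _root_.Module.Flat R (K.X i) := fun K hK i =>
    haveI := hc.proj _ (hK i); inferInstance
  haveI : QuasiIso (biprod.inl : Q ⟶ P₂) := by
    rw [← DerivedCategory.isIso_Q_map_iff_quasiIso]; exact hinlQ
  haveI := quasiIso_ext (Ideal.Quotient.mk I) (biprod.inl : Q ⟶ P₂)
    (adapted_of_flat Q B (hflat Q hQ)) (adapted_of_flat P₂ (B + 1) (hflat P₂ hP₂))
  haveI hpQ : IsIso (DerivedCategory.Q.map p) := by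
    haveI : IsIso (DerivedCategory.Q.map (r.map (biprod.inl : Q ⟶ P₂)) ≫ DerivedCategory.Q.map p) := by
      rw [← Functor.map_comp, hinl, hα]; infer_instance
    exact IsIso.of_isIso_comp_left (DerivedCategory.Q.map (r.map (biprod.inl : Q ⟶ P₂))) _
  have hp : ∀ i, Epi (p.f i) := fun i => by
    have h1 : (red I).map (biprod.inr : W (i + 1) ⟶ W i ⊞ W (i + 1)) ≫
        ((r.map (biprod.inr : S ⟶ P₂)).f i ≫ p.f i) = g i := by
      have h2 : r.map (biprod.inr : S ⟶ P₂) ≫ p = descMap (red I) g := by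
        have : r.map (biprod.inr : S ⟶ P₂) ≫ (r.mapBiprod Q S).hom = biprod.inr := by
          rw [← cancel_mono (r.mapBiprod Q S).inv, Category.assoc, Iso.hom_inv_id, Category.comp_id,
            Functor.mapBiprod_inv, biprod.inr_desc]
        rw [← Category.assoc, this, biprod.inr_desc]
      rw [← HomologicalComplex.comp_f, h2]
      exact inr_descMap (red I) g i
    haveI : Epi (g i) := inferInstance
    exact epi_of_epi_fac (h := g i) ((Category.assoc _ _ _).trans h1)
  haveI : Epi p := HomologicalComplex.epi_of_epi_f p hp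
  let N : DRing.Cx (R ⧸ I) := kernel p
  let Sp := ShortComplex.mk (kernel.ι p) p (kernel.condition p)
  have hSp : Sp.ShortExact := { exact := ShortComplex.exact_kernel p }
  have hNa : N.Acyclic := by
    intro i
    have := (Triangle.isZero₁_iff_isIso₂ _ (DerivedCategory.triangleOfSES_distinguished hSp)).2 hpQ
    have h0 : IsZero ((DMod.HH i).obj (DerivedCategory.Q.obj N)) := Functor.map_isZero _ this
    exact (N.exactAt_iff_isZero_homology i).2
      (h0.of_iso ((DerivedCategory.homologyFunctorFactors _ i).app N).symm)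
  haveI : N.IsStrictlyLE (B + 1) := (CochainComplex.isStrictlyLE_iff _ _).2 fun j hj =>
    IsZero.of_mono ((kernel.ι p).f j) ((red I).map_isZero (P₂.isZero_of_isStrictlyLE (B + 1) j hj))
  have hNt : ∀ i, ∃ Y, Pc Y ∧ Nonempty ((red I).obj Y ≅ N.X i) := fun i => by
    haveI := hp i
    obtain ⟨K, hK, ⟨eK⟩, -⟩ := exists_kernel hc (hP₂ i) (hX i) (p.f i) (eX i).some
    exact ⟨K, hK, ⟨eK ≪≫ (PreservesKernel.iso (HomologicalComplex.eval _ _ i) p).symm⟩⟩
  obtain ⟨Z, hZb, hZ, ⟨φ⟩⟩ := exists_acyclic_lift hc N (B + 1) hNa hNt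
  have hlift : ∀ i, ∃ l : Z (i + 1) ⟶ P₂.X i, (red I).map l =
      (red I).map (biprod.inr : Z (i + 1) ⟶ Z i ⊞ Z (i + 1)) ≫ (φ.hom ≫ kernel.ι p).f i := fun i =>
    exists_lift (by
      have := hc.proj _ (hZ i)
      exact _root_.Module.Projective.of_split (biprod.inr : Z (i + 1) ⟶ Z i ⊞ Z (i + 1)).hom
        (biprod.snd : Z i ⊞ Z (i + 1) ⟶ _).hom (congrArg ModuleCat.Hom.hom (biprod.inr_snd (X := Z i) (Y := Z (i + 1))))) _
  choose l hl using hlift
  let L : sac Z ⟶ P₂ :=
    (Functor.mapHomologicalComplexIdIso (ModuleCat.{u} R) (ComplexShape.up ℤ)).inv.app (sac Z) ≫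
      descMap (𝟭 (ModuleCat.{u} R)) (E := P₂) l
  have hL : r.map L = φ.hom ≫ kernel.ι p := by
    refine hom_ext (red I) fun i => ?_
    show (red I).map _ ≫ (red I).map (L.f i) = _
    rw [← Functor.map_comp]
    refine Eq.trans ?_ (hl i)
    congr 1
    show biprod.inr ≫ (𝟙 _) ≫ _ = _
    rw [Category.id_comp]
    exact inr_descMap (𝟭 (ModuleCat.{u} R)) (E := P₂) l i
  have hretr : ∀ i, ∃ ρ : P₂.X i ⟶ (sac Z).X i, L.f i ≫ ρ = 𝟙 _ := fun i => by
    haveI := hp i
    let Si := Sp.map (HomologicalComplex.eval _ _ i)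
    have hSi : Si.ShortExact := hSp.map_of_exact (HomologicalComplex.eval _ _ i)
    haveI : Projective Si.X₃ := hEp i
    let σ := hSi.splittingOfProjective
    obtain ⟨ρ, hρ⟩ := exists_lift (hc.proj _ (hP₂ i)) (X := P₂.X i) (Y := (sac Z).X i) (σ.r ≫ φ.inv.f i)
    haveI : IsIso ((red I).map (L.f i ≫ ρ)) := by
      rw [Functor.map_comp, hρ, show (red I).map (L.f i) = φ.hom.f i ≫ Si.f from
        congrArg (fun k => HomologicalComplex.Hom.f k i) hL, Category.assoc, σ.f_r_assoc]
      rw [← HomologicalComplex.comp_f, Iso.hom_inv_id]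
      exact inferInstanceAs (IsIso (𝟙 _))
    haveI := isIso_of_red hc (hZ i) (hZ i) (L.f i ≫ ρ)
    exact ⟨ρ ≫ inv (L.f i ≫ ρ), by rw [← Category.assoc, IsIso.hom_inv_id]⟩
  choose ρ hρ using hretr
  haveI : ∀ i, IsSplitMono (L.f i) := fun i => ⟨⟨⟨ρ i, hρ i⟩⟩⟩
  haveI : Mono L := HomologicalComplex.mono_of_mono_f L fun i => inferInstance
  let P : DRing.Cx R := cokernel L
  let SL := ShortComplex.mk L (cokernel.π L) (cokernel.condition L)
  have hSL : SL.ShortExact := { exact := ShortComplex.exact_cokernel L }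
  have hspl : ∀ i, Nonempty (SL.map (HomologicalComplex.eval _ _ i)).Splitting := fun i =>
    ⟨ShortComplex.Splitting.ofExactOfRetraction _ (hSL.map_of_exact (HomologicalComplex.eval _ _ i)).exact
      (ρ i) (hρ i) (hSL.map_of_exact (HomologicalComplex.eval _ _ i)).epi_g⟩
  have hPc : ∀ i, Pc (P.X i) := fun i => by
    obtain ⟨σ⟩ := hspl i
    exact pc_compl hc (X := (sac Z).X i) (hZ i) (hP₂ i) σ.isoBinaryBiproduct
  haveI : Epi (r.map (cokernel.π L)) := HomologicalComplex.epi_of_epi_f _ fun i => by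
    obtain ⟨σ⟩ := hspl i
    exact (σ.map (red I)).shortExact.epi_g
  have hrSL : (SL.map r).ShortExact := HomologicalComplex.shortExact_of_degreewise_shortExact _ fun i => by
    obtain ⟨σ⟩ := hspl i
    exact (σ.map (red I)).shortExact
  haveI : P.IsStrictlyLE (B + 1) := (CochainComplex.isStrictlyLE_iff _ _).2 fun j hj => by
    obtain ⟨σ⟩ := hspl j
    haveI := σ.shortExact.epi_g
    exact IsZero.of_epi ((cokernel.π L).f j) (P₂.isZero_of_isStrictlyLE (B + 1) j hj)
  have hπ : IsIso (DerivedCategory.Q.map (cokernel.π L)) :=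
    (Triangle.isZero₁_iff_isIso₂ _ (DerivedCategory.triangleOfSES_distinguished hSL)).1
      (isZero_Q_obj (acyclic_sac Z))
  refine ⟨P, B + 1, (DMod.vanishesAbove_iff _ _).2 inferInstance, hPc,
    ⟨(asIso (DerivedCategory.Q.map (cokernel.π L))).symm ≪≫ (asIso (DerivedCategory.Q.map (biprod.inl : Q ⟶ P₂))).symm⟩,
    ⟨?_⟩⟩
  exact hrSL.gIsCokernel.coconePointUniqueUpToIso (cokernelIsCokernel (r.map L)) ≪≫
    cokernel.mapIso (r.map L) (kernel.ι p) φ (Iso.refl _) (by rw [hL, Iso.refl_hom, Category.comp_id]) ≪≫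
    (cokernelIsCokernel (kernel.ι p)).coconePointUniqueUpToIso hSp.gIsCokernel

end Groth.Agent.DBaseChange.Lift
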