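import Groth.Agent.Lib.DBaseChange.TorDescent
import Groth.Agent.Lib.DBaseChange.PC
import Groth.Agent.Lib.KFlat.BaseChange
import Groth.Agent.Lib.KFlat.DTen

/-! Tor amplitude along surjections with nilpotent kernel. -/

set_option autoImplicit false
set_option linter.style.haveILetI false
set_option backward.isDefEq.respectTransparency false

universe u

open CategoryTheory CategoryTheory.Limits MonoidalCategory CategoryTheory.Pretriangulated CategoryTheory.Triangulated

attribute [local instance] HasDerivedCategory.standard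

namespace Groth.Agent.DBaseChange

open KFlat KFlat.Module

variable {A B : Type u} [CommRing A] [CommRing B]

theorem exists_adapted (K : Dual.D A) : ∃ P : DRing.Cx A, Adapted P ∧ Nonempty (DRing.toD P ≅ K) := by
  have : (DerivedCategory.Q : DRing.Cx A ⥤ Dual.D A).EssSurj :=
    Localization.essSurj _ (HomologicalComplex.quasiIso (ModuleCat.{u} A) (ComplexShape.up ℤ))
  let L : DRing.Cx A := (DerivedCategory.Q : DRing.Cx A ⥤ Dual.D A).objPreimage K
  let Φ : Cover (ModuleCat.{u} A) := Module.cover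
  have : QuasiIso ((resNatTrans Φ).app L) := quasiIso_resπ Φ L
  exact ⟨(resFunctor Φ).obj L, ⟨isKFlat_resObj Φ L isFlat_cover, isKFlat_flip_resObj Φ L isFlat_cover,
    isFlat_resObj_X Φ L isFlat_cover⟩, ⟨asIso (DerivedCategory.Q.map ((resNatTrans Φ).app L)) ≪≫
      (DerivedCategory.Q : DRing.Cx A ⥤ Dual.D A).objObjPreimageIso K⟩⟩

theorem nonempty_tm_iso_adapted (M : ModuleCat.{u} A) {F P : DRing.Cx A} [F.IsKProjective] (hF : Adapted F)
    (hP : Adapted P) (e : DRing.toD F ≅ DRing.toD P) :
    Nonempty (DRing.toD ((tm M).obj F) ≅ DRing.toD ((tm M).obj P)) := by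
  obtain ⟨g, hg⟩ := DMod.exists_map_eq e.hom
  have : QuasiIso g := by
    rw [← DerivedCategory.isIso_Q_map_iff_quasiIso, hg]; infer_instance
  have := quasiIso_tm M g hF hP
  exact ⟨asIso (DerivedCategory.Q.map ((tm M).map g))⟩

theorem torAmp_iff_torBound {P : DRing.Cx A} (hP : Adapted P) (a b : ℤ) :
    DRing.HasTorAmplitudeIn A a b (DRing.toD P) ↔ TorBound P a b := by
  constructor
  · rintro ⟨E, hE, hEf, ⟨e⟩⟩ M
    haveI := ((DMod.vanishesOutside_iff E a b).1 hE).2
    haveI : (DRing.toD E).IsLE b := DMod.isLE_toD hE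
    obtain ⟨F, hF, hFf, ⟨f⟩⟩ := DMod.exists_free_resolution (DRing.toD E) b
    haveI := DMod.isKProjective b fun i => have := hFf i; (inferInstance : _root_.Module.Projective A (F.X i))
    have hFa := adapted_of_flat F b (flat_of_free hFf)
    obtain ⟨t⟩ := nonempty_tm_iso_adapted M hFa (adapted_of_flat E b hEf) f
    obtain ⟨s⟩ := nonempty_tm_iso_adapted M hFa hP (f ≪≫ e)
    have := DMod.isGE_toD (vanishesOutside_tm M hE)
    have := DMod.isLE_toD (vanishesOutside_tm M hE)
    exact ⟨(DMod.tS A).isGE_of_iso (t.symm ≪≫ s) a, DMod.exists_iso_of_isLE _ b (t.symm ≪≫ s)⟩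
  · intro h
    haveI := (h (ModuleCat.of A A)).2
    haveI : (DRing.toD P).IsLE b :=
      DMod.exists_iso_of_isLE (DRing.toD ((tm (ModuleCat.of A A)).obj P)) b
        (DerivedCategory.Q.mapIso (tmSelfIso P))
    obtain ⟨F, hF, hFf, ⟨f⟩⟩ := DMod.exists_free_resolution (DRing.toD P) b
    haveI := DMod.isKProjective b fun i => have := hFf i; (inferInstance : _root_.Module.Projective A (F.X i))
    have hFa := adapted_of_flat F b (flat_of_free hFf)
    refine hasTorAmplitudeIn_of_iso f
      (hasTorAmplitudeIn_of_torBound F b (flat_of_free hFf) a b fun M => ?_)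
    obtain ⟨s⟩ := nonempty_tm_iso_adapted M hFa hP f
    haveI := (h M).1
    haveI := (h M).2
    exact ⟨(DMod.tS A).isGE_of_iso s.symm a, DMod.exists_iso_of_isLE _ b s.symm⟩

variable (φ : A →+* B)

theorem adapted_ext {P : DRing.Cx A} (hP : Adapted P) : Adapted ((extCx φ).obj P) := by
  have h := isKFlat_extendScalars φ hP.1
  refine ⟨h, DT.isKFlat_flip ((isKFlat_iff _).1 h), fun n => (isFlat_iff _).2 ?_⟩
  haveI := (isFlat_iff _).1 (hP.2.2 n)
  exact flat_ext_of_flat φ (P.X n)

/-- Tensoring with a restricted module factors through extension of scalars. -/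
noncomputable def tmResNatIso (N : ModuleCat.{u} B) :
    tensorRight ((ModuleCat.restrictScalars φ).obj N) ≅
      ModuleCat.extendScalars.{u, u, u} φ ⋙ tensorRight N ⋙ ModuleCat.restrictScalars φ :=
  NatIso.ofComponents (fun X => (β_ X ((ModuleCat.restrictScalars φ).obj N)) ≪≫ (projEquiv φ N X).symm ≪≫
      (ModuleCat.restrictScalars φ).mapIso (β_ N ((ModuleCat.extendScalars.{u, u, u} φ).obj X))) fun {X Y} f => by
    have h₁ := BraidedCategory.braiding_naturality_left f ((ModuleCat.restrictScalars φ).obj N)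
    have h₂ := (natural_projEquiv φ).right N f
    have h₃ := (ModuleCat.restrictScalars φ).congr_map
      (BraidedCategory.braiding_naturality_right N ((ModuleCat.extendScalars.{u, u, u} φ).map f))
    rw [Functor.map_comp, Functor.map_comp] at h₃
    simp only [Iso.trans_hom, Iso.symm_hom, Functor.mapIso_hom, Functor.comp_map, Category.assoc]
    dsimp only [tensorRight, MonoidalCategory.tensorRight, Functor.id_obj, Functor.id_map] at h₂ ⊢
    refine ((reassoc_of% h₁) _).trans ?_
    refine congrArg (_ ≫ ·) ?_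
    refine Eq.trans ?_ (congrArg (_ ≫ ·) h₃)
    rw [← cancel_epi (projEquiv φ N X).hom, Iso.hom_inv_id_assoc]
    refine ((reassoc_of% h₂) _).symm.trans ?_
    exact congrArg (_ ≫ ·) ((projEquiv φ N Y).hom_inv_id_assoc _)

/-- The same, termwise on complexes. -/
noncomputable def tmResIso (N : ModuleCat.{u} B) (P : DRing.Cx A) :
    (tm ((ModuleCat.restrictScalars φ).obj N)).obj P ≅
      ((ModuleCat.restrictScalars φ).mapHomologicalComplex (ComplexShape.up ℤ)).obj
        ((tm N).obj ((extCx φ).obj P)) :=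
  (NatIso.mapHomologicalComplex (tmResNatIso φ N) (ComplexShape.up ℤ)).app P

theorem subsingleton_tm_res {P : DRing.Cx A} (N : ModuleCat.{u} B) (i : ℤ)
    (h : Subsingleton (((tm N).obj ((extCx φ).obj P)).homology i)) :
    Subsingleton (((tm ((ModuleCat.restrictScalars φ).obj N)).obj P).homology i) := by
  refine ((DMod.exactAt_iff_subsingleton _ i).1 ?_)
  refine ((((tm N).obj ((extCx φ).obj P)).sc i).exact_map_iff_of_faithful
    (ModuleCat.restrictScalars φ)).2 ((DMod.exactAt_iff_subsingleton _ i).2 h) |>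
    fun e => ?_
  have e' : (((ModuleCat.restrictScalars φ).mapHomologicalComplex (ComplexShape.up ℤ)).obj
      ((tm N).obj ((extCx φ).obj P))).ExactAt i := e
  exact HomologicalComplex.ExactAt.of_iso e' (tmResIso φ N P).symm

/-- Every module killed by the kernel of a surjection is a restriction. -/
theorem exists_iso_res (hφ : Function.Surjective φ) (M : ModuleCat.{u} A)
    (hM : RingHom.ker φ • (⊤ : Submodule A M) = ⊥) :
    ∃ N : ModuleCat.{u} B, Nonempty (M ≅ (ModuleCat.restrictScalars φ).obj N) := by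
  let I := RingHom.ker φ
  have ht : _root_.Module.IsTorsionBySet A M I := fun m a =>
    (Submodule.mem_bot A).1 (hM ▸ Submodule.smul_mem_smul a.2 trivial)
  letI : _root_.Module (A ⧸ I) M := ht.module
  let ψ : B →+* A ⧸ I := (RingHom.quotientKerEquivOfSurjective hφ).symm.toRingHom
  have hψ : ∀ a, ψ (φ a) = Ideal.Quotient.mk I a := fun a =>
    (RingHom.quotientKerEquivOfSurjective hφ).injective (by simp [ψ, I])
  letI : _root_.Module B M := _root_.Module.compHom M ψ
  let e : M ≃ₗ[A] (ModuleCat.restrictScalars φ).obj (ModuleCat.of B M) :=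
    { AddEquiv.refl M with
      map_smul' := fun a m => by
        show a • m = ψ (φ a) • m
        rw [hψ]
        exact (_root_.Module.IsTorsionBySet.mk_smul ht a m).symm }
  exact ⟨ModuleCat.of B M, ⟨e.toModuleIso⟩⟩

/-- Vanishing passes to extensions of the coefficient module. -/
theorem subsingleton_tm_of_submodule {P : DRing.Cx A} (hP : ∀ n, _root_.Module.Flat A (P.X n)) (i : ℤ)
    {M : ModuleCat.{u} A} (N : Submodule A M)
    (h₁ : Subsingleton (((tm (ModuleCat.of A N)).obj P).homology i))
    (h₃ : Subsingleton (((tm (ModuleCat.of A (M ⧸ N))).obj P).homology i)) :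
    Subsingleton (((tm M).obj P).homology i) := by
  let M₁ := ModuleCat.of A N
  let M₃ := ModuleCat.of A (M ⧸ N)
  let f : M₁ ⟶ M := ModuleCat.ofHom N.subtype
  let g : M ⟶ M₃ := ModuleCat.ofHom N.mkQ
  let F : (tm M₁).obj P ⟶ (tm M).obj P := (NatTrans.mapHomologicalComplex ((tensoringRight (ModuleCat.{u} A)).map f) (ComplexShape.up ℤ)).app P
  let G : (tm M).obj P ⟶ (tm M₃).obj P := (NatTrans.mapHomologicalComplex ((tensoringRight (ModuleCat.{u} A)).map g) (ComplexShape.up ℤ)).app P
  have w : F ≫ G = 0 := by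
    ext k : 1
    show P.X k ◁ f ≫ P.X k ◁ g = 0
    rw [← MonoidalCategory.whiskerLeft_comp, show f ≫ g = 0 from ModuleCat.hom_ext (LinearMap.ext fun x =>
      (Submodule.Quotient.mk_eq_zero N).2 x.2), MonoidalPreadditive.whiskerLeft_zero]
  have hS : (ShortComplex.mk F G w).ShortExact := by
    refine HomologicalComplex.shortExact_of_degreewise_shortExact _ fun k => ?_
    refine
      { exact := ?_
        mono_f := (ModuleCat.mono_iff_injective _).2
          (_root_.Module.Flat.lTensor_preserves_injective_linearMap (M := P.X k) N.subtype N.injective_subtype)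
        epi_g := (ModuleCat.epi_iff_surjective _).2
          (LinearMap.lTensor_surjective (P.X k) N.mkQ_surjective) }
    exact (ShortComplex.ShortExact.moduleCat_exact_iff_function_exact _).2
      (lTensor_exact (P.X k) (LinearMap.exact_subtype_mkQ N) N.mkQ_surjective)
  have hx := hS.homology_exact₂ i
  refine DMod.isZero_iff_subsingleton _ |>.1 (hx.isZero_X₂ ?_ ?_)
  · exact ((DMod.isZero_iff_subsingleton _).2 h₁).eq_of_src _ _
  · exact ((DMod.isZero_iff_subsingleton _).2 h₃).eq_of_tgt _ _

/-- Vanishing for modules killed by an ideal spreads to modules killed by its powers. -/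
theorem tm_devissage {P : DRing.Cx A} (hP : ∀ n, _root_.Module.Flat A (P.X n)) (i : ℤ) (I : Ideal A)
    (h : ∀ M : ModuleCat.{u} A, I • (⊤ : Submodule A M) = ⊥ → Subsingleton (((tm M).obj P).homology i)) :
    ∀ (n : ℕ) (M : ModuleCat.{u} A), I ^ n • (⊤ : Submodule A M) = ⊥ →
      Subsingleton (((tm M).obj P).homology i) := by
  intro n
  induction n with
  | zero =>
    intro M hM
    refine h M ?_
    rw [pow_zero, Ideal.one_eq_top, Submodule.top_smul] at hM
    rw [hM, Submodule.smul_bot]
  | succ n ih =>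
    intro M hM
    let N : Submodule A M := I • ⊤
    let M₁ := ModuleCat.of A N
    let M₃ := ModuleCat.of A (M ⧸ N)
    let f : M₁ ⟶ M := ModuleCat.ofHom N.subtype
    let g : M ⟶ M₃ := ModuleCat.ofHom N.mkQ
    have h₁ : Subsingleton (((tm M₁).obj P).homology i) := by
      refine ih M₁ (Submodule.map_injective_of_injective N.injective_subtype ?_)
      rw [Submodule.map_bot, Submodule.map_smul'', Submodule.map_top, Submodule.range_subtype,
        ← Submodule.smul_assoc, smul_eq_mul, ← pow_succ, hM]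
    have h₃ : Subsingleton (((tm M₃).obj P).homology i) := by
      refine h M₃ ?_
      show I • (⊤ : Submodule A (M ⧸ N)) = ⊥
      rw [← Submodule.range_mkQ N, ← Submodule.map_top, ← Submodule.map_smul'']
      exact Submodule.mkQ_map_self N
    exact subsingleton_tm_of_submodule hP i N h₁ h₃

theorem torAmp_of_lBaseChange [DRing.HasLBaseChange φ] (hφ : Function.Surjective φ)
    (hn : IsNilpotent (RingHom.ker φ)) (K : Dual.D A) (a b : ℤ)
    (h : DRing.HasTorAmplitudeIn B a b ((DRing.LBaseChange φ).obj K)) :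
    DRing.HasTorAmplitudeIn A a b K := by
  obtain ⟨P, hP, ⟨e⟩⟩ := exists_adapted K
  have hB := (torAmp_iff_torBound (adapted_ext φ hP) a b).1
    (hasTorAmplitudeIn_of_iso ((DRing.LBaseChange φ).mapIso e.symm ≪≫ valueIso φ P hP) h)
  obtain ⟨n, hn⟩ := hn
  refine hasTorAmplitudeIn_of_iso e ((torAmp_iff_torBound hP a b).2 fun M => ?_)
  have key : ∀ i, (i < a ∨ b < i) → Subsingleton (((tm M).obj P).homology i) := fun i hi => by
    refine tm_devissage (fun k => (isFlat_iff _).1 (hP.2.2 k)) i (RingHom.ker φ) (fun M' hM' => ?_) n M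
      (by rw [hn, Submodule.zero_eq_bot, Submodule.bot_smul])
    obtain ⟨N, ⟨eN⟩⟩ := exists_iso_res φ hφ M' hM'
    have hN : Subsingleton (((tm N).obj ((extCx φ).obj P)).homology i) := by
      refine (DMod.subsingleton_HD_toD_iff _ i).1 ?_
      rcases hi with hi | hi
      · exact (DMod.isGE_iff _ a).1 (hB N).1 i hi
      · exact (DMod.isLE_iff _ b).1 (hB N).2 i hi
    have := subsingleton_tm_res φ N i hN
    exact ((HomologicalComplex.homologyFunctor _ _ i).mapIso
      ((NatIso.mapHomologicalComplex ((tensoringRight (ModuleCat.{u} A)).mapIso eN)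
        (ComplexShape.up ℤ)).app P)).toLinearEquiv.toEquiv.subsingleton_congr.2 this
  exact ⟨(DMod.isGE_iff _ a).2 fun i hi => (DMod.subsingleton_HD_toD_iff _ i).2 (key i (Or.inl hi)),
    (DMod.isLE_iff _ b).2 fun i hi => (DMod.subsingleton_HD_toD_iff _ i).2 (key i (Or.inr hi))⟩

end Groth.Agent.DBaseChange

namespace Groth.Agent.DBaseChange

open KFlat KFlat.Module
open scoped TensorProduct

variable {A B : Type u} [CommRing A] [CommRing B] (φ : A →+* B)

theorem isLE_of_lBaseChange [DRing.HasLBaseChange φ] (hφ : Function.Surjective φ)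
    (hn : IsNilpotent (RingHom.ker φ)) (K : Dual.D A) (c : ℤ)
    [((DRing.LBaseChange φ).obj K).IsLE c] : K.IsLE c := by
  obtain ⟨P, hP, ⟨e⟩⟩ := exists_adapted K
  let eB := (DRing.LBaseChange φ).mapIso e.symm ≪≫ valueIso φ P hP
  haveI : (DRing.toD ((extCx φ).obj P)).IsLE c := DMod.exists_iso_of_isLE _ c eB
  obtain ⟨n, hn⟩ := hn
  haveI : (DRing.toD P).IsLE c := (DMod.isLE_iff _ c).2 fun i hi => by
    refine (DMod.subsingleton_HD_toD_iff _ i).2 ?_
    refine ((HomologicalComplex.homologyFunctor _ _ i).mapIso (tmSelfIso P)).toLinearEquiv.toEquiv.subsingleton_congr.1 ?_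
    refine tm_devissage (fun k => (isFlat_iff _).1 (hP.2.2 k)) i (RingHom.ker φ) (fun M' hM' => ?_) n _
      (by rw [hn, Submodule.zero_eq_bot, Submodule.bot_smul])
    obtain ⟨N, ⟨eN⟩⟩ := exists_iso_res φ hφ M' hM'
    have hN : Subsingleton (((tm N).obj ((extCx φ).obj P)).homology i) := by
      obtain ⟨F, hF, hFf, ⟨f⟩⟩ := DMod.exists_free_resolution (DRing.toD ((extCx φ).obj P)) c
      haveI := DMod.isKProjective c fun i => have := hFf i; (inferInstance : _root_.Module.Projective B (F.X i))
      obtain ⟨s⟩ := nonempty_tm_iso_adapted N (adapted_of_flat F c (flat_of_free hFf)) (adapted_ext φ hP) f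
      haveI : ((tm N).obj F).IsStrictlyLE c := (CochainComplex.isStrictlyLE_iff _ _).2 fun j hj =>
        Functor.map_isZero (tensorRight N) (F.isZero_of_isStrictlyLE c j hj)
      haveI : (DRing.toD ((tm N).obj F)).IsLE c :=
        inferInstanceAs ((DerivedCategory.Q.obj ((tm N).obj F)).IsLE c)
      exact (DMod.subsingleton_HD_toD_iff _ i).1
        ((DMod.isLE_iff _ c).1 (DMod.exists_iso_of_isLE _ c s) i hi)
    have := subsingleton_tm_res φ N i hN
    exact ((HomologicalComplex.homologyFunctor _ _ i).mapIso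
      ((NatIso.mapHomologicalComplex ((tensoringRight (ModuleCat.{u} A)).mapIso eN)
        (ComplexShape.up ℤ)).app P)).toLinearEquiv.toEquiv.subsingleton_congr.2 this
  exact DMod.exists_iso_of_isLE _ c e

/-- `x ↦ 1 ⊗ x` has kernel `ker φ • M` when `φ` is surjective. -/
theorem unit_eq_zero (hφ : Function.Surjective φ) {M : ModuleCat.{u} A} (x : M)
    (hx : (ModuleCat.extendRestrictScalarsAdj.{u, u, u} φ).unit.app M x = 0) :
    x ∈ RingHom.ker φ • (⊤ : Submodule A M) := by
  letI := φ.toAlgebra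
  let l : A →ₗ[A] B := Algebra.linearMap A B
  have hex := rTensor_exact M (LinearMap.exact_subtype_ker_map l) hφ
  have hx' : l.rTensor M ((1 : A) ⊗ₜ x) = 0 := by
    rw [LinearMap.rTensor_tmul, show l 1 = 1 from map_one (algebraMap A B)]
    exact hx
  obtain ⟨w, hw⟩ := (hex _).1 hx'
  have := congrArg (TensorProduct.lid A M) hw
  rw [TensorProduct.lid_tmul, one_smul] at this
  rw [← this]
  clear hx hx' hw this
  induction w using TensorProduct.induction_on with
  | zero => simp
  | tmul a m =>
    rw [LinearMap.rTensor_tmul, TensorProduct.lid_tmul]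
    exact Submodule.smul_mem_smul a.2 trivial
  | add p q hp hq => simpa using add_mem hp hq

theorem unit_surjective (hφ : Function.Surjective φ) (M : ModuleCat.{u} A) :
    Function.Surjective ((ModuleCat.extendRestrictScalarsAdj.{u, u, u} φ).unit.app M) := by
  letI := φ.toAlgebra
  intro z
  change B ⊗[A] M at z
  show ∃ x : M, ((1 : B) ⊗ₜ[A] x) = z
  induction z using TensorProduct.induction_on with
  | zero => exact ⟨0, TensorProduct.tmul_zero _ _⟩
  | tmul b m =>
    obtain ⟨a, rfl⟩ := hφ b
    refine ⟨a • m, ?_⟩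
    rw [← TensorProduct.smul_tmul, Algebra.smul_def, mul_one]
    rfl
  | add p q hp hq =>
    obtain ⟨x, rfl⟩ := hp
    obtain ⟨y, rfl⟩ := hq
    exact ⟨x + y, TensorProduct.tmul_add _ _ _⟩

/-- Generators of the top cohomology modulo the kernel. -/
theorem exists_fg_top (hφ : Function.Surjective φ)
    (P : DRing.Cx A) (c : ℤ) [P.IsStrictlyLE c]
    (h : _root_.Module.Finite B (((extCx φ).obj P).homology c)) :
    ∃ L : Submodule A (P.homology c), L.FG ∧ ⊤ ≤ L ⊔ RingHom.ker φ • (⊤ : Submodule A (P.homology c)) := by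
  classical
  let η := (ModuleCat.extendRestrictScalarsAdj.{u, u, u} φ).unit
  let I := RingHom.ker φ
  let Q := (extCx φ).obj P
  have := ModuleCat.subsingleton_of_isZero (P.isZero_of_isStrictlyLE c (c + 1) (by omega))
  have hcyc : ∀ x : P.X c, ∃ z, P.iCycles c z = x := fun x =>
    DMod.exists_cycle (k := c + 1) (by simp) x (Subsingleton.elim _ _)
  choose zc hzc using hcyc
  haveI : Q.IsStrictlyLE c := (CochainComplex.isStrictlyLE_iff _ _).2 fun i hi =>
    Functor.map_isZero (ModuleCat.extendScalars.{u, u, u} φ) (P.isZero_of_isStrictlyLE c i hi)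
  have := ModuleCat.subsingleton_of_isZero (Q.isZero_of_isStrictlyLE c (c + 1) (by omega))
  obtain ⟨T, hT⟩ := _root_.Module.Finite.fg_top (R := B) (M := Q.homology c)
  choose zT hzT using fun t => DMod.homologyπ_surjective Q c t
  choose xT hxT using fun t => unit_surjective φ hφ (P.X c) (Q.iCycles c (zT t))
  let N : Submodule A (P.homology c) := Submodule.span A (T.image fun t => P.homologyπ c (zc (xT t)) : Finset _)
  refine ⟨N, ⟨_, rfl⟩, ?_⟩
  intro a _
  obtain ⟨z, rfl⟩ := DMod.homologyπ_surjective P c a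
  let x := P.iCycles c z
  have key : ∀ q : Q.homology c, q ∈ Submodule.span B (T : Set (Q.homology c)) →
      ∃ (x' : P.X c) (w : Q.cycles c), Q.homologyπ c w = q ∧ η.app (P.X c) x' = Q.iCycles c w ∧
        P.homologyπ c (zc x') ∈ N := by
    intro q hq
    have hzc' : ∀ p p' z', P.iCycles c z' = p + p' → z' = zc p + zc p' := fun p p' z' h =>
      DMod.iCycles_injective P c (by rw [h, map_add, hzc, hzc])
    induction hq using Submodule.span_induction with
    | mem t ht => exact ⟨xT t, zT t, hzT t, hxT t, Submodule.subset_span (Finset.mem_image_of_mem _ ht)⟩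
    | zero =>
      refine ⟨0, 0, map_zero _, by rw [map_zero]; exact (map_zero _).symm, ?_⟩
      rw [show zc 0 = 0 from DMod.iCycles_injective P c (by rw [hzc, map_zero]), map_zero]
      exact zero_mem _
    | add p p' _ _ hp hp' =>
      obtain ⟨x₁, w₁, rfl, h₁, m₁⟩ := hp
      obtain ⟨x₂, w₂, rfl, h₂, m₂⟩ := hp'
      refine ⟨x₁ + x₂, w₁ + w₂, map_add _ _ _, ?_, ?_⟩
      · rw [map_add, h₁, h₂]
        exact (map_add _ _ _).symm
      · rw [hzc' x₁ x₂ _ (hzc _), map_add]
        exact add_mem m₁ m₂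
    | smul b p _ hp =>
      obtain ⟨x₁, w₁, rfl, h₁, m₁⟩ := hp
      obtain ⟨r, rfl⟩ := hφ b
      refine ⟨r • x₁, φ r • w₁, map_smul _ _ _, ?_, ?_⟩
      · rw [map_smul, h₁]
        exact (map_smul (Q.iCycles c).hom _ _).symm
      · rw [show zc (r • x₁) = r • zc x₁ from DMod.iCycles_injective P c (by rw [hzc, map_smul, hzc]), map_smul]
        exact Submodule.smul_mem _ _ m₁
  obtain ⟨w₀, hw₀⟩ := DMod.exists_cycle (K := Q) (j := c) (k := c + 1) (by simp) (η.app (P.X c) x) (Subsingleton.elim _ _)
  obtain ⟨x', w, hw, hx', hm⟩ := key (Q.homologyπ c w₀) (hT ▸ trivial)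
  obtain ⟨y', hy'⟩ := (DMod.homologyπ_eq_zero_iff (K := Q) (i := c - 1) (j := c) (by simp) (w₀ - w)).1
    (by rw [map_sub, hw, sub_self])
  obtain ⟨y, rfl⟩ := unit_surjective φ hφ (P.X (c - 1)) y'
  have hker : η.app (P.X c) (x - x' - P.d (c - 1) c y) = 0 := by
    rw [map_sub, map_sub, hx', ← hw₀]
    have hnat := congrArg (fun f => f y) (η.naturality (P.d (c - 1) c))
    rw [sub_eq_zero]
    refine ((map_sub (Q.iCycles c).hom _ _).symm.trans hy'.symm).trans ?_
    exact hnat.symm
  have hI := unit_eq_zero φ hφ _ hker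
  have hd : P.homologyπ c (zc (P.d (c - 1) c y)) = 0 :=
    (DMod.homologyπ_eq_zero_iff (i := c - 1) (by simp) _).2 ⟨y, (hzc _).symm⟩
  have hz : z = zc x' + zc (P.d (c - 1) c y) + zc (x - x' - P.d (c - 1) c y) :=
    DMod.iCycles_injective P c (by simp only [map_add, hzc, x]; abel)
  rw [hz, map_add, map_add, hd, add_zero]
  refine Submodule.add_mem_sup hm ?_
  let zl : P.X c →ₗ[A] P.homology c :=
    { toFun := fun p => P.homologyπ c (zc p)
      map_add' := fun p q => by
        rw [← map_add, show zc (p + q) = zc p + zc q from DMod.iCycles_injective P c (by simp [hzc])]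
      map_smul' := fun r p => by
        rw [RingHom.id_apply, ← map_smul, show zc (r • p) = r • zc p from DMod.iCycles_injective P c (by simp [hzc])] }
  have := Submodule.mem_map_of_mem (f := zl) hI
  rw [Submodule.map_smul''] at this
  exact Submodule.smul_mono le_rfl le_top this

/-- A module with finitely generated quotients by two ideals with nilpotent product is finite. -/
theorem finite_of_two {M : Type u} [AddCommGroup M] [_root_.Module A M] (I J : Ideal A)
    (hn : IsNilpotent (I * J)) (hI : ∃ L : Submodule A M, L.FG ∧ ⊤ ≤ L ⊔ I • (⊤ : Submodule A M))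
    (hJ : ∃ L : Submodule A M, L.FG ∧ ⊤ ≤ L ⊔ J • (⊤ : Submodule A M)) : _root_.Module.Finite A M := by
  obtain ⟨L₁, hL₁, h₁⟩ := hI
  obtain ⟨L₂, hL₂, h₂⟩ := hJ
  let L := L₁ ⊔ L₂
  have hle : ⊤ ≤ L ⊔ (I * J) • (⊤ : Submodule A M) :=
    calc ⊤ ≤ L₁ ⊔ I • (⊤ : Submodule A M) := h₁
      _ ≤ L₁ ⊔ I • (L₂ ⊔ J • ⊤) := sup_le_sup_left (Submodule.smul_mono le_rfl h₂) _
      _ ≤ L ⊔ (I * J) • ⊤ := by
        rw [Submodule.smul_sup, Submodule.mul_smul]
        exact sup_le (le_sup_left.trans le_sup_left)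
          (sup_le_sup (Submodule.smul_le_right.trans le_sup_right) le_rfl)
  obtain ⟨n, hn⟩ := hn
  have : ∀ k, ⊤ ≤ L ⊔ (I * J) ^ k • (⊤ : Submodule A M) := by
    intro k
    induction k with
    | zero => simp
    | succ k ih =>
      refine ih.trans (sup_le le_sup_left ?_)
      calc (I * J) ^ k • ⊤ ≤ (I * J) ^ k • (L ⊔ (I * J) • ⊤) := Submodule.smul_mono le_rfl hle
        _ ≤ L ⊔ (I * J) ^ (k + 1) • ⊤ := by
          rw [Submodule.smul_sup, ← Submodule.mul_smul, ← pow_succ]
          exact sup_le_sup_right Submodule.smul_le_right _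
  have hn' := this n
  rw [hn, Submodule.zero_eq_bot, Submodule.bot_smul, sup_bot_eq] at hn'
  exact ⟨top_le_iff.1 hn' ▸ hL₁.sup hL₂⟩

theorem finite_top_of_nilp (hφ : Function.Surjective φ) (hn : IsNilpotent (RingHom.ker φ))
    (P : DRing.Cx A) (c : ℤ) [P.IsStrictlyLE c]
    (h : _root_.Module.Finite B (((extCx φ).obj P).homology c)) : _root_.Module.Finite A (P.homology c) := by
  obtain ⟨n, hn⟩ := hn
  have h' := exists_fg_top φ hφ P c h
  exact finite_of_two (RingHom.ker φ) (RingHom.ker φ) ⟨n, by rw [mul_pow, hn]; exact zero_mul _⟩ h' h'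

theorem pc_of_ext_nilp [DRing.HasLBaseChange φ] (hφ : Function.Surjective φ)
    (hn : IsNilpotent (RingHom.ker φ)) (m : ℤ) : ∀ (k : ℕ) (P : DRing.Cx A) (c b : ℤ), c < m + k →
      [P.IsStrictlyLE b] → (∀ i, _root_.Module.Flat A (P.X i)) → (DRing.toD P).IsLE c →
      DRing.IsPseudoCoherent B m (DRing.toD ((extCx φ).obj P)) →
      DRing.IsPseudoCoherent A m (DRing.toD P) := by
  intro k
  induction k with
  | zero =>
    intro P c b hc _ _ hle _
    exact DMod.pc_of_isLE (n := c) (by omega)
  | succ k ih =>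
    intro P c b hc _ hflat hle hpc
    by_cases hcm : c < m
    · exact DMod.pc_of_isLE hcm
    obtain ⟨P₀, hP₀, hf₀, ⟨e₀⟩⟩ := DMod.exists_free_resolution (DRing.toD P) c
    haveI := DMod.isKProjective c fun i => have := hf₀ i; (inferInstance : _root_.Module.Projective A (P₀.X i))
    obtain ⟨g₀, hg₀⟩ := DMod.exists_map_eq e₀.hom
    haveI : QuasiIso g₀ := by
      rw [← DerivedCategory.isIso_Q_map_iff_quasiIso, hg₀]; infer_instance
    haveI := quasiIso_ext φ g₀ (adapted_of_flat P₀ c (flat_of_free hf₀)) (adapted_of_flat P b hflat)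
    have hpc₀ : DRing.IsPseudoCoherent B m (DRing.toD ((extCx φ).obj P₀)) :=
      DMod.pc_of_iso (asIso (DerivedCategory.Q.map ((extCx φ).map g₀))).symm hpc
    refine DMod.pc_of_iso e₀ ?_
    haveI := isStrictlyLE_ext φ P₀ c
    haveI : (DRing.toD ((extCx φ).obj P₀)).IsLE c :=
      inferInstanceAs ((DerivedCategory.Q.obj ((extCx φ).obj P₀)).IsLE c)
    haveI := DMod.finite_top (DMod.pc_mono (show m ≤ c by omega) hpc₀)
    haveI := finite_top_of_nilp φ hφ hn P₀ c (_root_.Module.Finite.equiv
      (hdEquiv ((extCx φ).obj P₀) c).toLinearEquiv)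
    obtain ⟨F, f, hF, hFF, hsurj⟩ := exists_free_hom P₀ c
    obtain ⟨g, t, hT⟩ := DMod.exists_cone_triangle f
    have hFle := DMod.isLE_toD hF
    haveI : (DRing.toD P₀).IsLE c := inferInstanceAs ((DerivedCategory.Q.obj P₀).IsLE c)
    have hcone : (DRing.toD (CochainComplex.mappingCone f)).IsLE (c - 1) := by
      refine (DMod.cone_isLE_iff _ hT c).2 ⟨fun i hi => ?_, ?_⟩
      · exact ⟨0, (DerivedCategory.isZero_of_isLE (DRing.toD F) c i hi).eq_of_src _ _,
          (DerivedCategory.isZero_of_isLE (DRing.toD P₀) c i hi).eq_of_src _ _⟩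
      · show Epi ((DMod.HH c).map (DerivedCategory.Q.map f))
        haveI : Epi ((HomologicalComplex.homologyFunctor (ModuleCat.{u} A) (ComplexShape.up ℤ) c).map f) :=
          (ModuleCat.epi_iff_surjective _).2 hsurj
        exact ((MorphismProperty.epimorphisms _).arrow_mk_iso_iff
          (((Functor.mapArrowFunctor _ _).mapIso
            (DerivedCategory.homologyFunctorFactors (ModuleCat.{u} A) c)).app (Arrow.mk f))).2 this
    haveI := ((DMod.vanishesOutside_iff F c c).1 hF).2
    haveI := DMod.cone_isStrictlyLE f c c c (by omega) le_rfl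
    have hcone' : DRing.IsPseudoCoherent A m (DRing.toD (CochainComplex.mappingCone f)) := by
      refine ih _ (c - 1) c (by omega)
        (flat_cone f (fun i => have := (hFF i).2; inferInstance) (flat_of_free hf₀)) hcone ?_
      obtain ⟨g', t', hT'⟩ := DMod.exists_cone_triangle ((extCx φ).map f)
      exact DMod.pc_of_iso
        (DerivedCategory.Q.mapIso (CochainComplex.mappingCone.mapHomologicalComplexIso f
          (ModuleCat.extendScalars.{u, u, u} φ)).symm)
        (DMod.pc_triangle₃ _ hT'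
          (DMod.pc_toD (vanishesOutside_ext φ hF) (termwiseFiniteFree_ext φ hFF) _) hpc₀)
    exact DMod.pc_triangle₂ _ hT (DMod.pc_toD hF hFF m) hcone'

theorem pc'_of_lBaseChange [DRing.HasLBaseChange φ] (hφ : Function.Surjective φ)
    (hn : IsNilpotent (RingHom.ker φ)) (K : Dual.D A)
    (h : DRing.IsPseudoCoherent' B ((DRing.LBaseChange φ).obj K)) : DRing.IsPseudoCoherent' A K := by
  have h' := (DMod.pc'_iff _).1 h
  obtain ⟨c, hc⟩ := DMod.pc_bddAbove (h' 0)
  haveI := hc
  haveI := isLE_of_lBaseChange φ hφ hn K c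
  obtain ⟨P, hP, hPf, ⟨e⟩⟩ := DMod.exists_free_resolution K c
  refine (DMod.pc'_iff _).2 fun m => DMod.pc_of_iso e ?_
  haveI : (DRing.toD P).IsLE c := inferInstanceAs ((DerivedCategory.Q.obj P).IsLE c)
  exact pc_of_ext_nilp φ hφ hn m (c + 1 - m).toNat P c c (by omega) (flat_of_free hPf) inferInstance
    (DMod.pc_of_iso ((DRing.LBaseChange φ).mapIso e.symm ≪≫ valueIso φ P (adapted_of_flat P c (flat_of_free hPf))) (h' m))

end Groth.Agent.DBaseChange
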