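import Groth.Agent.Lib.DBaseChange.Nilp
import Groth.Agent.Lib.DBaseChange.TorTri

/-! Two surjections with product of kernels nilpotent. -/

set_option autoImplicit false
set_option linter.style.haveILetI false
set_option backward.isDefEq.respectTransparency false

universe u

open CategoryTheory CategoryTheory.Limits MonoidalCategory CategoryTheory.Pretriangulated CategoryTheory.Triangulated

attribute [local instance] HasDerivedCategory.standard

namespace Groth.Agent.DBaseChange

open KFlat KFlat.Module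

variable {A B C : Type u} [CommRing A] [CommRing B] [CommRing C] (φ : A →+* B) (ψ : A →+* C)

theorem finite_top_ext (P : DRing.Cx A) (c : ℤ) [P.IsStrictlyLE c]
    (h : DRing.IsPseudoCoherent B c (DRing.toD ((extCx φ).obj P))) :
    _root_.Module.Finite B (((extCx φ).obj P).homology c) := by
  haveI : ((extCx φ).obj P).IsStrictlyLE c := (CochainComplex.isStrictlyLE_iff _ _).2 fun i hi =>
    Functor.map_isZero (ModuleCat.extendScalars.{u, u, u} φ) (P.isZero_of_isStrictlyLE c i hi)
  haveI : (DRing.toD ((extCx φ).obj P)).IsLE c :=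
    inferInstanceAs ((DerivedCategory.Q.obj ((extCx φ).obj P)).IsLE c)
  haveI := DMod.finite_top h
  exact _root_.Module.Finite.equiv (hdEquiv ((extCx φ).obj P) c).toLinearEquiv

theorem pc_of_ext_two (hφ : Function.Surjective φ) (hψ : Function.Surjective ψ)
    (hn : IsNilpotent (RingHom.ker φ * RingHom.ker ψ)) (m : ℤ) : ∀ (k : ℕ) (P : DRing.Cx A) (c b : ℤ), c < m + k →
      [P.IsStrictlyLE b] → (∀ i, _root_.Module.Flat A (P.X i)) → (DRing.toD P).IsLE c →
      DRing.IsPseudoCoherent B m (DRing.toD ((extCx φ).obj P)) →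
      DRing.IsPseudoCoherent C m (DRing.toD ((extCx ψ).obj P)) →
      DRing.IsPseudoCoherent A m (DRing.toD P) := by
  intro k
  induction k with
  | zero =>
    intro P c b hc _ _ hle _ _
    exact DMod.pc_of_isLE (n := c) (by omega)
  | succ k ih =>
    intro P c b hc _ hflat hle hpc hpc'
    by_cases hcm : c < m
    · exact DMod.pc_of_isLE hcm
    obtain ⟨P₀, hP₀, hf₀, ⟨e₀⟩⟩ := DMod.exists_free_resolution (DRing.toD P) c
    haveI := DMod.isKProjective c fun i => have := hf₀ i; (inferInstance : _root_.Module.Projective A (P₀.X i))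
    obtain ⟨g₀, hg₀⟩ := DMod.exists_map_eq e₀.hom
    haveI : QuasiIso g₀ := by
      rw [← DerivedCategory.isIso_Q_map_iff_quasiIso, hg₀]; infer_instance
    haveI := quasiIso_ext φ g₀ (adapted_of_flat P₀ c (flat_of_free hf₀)) (adapted_of_flat P b hflat)
    have hpc₀ : DRing.IsPseudoCoherent B m (DRing.toD ((extCx φ).obj P₀)) :=
      DMod.pc_of_iso (asIso (DerivedCategory.Q.map ((extCx φ).map g₀))).symm hpc
    haveI := quasiIso_ext ψ g₀ (adapted_of_flat P₀ c (flat_of_free hf₀)) (adapted_of_flat P b hflat)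
    have hpc₀' : DRing.IsPseudoCoherent C m (DRing.toD ((extCx ψ).obj P₀)) :=
      DMod.pc_of_iso (asIso (DerivedCategory.Q.map ((extCx ψ).map g₀))).symm hpc'
    refine DMod.pc_of_iso e₀ ?_
    haveI : _root_.Module.Finite A (P₀.homology c) := finite_of_two _ _ hn
      (exists_fg_top φ hφ P₀ c (finite_top_ext φ P₀ c (DMod.pc_mono (show m ≤ c by omega) hpc₀)))
      (exists_fg_top ψ hψ P₀ c (finite_top_ext ψ P₀ c (DMod.pc_mono (show m ≤ c by omega) hpc₀')))
    obtain ⟨F, f, hF, hFF, hsurj⟩ := exists_free_hom P₀ c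
    obtain ⟨g, t, hT⟩ := DMod.exists_cone_triangle f
    have hFle := DMod.isLE_toD hF
    haveI : (DRing.toD P₀).IsLE c := inferInstanceAs ((DerivedCategory.Q.obj P₀).IsLE c)
    have hcone : (DRing.toD (CochainComplex.mappingCone f)).IsLE (c - 1) := by
      refine (DMod.cone_isLE_iff _ hT c).2 ⟨fun i hi => ?_, ?_⟩
      · exact ⟨0, (DerivedCategory.isZero_of_isLE (DRing.toD F) c i hi).eq_of_src _ _,
          (DerivedCategory.isZero_of_isLE (DRing.toD P₀) c i hi).eq_of_src _ _⟩
      · show Epi ((DMod.HH c).map (DerivedCategory.Q.map f))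
        haveI : Epi ((HomologicalComplex.homologyFunctor (ModuleCat.{u} A) (ComplexShape.up ℤ) c).map f) :=
          (ModuleCat.epi_iff_surjective _).2 hsurj
        exact ((MorphismProperty.epimorphisms _).arrow_mk_iso_iff
          (((Functor.mapArrowFunctor _ _).mapIso
            (DerivedCategory.homologyFunctorFactors (ModuleCat.{u} A) c)).app (Arrow.mk f))).2 this
    haveI := ((DMod.vanishesOutside_iff F c c).1 hF).2
    haveI := DMod.cone_isStrictlyLE f c c c (by omega) le_rfl
    have hcone' : DRing.IsPseudoCoherent A m (DRing.toD (CochainComplex.mappingCone f)) := by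
      refine ih _ (c - 1) c (by omega)
        (flat_cone f (fun i => have := (hFF i).2; inferInstance) (flat_of_free hf₀)) hcone ?_ ?_
      · obtain ⟨g', t', hT'⟩ := DMod.exists_cone_triangle ((extCx φ).map f)
        exact DMod.pc_of_iso
          (DerivedCategory.Q.mapIso (CochainComplex.mappingCone.mapHomologicalComplexIso f
          (ModuleCat.extendScalars.{u, u, u} φ)).symm)
          (DMod.pc_triangle₃ _ hT'
          (DMod.pc_toD (vanishesOutside_ext φ hF) (termwiseFiniteFree_ext φ hFF) _) hpc₀)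
      · obtain ⟨g', t', hT'⟩ := DMod.exists_cone_triangle ((extCx ψ).map f)
        exact DMod.pc_of_iso
          (DerivedCategory.Q.mapIso (CochainComplex.mappingCone.mapHomologicalComplexIso f
          (ModuleCat.extendScalars.{u, u, u} ψ)).symm)
          (DMod.pc_triangle₃ _ hT'
          (DMod.pc_toD (vanishesOutside_ext ψ hF) (termwiseFiniteFree_ext ψ hFF) _) hpc₀')
    exact DMod.pc_triangle₂ _ hT (DMod.pc_toD hF hFF m) hcone'

theorem subsingleton_tm_of_ext (hφ : Function.Surjective φ) {P : DRing.Cx A} (M : ModuleCat.{u} A)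
    (hM : RingHom.ker φ • (⊤ : Submodule A M) = ⊥) (i : ℤ)
    (h : ∀ N : ModuleCat.{u} B, Subsingleton (((tm N).obj ((extCx φ).obj P)).homology i)) :
    Subsingleton (((tm M).obj P).homology i) := by
  obtain ⟨N, ⟨eN⟩⟩ := exists_iso_res φ hφ M hM
  exact ((HomologicalComplex.homologyFunctor _ _ i).mapIso
    ((NatIso.mapHomologicalComplex ((tensoringRight (ModuleCat.{u} A)).mapIso eN)
      (ComplexShape.up ℤ)).app P)).toLinearEquiv.toEquiv.subsingleton_congr.2
        (subsingleton_tm_res φ N i (h N))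

theorem isPerfect_of_two (hφ : Function.Surjective φ) (hψ : Function.Surjective ψ)
    (h0 : RingHom.ker φ * RingHom.ker ψ = ⊥) (P : DRing.Cx A) (hP : Adapted P)
    (hB : DRing.IsPerfect B (DRing.toD ((extCx φ).obj P)))
    (hC : DRing.IsPerfect C (DRing.toD ((extCx ψ).obj P))) :
    DRing.IsPerfect A (DRing.toD P) := by
  obtain ⟨a₁, b₁, h₁⟩ := torAmp_of_isPerfect hB
  obtain ⟨a₂, b₂, h₂⟩ := torAmp_of_isPerfect hC
  have hb₁ := (torAmp_iff_torBound (adapted_ext φ hP) a₁ b₁).1 h₁
  have hb₂ := (torAmp_iff_torBound (adapted_ext ψ hP) a₂ b₂).1 h₂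
  let a := min a₁ a₂
  let b := max b₁ b₂
  have key : ∀ (M : ModuleCat.{u} A) (i : ℤ), (i < a ∨ b < i) → Subsingleton (((tm M).obj P).homology i) := by
    intro M i hi
    have s₁ : ∀ N : ModuleCat.{u} B, Subsingleton (((tm N).obj ((extCx φ).obj P)).homology i) := fun N => by
      refine (DMod.subsingleton_HD_toD_iff _ i).1 ?_
      rcases hi with hi | hi
      · exact (DMod.isGE_iff _ a₁).1 (hb₁ N).1 i (by omega)
      · exact (DMod.isLE_iff _ b₁).1 (hb₁ N).2 i (by omega)
    have s₂ : ∀ N : ModuleCat.{u} C, Subsingleton (((tm N).obj ((extCx ψ).obj P)).homology i) := fun N => by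
      refine (DMod.subsingleton_HD_toD_iff _ i).1 ?_
      rcases hi with hi | hi
      · exact (DMod.isGE_iff _ a₂).1 (hb₂ N).1 i (by omega)
      · exact (DMod.isLE_iff _ b₂).1 (hb₂ N).2 i (by omega)
    refine subsingleton_tm_of_submodule (fun k => (isFlat_iff _).1 (hP.2.2 k)) i
      (RingHom.ker ψ • (⊤ : Submodule A M)) (subsingleton_tm_of_ext φ hφ _ ?_ i s₁)
      (subsingleton_tm_of_ext ψ hψ _ ?_ i s₂)
    · refine Submodule.map_injective_of_injective (Submodule.injective_subtype (RingHom.ker ψ • (⊤ : Submodule A M))) ?_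
      rw [Submodule.map_bot, Submodule.map_smul'', Submodule.map_top, Submodule.range_subtype,
        ← Submodule.smul_assoc, smul_eq_mul, h0, Submodule.bot_smul]
    · rw [← Submodule.range_mkQ, ← Submodule.map_top, ← Submodule.map_smul'']
      exact Submodule.mkQ_map_self _
  have ht : DRing.HasTorAmplitudeIn A a b (DRing.toD P) := (torAmp_iff_torBound hP a b).2 fun M =>
    ⟨(DMod.isGE_iff _ a).2 fun i hi => (DMod.subsingleton_HD_toD_iff _ i).2 (key M i (Or.inl hi)),
      (DMod.isLE_iff _ b).2 fun i hi => (DMod.subsingleton_HD_toD_iff _ i).2 (key M i (Or.inr hi))⟩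
  refine isPerfect_of_pc_of_torAmp ((DMod.pc'_iff _).2 fun m => ?_) ht
  obtain ⟨E, hE, -, ⟨e⟩⟩ := id ht
  haveI : (DRing.toD E).IsLE b := DMod.isLE_toD hE
  haveI : (DRing.toD P).IsLE b := DMod.exists_iso_of_isLE _ b e
  obtain ⟨F, hF, hFf, ⟨f⟩⟩ := DMod.exists_free_resolution (DRing.toD P) b
  haveI := DMod.isKProjective b fun i => have := hFf i; (inferInstance : _root_.Module.Projective A (F.X i))
  obtain ⟨g, hg⟩ := DMod.exists_map_eq f.hom
  haveI : QuasiIso g := by
    rw [← DerivedCategory.isIso_Q_map_iff_quasiIso, hg]; infer_instance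
  have hFa := adapted_of_flat F b (flat_of_free hFf)
  haveI := quasiIso_ext φ g hFa hP
  haveI := quasiIso_ext ψ g hFa hP
  refine DMod.pc_of_iso f ?_
  exact pc_of_ext_two φ ψ hφ hψ ⟨1, by rw [pow_one, h0]; rfl⟩ m (b + 1 - m).toNat F b b (by omega)
    (flat_of_free hFf) (inferInstanceAs ((DerivedCategory.Q.obj F).IsLE b))
    (DMod.pc_of_iso (asIso (DerivedCategory.Q.map ((extCx φ).map g))).symm
      ((DMod.pc'_iff _).1 (DMod.pc'_of_perfect hB) m))
    (DMod.pc_of_iso (asIso (DerivedCategory.Q.map ((extCx ψ).map g))).symm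
      ((DMod.pc'_iff _).1 (DMod.pc'_of_perfect hC) m))

/-- Extension of scalars of complexes along a composite. -/
noncomputable def extCompIso {D : Type u} [CommRing D] (χ : B →+* D) (P : DRing.Cx A) :
    (extCx (χ.comp φ)).obj P ≅ (extCx χ).obj ((extCx φ).obj P) :=
  (NatIso.mapHomologicalComplex (ModuleCat.extendScalarsComp φ χ) (ComplexShape.up ℤ)).app P

end Groth.Agent.DBaseChange
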