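import Groth.Agent.Lib.DBaseChange.ResCriterion
import Groth.Agent.Lib.DBaseChange.FlatColim
import Groth.Agent.Lib.KFlat.Colim
import Mathlib.Algebra.Category.ModuleCat.AB
import Mathlib.Algebra.Category.ModuleCat.Adjunctions
import Mathlib.Algebra.Category.ModuleCat.ChangeOfRings

/-!
Tor amplitude over `A` of `F ⊗_B L` for a flat `B`-module `F`.
-/

set_option autoImplicit false
set_option linter.style.haveILetI false
set_option backward.isDefEq.respectTransparency false

universe u

open CategoryTheory CategoryTheory.Limits MonoidalCategory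

attribute [local instance] HasDerivedCategory.standard

namespace Groth.Agent.DBaseChange

open KFlat KFlat.Module

variable {A B : Type u} [CommRing A] [CommRing B] (φ : A →+* B)

/-- `N ↦ L ⊗ N`, as a functor of the module. -/
noncomputable def tmFun (L : DRing.Cx B) : ModuleCat.{u} B ⥤ DRing.Cx B where
  obj N := (tm N).obj L
  map g := (NatTrans.mapHomologicalComplex ((tensoringRight (ModuleCat.{u} B)).map g) (ComplexShape.up ℤ)).app L
  map_id N := by ext1 i; exact MonoidalCategory.whiskerLeft_id _ _
  map_comp g h := by ext1 i; exact MonoidalCategory.whiskerLeft_comp _ g h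

instance (L : DRing.Cx B) : (tmFun L).Additive where
  map_add {X Y f g} := by ext1 i; exact MonoidalPreadditive.whiskerLeft_add (X := (L.X i : ModuleCat.{u} B)) f g

/-- Degreewise it is `L^i ⊗ -`. -/
noncomputable def tmFunEval (L : DRing.Cx B) (i : ℤ) :
    tmFun L ⋙ HomologicalComplex.eval (ModuleCat.{u} B) (ComplexShape.up ℤ) i ≅ tensorLeft (L.X i) :=
  NatIso.ofComponents (fun N => Iso.refl _) fun g => (Category.comp_id _).trans (Category.id_comp _).symm

variable (L : DRing.Cx B) (M : ModuleCat.{u} A) (i : ℤ)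

/-- The cohomology of `M ⊗^L_A (L ⊗_B N)` as a functor of `N`. -/
noncomputable def psi : ModuleCat.{u} B ⥤ ModuleCat.{u} A :=
  tmFun L ⋙ DRing.restrictCx φ ⋙ qT M ⋙ HomologicalComplex.homologyFunctor _ (ComplexShape.up ℤ) i

instance : (DRing.restrictCx φ).Additive := by unfold DRing.restrictCx; infer_instance

instance : (psi φ L M i).Additive := by unfold psi; infer_instance

theorem preservesColimitsOfShape_psi (J : Type u) [SmallCategory J] [IsFiltered J] :
    PreservesColimitsOfShape J (psi φ L M i) := by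
  haveI : PreservesColimitsOfShape J (tmFun L) :=
    HomologicalComplex.preservesColimitsOfShape_of_eval _ fun j =>
      haveI : PreservesColimitsOfSize.{u, u} (tensorLeft (L.X j)) :=
        (ihom.adjunction (L.X j)).leftAdjoint_preservesColimits
      preservesColimitsOfShape_of_natIso (tmFunEval L j).symm
  haveI : PreservesColimitsOfSize.{u, u} (ModuleCat.restrictScalars.{u} φ) :=
    (ModuleCat.restrictCoextendScalarsAdj φ).leftAdjoint_preservesColimits
  haveI : PreservesColimitsOfShape J (DRing.restrictCx φ) :=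
    HomologicalComplex.preservesColimitsOfShape_of_eval _ fun j =>
      (inferInstance : PreservesColimitsOfShape J
        (HomologicalComplex.eval (ModuleCat.{u} B) (ComplexShape.up ℤ) j ⋙ ModuleCat.restrictScalars.{u} φ))
  haveI : ∀ X, PreservesColimitsOfShape J ((TM A).obj X) := fun X =>
    haveI : PreservesColimitsOfSize.{u, u} (tensorLeft X) :=
      (ihom.adjunction X).leftAdjoint_preservesColimits
    inferInstanceAs (PreservesColimitsOfShape J (tensorLeft X))
  haveI : ∀ X, PreservesColimitsOfShape J ((TM A).flip.obj X) := fun X =>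
    have : PreservesColimitsOfShape J (tensorLeft X) :=
      (inferInstance : PreservesColimitsOfShape J ((TM A).obj X))
    preservesColimitsOfShape_of_natIso (BraidedCategory.tensorLeftIsoTensorRight X)
  haveI : PreservesColimitsOfShape J (qT M) := preservesColimitsOfShape_left (T := TM A) (J := J) (qres M)
  unfold psi
  infer_instance

theorem isZero_psi_iff (N : ModuleCat.{u} B) :
    IsZero ((psi φ L M i).obj N) ↔ ((qT M).obj ((DRing.restrictCx φ).obj ((tm N).obj L))).ExactAt i :=
  (HomologicalComplex.exactAt_iff_isZero_homology _ _).symm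

theorem exactAt_self_iff :
    ((qT M).obj ((DRing.restrictCx φ).obj ((tm (ModuleCat.of B B)).obj L))).ExactAt i ↔
      ((qT M).obj ((DRing.restrictCx φ).obj L)).ExactAt i :=
  exactAt_iff_of_quasiIsoAt ((qT M).mapIso ((DRing.restrictCx φ).mapIso (tmSelfIso L))).hom i

variable {a b : ℤ}

theorem torAmp_res_flat (F : ModuleCat.{u} B) [_root_.Module.Flat B F]
    (hL : DRing.HasTorAmplitudeIn A a b (DRing.toD ((DRing.restrictCx φ).obj L))) :
    DRing.HasTorAmplitudeIn A a b (DRing.toD ((DRing.restrictCx φ).obj ((tm F).obj L))) := by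
  rw [torAmp_iff_qT] at hL ⊢
  intro M i hi
  have := preservesColimitsOfShape_psi φ L M i (FlatColim.Stage F)
  exact (isZero_psi_iff φ L M i F).1 (FlatColim.isZero_map_of_flat (psi φ L M i)
    ((isZero_psi_iff φ L M i _).2 ((exactAt_self_iff φ L M i).2 (hL M i hi))))

/-- Tor amplitude is detected by flat modules with enough sections. -/
theorem torAmp_res_of_cover {ι : Type*} (F : ι → ModuleCat.{u} B) [∀ j, _root_.Module.Flat B (F j)]
    (g : ∀ j, ModuleCat.of B B ⟶ F j)
    (hcov : ∀ I : Ideal B, (∀ j, g j (1 : B) ∈ I • (⊤ : Submodule B (F j))) → (1 : B) ∈ I)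
    (hF : ∀ j, DRing.HasTorAmplitudeIn A a b (DRing.toD ((DRing.restrictCx φ).obj ((tm (F j)).obj L)))) :
    DRing.HasTorAmplitudeIn A a b (DRing.toD ((DRing.restrictCx φ).obj L)) := by
  rw [torAmp_iff_qT]
  intro M i hi
  refine (exactAt_self_iff φ L M i).1 ((isZero_psi_iff φ L M i _).1 ?_)
  rw [DMod.isZero_iff_subsingleton]
  refine subsingleton_of_forall_eq 0 fun h => ?_
  let Φ := psi φ L M i
  let I : Ideal B :=
    { carrier := {c | Φ.map (c • 𝟙 (ModuleCat.of B B)) h = 0}
      zero_mem' := by
        show Φ.map ((0 : B) • 𝟙 (ModuleCat.of B B)) h = 0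
        rw [zero_smul, Φ.map_zero]; rfl
      add_mem' := fun {c d} hc hd => by
        show Φ.map ((c + d) • 𝟙 (ModuleCat.of B B)) h = 0
        rw [add_smul, Φ.map_add]
        show Φ.map (c • 𝟙 (ModuleCat.of B B)) h + Φ.map (d • 𝟙 (ModuleCat.of B B)) h = 0
        rw [hc, hd, add_zero]
      smul_mem' := fun c d hd => by
        show Φ.map ((c * d) • 𝟙 (ModuleCat.of B B)) h = 0
        have e : (c * d) • 𝟙 (ModuleCat.of B B) = (d • 𝟙 _) ≫ (c • 𝟙 (ModuleCat.of B B)) := by
          simp [smul_smul]
        rw [e, Φ.map_comp, ModuleCat.comp_apply, hd, map_zero] }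
  have key : ∀ j, g j (1 : B) ∈ I • (⊤ : Submodule B (F j)) := fun j => by
    have := preservesColimitsOfShape_psi φ L M i (FlatColim.Stage (F j))
    refine FlatColim.mem_smul_top_of_map_eq_zero Φ (g j) h ?_ I fun c hc => hc
    have hz : IsZero (Φ.obj (F j)) :=
      (isZero_psi_iff φ L M i (F j)).2 ((torAmp_iff_qT _ a b).1 (hF j) M i hi)
    exact @Subsingleton.elim _ (ModuleCat.subsingleton_of_isZero hz) _ _
  have h1 : Φ.map ((1 : B) • 𝟙 (ModuleCat.of B B)) h = 0 := hcov I key
  rwa [one_smul, Φ.map_id, ModuleCat.id_apply] at h1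

end Groth.Agent.DBaseChange
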