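import Groth.Agent.Lib.DBaseChange.ResFlat
import Groth.Agent.Lib.DBaseChange.ResTor
import Mathlib.Algebra.Category.ModuleCat.ChangeOfRings
import Mathlib.RingTheory.Flat.Stability

/-!
Tor amplitude after restriction is local on the algebra.
-/

set_option autoImplicit false
set_option linter.style.haveILetI false
set_option backward.isDefEq.respectTransparency false

universe u

open CategoryTheory CategoryTheory.Limits MonoidalCategory

attribute [local instance] HasDerivedCategory.standard

namespace Groth.Agent.DBaseChange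

variable {A B S : Type u} [CommRing A] [CommRing B] [CommRing S]

/-- An algebra as a module. -/
noncomputable abbrev algMod (ψ : B →+* S) : ModuleCat.{u} B :=
  (ModuleCat.restrictScalars.{u} ψ).obj (ModuleCat.of S S)

/-- The element one. -/
noncomputable def algOne (ψ : B →+* S) : algMod ψ := (1 : S)

/-- Its unit section. -/
noncomputable def algUnit (ψ : B →+* S) : ModuleCat.of B B ⟶ algMod ψ :=
  ModuleCat.ofHom (X := B) (Y := ↥(algMod ψ)) (LinearMap.toSpanSingleton B (algMod ψ) (algOne ψ))

theorem algUnit_one (ψ : B →+* S) : algUnit ψ (1 : B) = algOne ψ :=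
  one_smul B (algOne ψ)

theorem flat_algMod (ψ : B →+* S) (h : ψ.Flat) : _root_.Module.Flat B (algMod ψ) := h

theorem smul_ext (ψ : B →+* S) (X : ModuleCat.{u} B) (b : B) (z : TensorProduct B (algMod ψ) X) :
    ((ψ b • (z : (ModuleCat.extendScalars.{u, u, u} ψ).obj X) :
        (ModuleCat.extendScalars.{u, u, u} ψ).obj X) : TensorProduct B (algMod ψ) X) = b • z := by
  induction z using TensorProduct.induction_on with
  | zero => exact (smul_zero _).trans (smul_zero _).symm
  | add x y hx hy =>
    exact ((smul_add (ψ b) _ _).trans (congrArg₂ (· + ·) hx hy)).trans (smul_add b x y).symm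
  | tmul s x => rfl

/-- Restricting an extension of scalars is tensoring, then restricting. -/
noncomputable def resExtIso (φ : A →+* B) (ψ : B →+* S) (χ : A →+* S) (h : χ = ψ.comp φ) :
    ModuleCat.extendScalars.{u, u, u} ψ ⋙ ModuleCat.restrictScalars.{u} χ ≅
      tensorRight (algMod ψ) ⋙ ModuleCat.restrictScalars.{u} φ :=
  NatIso.ofComponents
    (fun X => LinearEquiv.toModuleIso
      ({ (TensorProduct.comm B (algMod ψ) X).toAddEquiv with
          map_smul' := fun a z => by
            subst h
            refine Eq.trans ?_ ((TensorProduct.comm B (algMod ψ) X).map_smul (φ a) z)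
            exact congrArg (TensorProduct.comm B (algMod ψ) X) (smul_ext ψ X (φ a) z) } :
        (ModuleCat.restrictScalars.{u} χ).obj ((ModuleCat.extendScalars.{u, u, u} ψ).obj X) ≃ₗ[A]
          (ModuleCat.restrictScalars.{u} φ).obj ((tensorRight (algMod ψ)).obj X)))
    fun {X Y} g => by
      ext z
      induction z using TensorProduct.induction_on with
      | zero => exact (map_zero _).trans (map_zero _).symm
      | add x y hx hy => exact ((map_add _ x y).trans (congrArg₂ (· + ·) hx hy)).trans (map_add _ x y).symm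
      | tmul s x => rfl

theorem torAmp_res_ext_iff (φ : A →+* B) (ψ : B →+* S) (χ : A →+* S) (h : χ = ψ.comp φ)
    (L : DRing.Cx B) (a b : ℤ) :
    DRing.HasTorAmplitudeIn A a b (DRing.toD ((DRing.restrictCx χ).obj ((extCx ψ).obj L))) ↔
      DRing.HasTorAmplitudeIn A a b (DRing.toD ((DRing.restrictCx φ).obj ((tm (algMod ψ)).obj L))) :=
  let e : (DRing.restrictCx χ).obj ((extCx ψ).obj L) ≅ (DRing.restrictCx φ).obj ((tm (algMod ψ)).obj L) :=
    (NatIso.mapHomologicalComplex (resExtIso φ ψ χ h) (ComplexShape.up ℤ)).app L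
  ⟨hasTorAmplitudeIn_of_iso (DerivedCategory.Q.mapIso e),
    hasTorAmplitudeIn_of_iso (DerivedCategory.Q.mapIso e).symm⟩

theorem mem_of_one_mem_smul_top {ψ : B →+* S} {I : Ideal B}
    (h : algOne ψ ∈ I • (⊤ : Submodule B (algMod ψ))) : (1 : S) ∈ I.map ψ := by
  have key : ∀ x : algMod ψ, x ∈ I • (⊤ : Submodule B (algMod ψ)) → (show S from x) ∈ I.map ψ :=
    fun x hx => by
    refine Submodule.smul_induction_on hx (fun c hc y _ => ?_) fun x y hx hy => (I.map ψ).add_mem hx hy
    exact (I.map ψ).mul_mem_right (show S from y) (Ideal.mem_map_of_mem ψ hc)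
  exact key _ h

/-- The faithfully flat case. -/
theorem torAmp_res_ext_faithfullyFlat_iff (φ : A →+* B) [Algebra B S] [_root_.Module.FaithfullyFlat B S]
    (χ : A →+* S) (h : χ = (algebraMap B S).comp φ) (L : DRing.Cx B) (a b : ℤ) :
    DRing.HasTorAmplitudeIn A a b (DRing.toD ((DRing.restrictCx φ).obj L)) ↔
      DRing.HasTorAmplitudeIn A a b (DRing.toD ((DRing.restrictCx χ).obj ((extCx (algebraMap B S)).obj L))) := by
  haveI := flat_algMod (algebraMap B S) (RingHom.flat_algebraMap_iff.2 inferInstance)
  rw [torAmp_res_ext_iff φ (algebraMap B S) χ h]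
  refine ⟨fun hL => torAmp_res_flat φ L (algMod (algebraMap B S)) hL, fun hF => ?_⟩
  refine torAmp_res_of_cover φ L (fun _ : PUnit.{1} => algMod (algebraMap B S))
    (fun _ => algUnit (algebraMap B S)) (fun I hI => ?_) (fun _ => hF)
  have h1 := hI PUnit.unit
  rw [algUnit_one] at h1
  by_contra hne
  obtain ⟨m, hm, hle⟩ := Ideal.exists_le_maximal I fun e => hne (e ▸ Submodule.mem_top)
  obtain ⟨q, hq⟩ := (Ideal.eq_top_iff_one _).2 (mem_of_one_mem_smul_top h1) ▸
    (show ∃ q : Ideal S, q ≠ ⊤ ∧ I.map (algebraMap B S) ≤ q from by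
      have := hm.isPrime
      obtain ⟨P, hP⟩ := PrimeSpectrum.comap_surjective_of_faithfullyFlat (A := B) (B := S) ⟨m, this⟩
      refine ⟨P.asIdeal, P.isPrime.ne_top, Ideal.map_le_iff_le_comap.2 ?_⟩
      rw [← PrimeSpectrum.comap_asIdeal, hP]
      exact hle)
  exact hq.1 (top_le_iff.1 hq.2)

/-- Tor amplitude over `A` is detected at the maximal ideals of `B`. -/
theorem torAmp_res_of_maximal [Algebra A B] (K : DRing.Cx B) (a b : ℤ)
    (h3 : ∀ (m : Ideal B) [m.IsMaximal],
      DRing.HasTorAmplitudeIn (Localization.AtPrime (m.comap (algebraMap A B))) a b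
        (DRing.toD ((DRing.restrictCx (Localization.localRingHom (m.comap (algebraMap A B)) m (algebraMap A B) rfl)).obj
          (((ModuleCat.extendScalars (algebraMap B (Localization.AtPrime m))).mapHomologicalComplex
            (ComplexShape.up ℤ)).obj K)))) :
    DRing.HasTorAmplitudeIn A a b (DRing.toD ((DRing.restrictCx (algebraMap A B)).obj K)) := by
  let ι := {m : Ideal B // m.IsMaximal}
  haveI hflat : ∀ m : ι, haveI := m.2; _root_.Module.Flat B (algMod (algebraMap B (Localization.AtPrime m.1))) :=
    fun m => haveI := m.2; flat_algMod _ (RingHom.flat_algebraMap_iff.2 inferInstance)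
  refine torAmp_res_of_cover (algebraMap A B) K
    (fun m : ι => haveI := m.2; algMod (algebraMap B (Localization.AtPrime m.1)))
    (fun m => haveI := m.2; algUnit (algebraMap B (Localization.AtPrime m.1))) (fun I hI => ?_) fun m => ?_
  · by_contra hne
    obtain ⟨m, hm, hle⟩ := Ideal.exists_le_maximal I fun e => hne (e ▸ Submodule.mem_top)
    have h1 := hI ⟨m, hm⟩
    rw [algUnit_one] at h1
    have h2 := (Ideal.map_mono hle) (mem_of_one_mem_smul_top h1)
    rw [Localization.AtPrime.map_eq_maximalIdeal] at h2
    exact (IsLocalRing.maximalIdeal.isMaximal _).ne_top ((Ideal.eq_top_iff_one _).2 h2)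
  · haveI := m.2
    let p := m.1.comap (algebraMap A B)
    let S := Localization.AtPrime m.1
    let l := Localization.localRingHom p m.1 (algebraMap A B) rfl
    let α := algebraMap A (Localization.AtPrime p)
    have hχ : l.comp α = (algebraMap B S).comp (algebraMap A B) :=
      RingHom.ext fun x => Localization.localRingHom_to_map p m.1 (algebraMap A B) rfl x
    refine (torAmp_res_ext_iff (algebraMap A B) (algebraMap B S) (l.comp α) hχ K a b).1 ?_
    have hflat : DRing.HasTorAmplitudeIn A (-((0 : ℕ) : ℤ)) 0 (Dual.inD A (Localization.AtPrime p)) :=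
      TorBal.amplitude_of_hasTorDimLE _ 0 ((TorBal.flat_iff_hasTorDimLE_zero _).2 inferInstance)
    have := hasTorAmplitudeIn_restrict hflat _ a b (h3 m.1)
    rw [Nat.cast_zero, sub_zero] at this
    refine hasTorAmplitudeIn_of_iso ?_ this
    exact (ModuleCat.restrictScalars.{u} α).mapDerivedCategoryFactors.app _ ≪≫
      DerivedCategory.Q.mapIso
        (((NatIso.mapHomologicalComplex (ModuleCat.restrictScalarsComp.{u} α l) (ComplexShape.up ℤ)).app
          ((extCx (algebraMap B S)).obj K)).symm)

end Groth.Agent.DBaseChange
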