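import Groth.Agent.Lib.DBaseChange.Fibre
import Groth.Agent.Lib.DMod.Splitting
import Groth.Agent.Lib.DBaseChange.ResPerfect
import Mathlib.RingTheory.LocalRing.ResidueField.Ideal
import Mathlib.RingTheory.LocalRing.Module
import Mathlib.RingTheory.Support
import Mathlib.LinearAlgebra.TensorProduct.Tower

/-! A fibre-exact degree of a finite free complex splits on a standard open. -/

set_option autoImplicit false
set_option linter.style.haveILetI false
set_option backward.isDefEq.respectTransparency false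

universe u

open CategoryTheory CategoryTheory.Limits CategoryTheory.Pretriangulated CategoryTheory.Triangulated
open scoped TensorProduct

attribute [local instance] HasDerivedCategory.standard

namespace Groth.Agent.DBaseChange

variable {R : Type u} [CommRing R]

theorem exact_lTensor_of_ext' {S : Type u} [CommRing S] (φ : R →+* S) (F : DRing.Cx R) (l : ℤ)
    (h : Subsingleton (((extCx φ).obj F).homology l)) :
    letI := φ.toAlgebra
    Function.Exact ((F.d (l - 1) l).hom.lTensor S) ((F.d l (l + 1)).hom.lTensor S) := by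
  let G := (extCx φ).obj F
  intro z
  constructor
  · intro hz
    exact (DMod.subsingleton_homology_iff G (i := l - 1) (k := l + 1) (by simp) (by simp)).1 h z hz
  · rintro ⟨y, rfl⟩
    change G.d l (l + 1) (G.d (l - 1) l y) = 0
    rw [← ModuleCat.comp_apply, G.d_comp_d]
    rfl

theorem exact_lTensor_of_ext {S : Type u} [CommRing S] [Algebra R S] (F : DRing.Cx R) (l : ℤ)
    (h : Subsingleton (((extCx (algebraMap R S)).obj F).homology l)) :
    Function.Exact ((F.d (l - 1) l).hom.lTensor S) ((F.d l (l + 1)).hom.lTensor S) := by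
  have e : (algebraMap R S).toAlgebra = ‹Algebra R S› := Algebra.algebra_ext _ _ fun _ => rfl
  have h' := exact_lTensor_of_ext' (algebraMap R S) F l h
  rw [e] at h'
  exact h'

variable (p : Ideal R) [p.IsPrime]

theorem exists_smul_eq_one_tmul {T : Type u} [AddCommGroup T] [_root_.Module R T]
    (x : p.ResidueField ⊗[R] T) : ∃ D : R, D ∉ p ∧ ∃ t : T, D • x = 1 ⊗ₜ t := by
  induction x using TensorProduct.induction_on with
  | zero => exact ⟨1, p.ne_top_iff_one.1 (Ideal.IsPrime.ne_top inferInstance), 0, by simp⟩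
  | tmul c t =>
    obtain ⟨⟨a, s, hs⟩, h⟩ := IsLocalization.surj (nonZeroDivisors (R ⧸ p)) c
    obtain ⟨a, rfl⟩ := Ideal.Quotient.mk_surjective a
    obtain ⟨s, rfl⟩ := Ideal.Quotient.mk_surjective s
    refine ⟨s, fun hsp => ?_, a • t, ?_⟩
    · exact (mem_nonZeroDivisors_iff_ne_zero.1 hs) (Ideal.Quotient.eq_zero_iff_mem.2 hsp)
    · have h' : c * algebraMap R p.ResidueField s = algebraMap R p.ResidueField a := h
      rw [TensorProduct.smul_tmul', Algebra.smul_def, mul_comm, h', ← TensorProduct.smul_tmul,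
        Algebra.smul_def, mul_one]
  | add x y hx hy =>
    obtain ⟨D, hD, t, ht⟩ := hx
    obtain ⟨D', hD', t', ht'⟩ := hy
    refine ⟨D * D', fun h => (Ideal.IsPrime.mem_or_mem inferInstance h).elim hD hD', D' • t + D • t', ?_⟩
    rw [smul_add, mul_smul D D' y, ht', mul_comm D D', mul_smul D' D x, ht, TensorProduct.tmul_add,
      ← TensorProduct.tmul_smul, ← TensorProduct.tmul_smul]

theorem exists_away_splitting (F : DRing.Cx R) (hF : DRing.TermwiseFiniteFree F) (i : ℤ)
    (h : Subsingleton (((extCx (algebraMap R p.ResidueField)).obj F).homology i)) :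
    ∃ f : R, f ∉ p ∧ ∃ s : F.X (i + 1) →ₗ[R] F.X i, ∀ x : F.X i, ∃ (a : F.X (i - 1)) (b : F.X i),
      f • x = F.d (i - 1) i a + s (F.d i (i + 1) b) := by
  have hex := exact_lTensor_of_ext F i h
  haveI := (hF i).1
  haveI := (hF (i + 1)).1
  haveI := (hF (i + 1)).2
  have hdd : ∀ y, F.d i (i + 1) (F.d (i - 1) i y) = 0 := fun y => by
    rw [← ModuleCat.comp_apply, F.d_comp_d]
    rfl
  let B := LinearMap.range (F.d (i - 1) i).hom
  let g : (F.X i ⧸ B) →ₗ[R] F.X (i + 1) :=
    B.liftQ (F.d i (i + 1)).hom (by rintro _ ⟨y, rfl⟩; exact hdd y)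
  have hg : g ∘ₗ B.mkQ = (F.d i (i + 1)).hom := Submodule.liftQ_mkQ _ _ _
  let κ := p.ResidueField
  have hinj : Function.Injective (g.baseChange κ) := by
    show Function.Injective (g.lTensor κ)
    rw [injective_iff_map_eq_zero]
    intro z hz
    obtain ⟨w, rfl⟩ := LinearMap.lTensor_surjective _ (Submodule.mkQ_surjective _) z
    rw [← LinearMap.comp_apply, ← LinearMap.lTensor_comp, hg] at hz
    obtain ⟨v, rfl⟩ := (hex w).1 hz
    rw [← LinearMap.comp_apply, ← LinearMap.lTensor_comp, LinearMap.range_mkQ_comp,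
      LinearMap.lTensor_zero, LinearMap.zero_apply]
  obtain ⟨l, hl⟩ := (g.baseChange κ).exists_leftInverse_of_injective (LinearMap.ker_eq_bot.2 hinj)
  let bG := _root_.Module.Free.chooseBasis R (F.X (i + 1))
  classical
  choose D hD t ht using fun j => exists_smul_eq_one_tmul p (l (1 ⊗ₜ[R] bG j))
  let P := ∏ j, D j
  have hP : P ∉ p := fun hP => by
    obtain ⟨j, -, hj⟩ := (Ideal.IsPrime.prod_mem_iff (p := p) (hp := inferInstance)).1 hP
    exact hD j hj
  let r₀ : F.X (i + 1) →ₗ[R] (F.X i ⧸ B) := bG.constr R fun j => (∏ k ∈ Finset.univ.erase j, D k) • t j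
  have hr : ∀ y : F.X (i + 1), (1 : κ) ⊗ₜ[R] r₀ y = P • l (1 ⊗ₜ[R] y) := by
    have : (TensorProduct.mk R κ _ 1) ∘ₗ r₀ =
        P • ((l.restrictScalars R) ∘ₗ TensorProduct.mk R κ _ 1) := by
      refine bG.ext fun j => ?_
      show (1 : κ) ⊗ₜ[R] r₀ (bG j) = P • l (1 ⊗ₜ[R] bG j)
      rw [show r₀ (bG j) = (∏ k ∈ Finset.univ.erase j, D k) • t j from bG.constr_basis R _ j,
        TensorProduct.tmul_smul, ← ht j, smul_smul,
        Finset.prod_erase_mul _ _ (Finset.mem_univ j)]
    exact fun y => LinearMap.congr_fun this y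
  have hQ : Subsingleton (κ ⊗[R] ((F.X i ⧸ B) ⧸ LinearMap.range (r₀ ∘ₗ g))) := by
    refine subsingleton_of_forall_eq 0 fun z => ?_
    induction z using TensorProduct.induction_on with
    | zero => rfl
    | add x y hx hy => rw [hx, hy, add_zero]
    | tmul c q =>
      obtain ⟨q, rfl⟩ := Submodule.mkQ_surjective _ q
      have h1 : (1 : κ) ⊗ₜ[R] r₀ (g q) = P • ((1 : κ) ⊗ₜ[R] q) :=
        (hr (g q)).trans (congrArg (P • ·) (LinearMap.congr_fun hl ((1 : κ) ⊗ₜ[R] q)))
      have h2 := congrArg ((LinearMap.range (r₀ ∘ₗ g)).mkQ.lTensor κ) h1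
      rw [map_smul, LinearMap.lTensor_tmul, LinearMap.lTensor_tmul,
        show (LinearMap.range (r₀ ∘ₗ g)).mkQ (r₀ (g q)) = 0 from
          (Submodule.Quotient.mk_eq_zero _).2 (LinearMap.mem_range_self (r₀ ∘ₗ g) q),
        TensorProduct.tmul_zero] at h2
      have hP0 : algebraMap R κ P ≠ 0 := fun h0 => hP (Ideal.algebraMap_residueField_eq_zero.1 h0)
      have h3 : ((c * (algebraMap R κ P)⁻¹) • (P • ((1 : κ) ⊗ₜ[R] (LinearMap.range (r₀ ∘ₗ g)).mkQ q))) = 0 := by
        rw [← h2, smul_zero]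
      rw [← h3, ← algebraMap_smul κ P, smul_smul, mul_assoc, inv_mul_cancel₀ hP0, mul_one,
        TensorProduct.smul_tmul', smul_eq_mul, mul_one]
  have hsupp : (⟨p, inferInstance⟩ : PrimeSpectrum R) ∉
      _root_.Module.support R ((F.X i ⧸ B) ⧸ LinearMap.range (r₀ ∘ₗ g)) := by
    rw [_root_.Module.mem_support_iff_nontrivial_residueField_tensorProduct, not_nontrivial_iff_subsingleton]
    exact hQ
  rw [_root_.Module.mem_support_iff_of_finite] at hsupp
  obtain ⟨f, hf, hfp⟩ := SetLike.not_le_iff_exists.1 hsupp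
  obtain ⟨s, hs⟩ := _root_.Module.projective_lifting_property B.mkQ r₀ (Submodule.mkQ_surjective _)
  refine ⟨f, hfp, s, fun x => ?_⟩
  have h0 := _root_.Module.mem_annihilator.1 hf (Submodule.Quotient.mk (B.mkQ x))
  rw [← Submodule.Quotient.mk_smul, Submodule.Quotient.mk_eq_zero] at h0
  obtain ⟨q, hq⟩ := h0
  obtain ⟨b, rfl⟩ := Submodule.mkQ_surjective _ q
  have hmem : f • x - s (F.d i (i + 1) b) ∈ B := by
    rw [← Submodule.Quotient.eq]
    refine hq.symm.trans ?_
    exact (LinearMap.congr_fun hs _).symm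
  obtain ⟨a, ha⟩ := hmem
  exact ⟨a, b, eq_add_of_sub_eq ha.symm⟩

theorem split_of_splitting {S : Type u} [CommRing S] (G : DRing.Cx S) (i : ℤ)
    [_root_.Module.Finite S (G.X i)] (s : G.X (i + 1) →ₗ[S] G.X i)
    (hs : ∀ y : G.X i, ∃ (a : G.X (i - 1)) (b : G.X i), y = G.d (i - 1) i a + s (G.d i (i + 1) b)) :
    Subsingleton (G.homology i) ∧
      ∃ g : G.X (i + 1) →ₗ[S] ↥(LinearMap.range (G.d i (i + 1)).hom),
        g ∘ₗ (G.d i (i + 1)).hom = (G.d i (i + 1)).hom.rangeRestrict := by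
  let B := LinearMap.range (G.d (i - 1) i).hom
  have hdd : ∀ y, G.d i (i + 1) (G.d (i - 1) i y) = 0 := fun y => by
    rw [← ModuleCat.comp_apply, G.d_comp_d]
    rfl
  let dbar : (G.X i ⧸ B) →ₗ[S] ↥(LinearMap.range (G.d i (i + 1)).hom) :=
    B.liftQ (G.d i (i + 1)).hom.rangeRestrict (by rintro _ ⟨y, rfl⟩; exact Subtype.ext (hdd y))
  let u : (G.X i ⧸ B) →ₗ[S] (G.X i ⧸ B) :=
    B.mkQ ∘ₗ s ∘ₗ (LinearMap.range (G.d i (i + 1)).hom).subtype ∘ₗ dbar
  have hu : Function.Surjective u := fun q => by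
    obtain ⟨y, rfl⟩ := Submodule.mkQ_surjective _ q
    obtain ⟨a, b, rfl⟩ := hs y
    refine ⟨B.mkQ b, ?_⟩
    rw [map_add, show B.mkQ (G.d (i - 1) i a) = 0 from
      (Submodule.Quotient.mk_eq_zero _).2 ⟨a, rfl⟩, zero_add]
    rfl
  let e := LinearEquiv.ofBijective u ⟨OrzechProperty.injective_of_surjective_endomorphism u hu, hu⟩
  let ρ : G.X (i + 1) →ₗ[S] (G.X i ⧸ B) := e.symm.toLinearMap ∘ₗ B.mkQ ∘ₗ s
  have hρ : ∀ y, ρ (G.d i (i + 1) y) = B.mkQ y := fun y => e.symm_apply_eq.2 rfl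
  refine ⟨?_, dbar ∘ₗ ρ, LinearMap.ext fun y => ?_⟩
  · rw [DMod.subsingleton_homology_iff G (i := i - 1) (k := i + 1) (by simp) (by simp)]
    intro x hx
    have := hρ x
    rw [hx, map_zero] at this
    exact LinearMap.mem_range.1 ((Submodule.Quotient.mk_eq_zero B).1 this.symm)
  · show dbar (ρ (G.d i (i + 1) y)) = _
    rw [hρ]
    rfl

/-- Base change of a linear map between terms. -/
noncomputable def extLin {S : Type u} [CommRing S] (φ : R →+* S) {F : DRing.Cx R} {i j : ℤ}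
    (s : F.X i →ₗ[R] F.X j) : ((extCx φ).obj F).X i →ₗ[S] ((extCx φ).obj F).X j :=
  ((ModuleCat.extendScalars.{u, u, u} φ).map (ModuleCat.ofHom s : F.X i ⟶ F.X j)).hom

theorem splitting_ext {S : Type u} [CommRing S] (φ : R →+* S) (F : DRing.Cx R) (i : ℤ) {f : R}
    (hf : IsUnit (φ f)) (s : F.X (i + 1) →ₗ[R] F.X i)
    (hs : ∀ x : F.X i, ∃ (a : F.X (i - 1)) (b : F.X i), f • x = F.d (i - 1) i a + s (F.d i (i + 1) b))
    (y : ((extCx φ).obj F).X i) :
    ∃ (a : ((extCx φ).obj F).X (i - 1)) (b : ((extCx φ).obj F).X i),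
      y = ((extCx φ).obj F).d (i - 1) i a +
        extLin φ s (((extCx φ).obj F).d i (i + 1) b) := by
  letI := φ.toAlgebra
  have key : ∀ (c : S) (x : F.X i), ∃ (a : ((extCx φ).obj F).X (i - 1)) (b : ((extCx φ).obj F).X i),
      ((c ⊗ₜ[R] x : S ⊗[R] F.X i) : ((extCx φ).obj F).X i) = ((extCx φ).obj F).d (i - 1) i a +
        extLin φ s (((extCx φ).obj F).d i (i + 1) b) := fun c x => by
    obtain ⟨a, b, h⟩ := hs x
    obtain ⟨w, hw⟩ := hf.exists_right_inv
    refine ⟨((c * w) ⊗ₜ[R] a : S ⊗[R] F.X (i - 1)), ((c * w) ⊗ₜ[R] b : S ⊗[R] F.X i), ?_⟩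
    show (c ⊗ₜ[R] x : S ⊗[R] F.X i) = (c * w) ⊗ₜ[R] F.d (i - 1) i a + (c * w) ⊗ₜ[R] s (F.d i (i + 1) b)
    rw [← TensorProduct.tmul_add, ← h, TensorProduct.tmul_smul, TensorProduct.smul_tmul', Algebra.smul_def,
      show algebraMap R S f * (c * w) = c by
        show φ f * (c * w) = c
        rw [mul_left_comm, hw, mul_one]]
  induction y using TensorProduct.induction_on with
  | zero => exact ⟨0, 0, by simp only [map_zero, add_zero]⟩
  | tmul c x => exact key c x
  | add x y hx hy =>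
    obtain ⟨a, b, h⟩ := hx
    obtain ⟨a', b', h'⟩ := hy
    refine ⟨a + a', b + b', ?_⟩
    rw [map_add, map_add, map_add]
    exact (congrArg₂ (· + ·) h h').trans (add_add_add_comm _ _ _ _)

theorem exists_away_split (K : DRing.Cx R) [DRing.HasLBaseChange (algebraMap R p.ResidueField)] (i : ℤ)
    (hK : DRing.IsPseudoCoherent' R (DRing.toD K))
    (hi : Subsingleton (Dual.HD p.ResidueField ((DRing.LBaseChange (algebraMap R p.ResidueField)).obj (DRing.toD K)) i)) :
    ∃ f : R, f ∉ p ∧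
      let Kf := DRing.toD ((extCx (algebraMap R (Localization.Away f))).obj K)
      let t := DMod.tS (Localization.Away f)
      DRing.IsPerfect (Localization.Away f) ((t.truncGE (i + 1)).obj Kf) ∧
        (∃ b : ℤ, DRing.HasTorAmplitudeIn (Localization.Away f) (i + 1) b ((t.truncGE (i + 1)).obj Kf)) ∧
        ∀ [HasBinaryBiproduct ((t.truncGE (i + 1)).obj Kf) ((t.truncLT i).obj Kf)],
          ∃ e : Kf ≅ (t.truncGE (i + 1)).obj Kf ⊞ (t.truncLT i).obj Kf,
          e.hom ≫ biprod.fst = (t.truncGEπ (i + 1)).app Kf ∧ (t.truncLTι i).app Kf ≫ e.hom = biprod.inr := by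
  obtain ⟨F, B, hB, hF, ⟨e⟩⟩ := id hK
  haveI := (DMod.vanishesAbove_iff F B).1 hB
  have hflat : ∀ j, _root_.Module.Flat R (F.X j) := fun j => have := (hF j).2; inferInstance
  haveI := DMod.isKProjective B fun j => (have := (hF j).2; inferInstance : _root_.Module.Projective R (F.X j))
  obtain ⟨q, hq⟩ := DMod.exists_map_eq e.hom
  haveI : QuasiIso q := by
    rw [← DerivedCategory.isIso_Q_map_iff_quasiIso, hq]; infer_instance
  have hfib : Subsingleton (((extCx (algebraMap R p.ResidueField)).obj F).homology i) :=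
    (DMod.subsingleton_HD_toD_iff _ i).1
      (((DMod.HH i).mapIso ((DRing.LBaseChange (algebraMap R p.ResidueField)).mapIso e.symm ≪≫
        valueIso _ F (adapted_of_flat F B hflat))).toLinearEquiv.toEquiv.subsingleton_congr.1 hi)
  obtain ⟨f, hfp, s, hs⟩ := exists_away_splitting p F hF i hfib
  refine ⟨f, hfp, ?_⟩
  let S := Localization.Away f
  let φ := algebraMap R S
  let G := (extCx φ).obj F
  haveI := quasiIso_ext_of_flat (RingHom.flat_algebraMap_iff.2 (IsLocalization.flat S (Submonoid.powers f)) : φ.Flat) q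
  let eK : DRing.toD G ≅ DRing.toD ((extCx φ).obj K) := asIso (DerivedCategory.Q.map ((extCx φ).map q))
  let Kf := DRing.toD ((extCx φ).obj K)
  let B' := max B (i + 1)
  haveI : G.IsStrictlyLE B' := (CochainComplex.isStrictlyLE_iff _ _).2 fun j hj =>
    Functor.map_isZero (ModuleCat.extendScalars.{u, u, u} φ) (F.isZero_of_isStrictlyLE B j (by omega))
  have hGff := termwiseFiniteFree_ext φ hF
  haveI := (hGff i).1
  obtain ⟨hz, g, hg⟩ := split_of_splitting G i _
    (splitting_ext φ F i (IsLocalization.Away.algebraMap_isUnit f) s hs)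
  obtain ⟨Q, hQ, hQp, ⟨eQ⟩⟩ := DMod.truncGE_projAmp eK i B'
    (fun j => (have := (hGff j).2; inferInstance : _root_.Module.Projective S (G.X j))) g hg
  let t := DMod.tS S
  have hamp : DRing.HasTorAmplitudeIn S (i + 1) B' ((t.truncGE (i + 1)).obj Kf) :=
    ⟨Q, hQ, fun j => have := hQp j; inferInstance, ⟨eQ⟩⟩
  have hH : Subsingleton (Dual.HD S Kf i) :=
    ((DMod.HH i).mapIso eK).toLinearEquiv.toEquiv.subsingleton_congr.1 ((DMod.subsingleton_HD_toD_iff G i).2 hz)
  haveI := DMod.isIso_natTrans_truncLT (K := Kf) i hH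
  let n := asIso ((t.natTransTruncLTOfLE i (i + 1) (Int.le_add_one le_rfl)).app Kf)
  have hι : n.hom ≫ (t.truncLTι (i + 1)).app Kf = (t.truncLTι i).app Kf :=
    t.natTransTruncLTOfLE_ι_app i (i + 1) (Int.le_add_one le_rfl) Kf
  have hT := isomorphic_distinguished _ (t.triangleLTGE_distinguished (i + 1) Kf)
    (Triangle.mk ((t.truncLTι i).app Kf) ((t.truncGEπ (i + 1)).app Kf)
      ((t.truncGEδLT (i + 1)).app Kf ≫ (shiftFunctor (Dual.D S) (1 : ℤ)).map n.inv))
    (Triangle.isoMk _ _ n (Iso.refl _) (Iso.refl _)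
      ((Category.comp_id _).trans hι.symm)
      ((Category.comp_id _).trans (Category.id_comp _).symm)
      (by
        show ((t.truncGEδLT (i + 1)).app Kf ≫ _) ≫ (shiftFunctor (Dual.D S) (1 : ℤ)).map n.hom =
          𝟙 _ ≫ (t.truncGEδLT (i + 1)).app Kf
        rw [Category.assoc, ← Functor.map_comp, n.inv_hom_id, CategoryTheory.Functor.map_id]
        exact (Category.comp_id _).trans (Category.id_comp _).symm))
  obtain ⟨e', he₁, he₂⟩ := DMod.exists_split hT i B'
    (t.isLE_truncLT_obj Kf i i (by omega)) ⟨Q, hQ, hQp, ⟨eQ⟩⟩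
  have hpc : DRing.IsPseudoCoherent' S ((t.truncGE (i + 1)).obj Kf) :=
    (DMod.pc'_iff _).2 fun m => DMod.pc_right_of_biprod
      (DMod.pc_of_iso (eK ≪≫ e') (DMod.pc_sigma (fun j hj => Functor.map_isZero
        (ModuleCat.extendScalars.{u, u, u} φ) (F.isZero_of_isStrictlyLE B j hj)) hGff m))
  refine ⟨isPerfect_of_pc_of_torAmp hpc hamp, ⟨B', hamp⟩, fun {_} => ⟨e' ≪≫ biprod.braiding _ _, ?_, ?_⟩⟩
  · rw [Iso.trans_hom, Category.assoc]
    exact (congrArg (e'.hom ≫ ·) (biprod.lift_fst _ _)).trans he₂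
  · rw [Iso.trans_hom, ← Category.assoc]
    refine (congrArg (· ≫ _) he₁).trans ?_
    refine biprod.hom_ext _ _ ?_ ?_
    · exact ((Category.assoc _ _ _).trans ((congrArg (biprod.inl ≫ ·) (biprod.lift_fst _ _)).trans
        biprod.inl_snd)).trans biprod.inr_fst.symm
    · exact ((Category.assoc _ _ _).trans ((congrArg (biprod.inl ≫ ·) (biprod.lift_snd _ _)).trans
        biprod.inl_fst)).trans biprod.inr_snd.symm

end Groth.Agent.DBaseChange
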