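import Groth.Agent.Lib.DBaseChange.ResCriterion
import Groth.Agent.Lib.DMod.Amplitude
import Groth.Agent.Lib.DMod.ResClass
import Groth.Agent.Lib.KFlat.TwoOfThree

/-! Tor amplitude in `[a, ∞)`. -/

set_option autoImplicit false
set_option linter.style.haveILetI false
set_option backward.isDefEq.respectTransparency false

universe u

open CategoryTheory CategoryTheory.Limits MonoidalCategory

attribute [local instance] HasDerivedCategory.standard

namespace Groth.Agent.DBaseChange

open KFlat KFlat.Module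

variable {R : Type u} [CommRing R]

theorem subsingleton_hd_lTensorCx_single_iff (K : DRing.Cx R) [DRing.HasLTensorCx R K]
    (M : ModuleCat.{u} R) (i : ℤ) :
    Subsingleton (Dual.HD R ((DRing.LTensorCx R K).obj
      (DRing.toD ((CochainComplex.singleFunctor (ModuleCat.{u} R) 0).obj M))) i) ↔
      ((qT M).obj K).ExactAt i := by
  obtain ⟨hQ, hq⟩ := (exists_qres M).choose_spec.choose_spec
  haveI : IsIso (DerivedCategory.Q.map (exists_qres M).choose_spec.choose) :=
    (DerivedCategory.isIso_Q_map_iff_quasiIso (ModuleCat.{u} R) _).2 hq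
  obtain ⟨t⟩ := nonempty_lTensorCx_iso K hQ
  let e := (DMod.HH i).mapIso
    ((DRing.LTensorCx R K).mapIso (asIso (DerivedCategory.Q.map (exists_qres M).choose_spec.choose)).symm ≪≫ t)
  refine (e.toLinearEquiv.toEquiv.subsingleton_congr).trans ?_
  exact (DMod.subsingleton_HD_toD_iff _ i).trans (DMod.exactAt_iff_subsingleton _ i).symm

theorem exists_flat_ge (a : ℤ) (K : DRing.Cx R)
    (h : ∀ (M : ModuleCat.{u} R) (i : ℤ), i < a → ((qT M).obj K).ExactAt i) :
    ∃ E : DRing.Cx R, DRing.IsKFlat R E ∧ DRing.TermwiseFlat E ∧ (∀ i : ℤ, i < a → IsZero (E.X i)) ∧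
      Nonempty (DRing.toD E ≅ DRing.toD K) := by
  obtain ⟨P, g, hk, -, hPX, hg, -⟩ := exists_resolution (T := TM R) cover isFlat_cover K
  have hk' := (isKFlat_iff P).1 hk
  have hflat : ∀ i, _root_.Module.Flat R (P.X i) := fun i => (isFlat_iff _).1 (hPX i)
  have hex : ∀ (M : ModuleCat.{u} R) (i : ℤ), i < a → ((tm M).obj P).ExactAt i :=
    fun M i hi => (exactAt_qT_iff M g hk' i).1 (h M i hi)
  haveI : (DRing.toD P).IsGE a := (DMod.isGE_iff _ a).2 fun i hi => by
    rw [DMod.subsingleton_HD_toD_iff, ← DMod.exactAt_iff_subsingleton,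
      ← exactAt_iff_of_quasiIsoAt (tmSelfIso P).hom i]
    exact hex _ i hi
  obtain ⟨c, rfl⟩ : ∃ c, c + 1 = a := ⟨a - 1, by omega⟩
  have hcok : _root_.Module.Flat R (P.X (c + 1) ⧸ LinearMap.range (P.d (c + 1 - 1) (c + 1)).hom) := by
    have hh : ∀ j, j = c → _root_.Module.Flat R (P.X (c + 1) ⧸ LinearMap.range (P.d j (c + 1)).hom) := by
      intro j hj
      subst hj
      exact flat_coker P j (hflat _) fun M => (DMod.exactAt_iff_subsingleton _ j).1 (hex M j (by omega))
    exact hh _ (by omega)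
  let E := DMod.truncFrom P (c + 1)
  let N := DMod.subCx P (DMod.ltSub P (c + 1)) (DMod.ltSub_stable P (c + 1))
  have hEf : DRing.TermwiseFlat E :=
    DMod.truncFrom_mem DMod.modClass_flat P (c + 1) (fun i _ => hflat i)
      (_root_.Module.Flat.of_linearEquiv (DMod.truncFromBotEquiv P (c + 1)).symm)
  let S : ShortComplex (DRing.Cx R) :=
    ShortComplex.mk (DMod.subι P (DMod.ltSub P (c + 1)) (DMod.ltSub_stable P (c + 1)))
      (DMod.truncFromπ P (c + 1)) (by
        ext i x
        exact (Submodule.Quotient.mk_eq_zero (DMod.ltSub P (c + 1) i)).2 x.2)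
  have hS : S.ShortExact := HomologicalComplex.shortExact_of_degreewise_shortExact S fun i =>
    ModuleCat.shortComplex_shortExact _ (LinearMap.exact_subtype_mkQ (DMod.ltSub P (c + 1) i))
      (Submodule.injective_subtype _) (Submodule.mkQ_surjective _)
  haveI : N.IsStrictlyLE (c + 1) := by
    rw [CochainComplex.isStrictlyLE_iff]
    intro i hi
    refine (DMod.isZero_iff_subsingleton _).2 ?_
    show Subsingleton ↥(DMod.ltSub P (c + 1) i)
    rw [DMod.ltSub_of_gt P hi]
    infer_instance
  have hNf : ∀ i, _root_.Module.Flat R (N.X i) := by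
    intro i
    show _root_.Module.Flat R ↥(DMod.ltSub P (c + 1) i)
    rcases lt_trichotomy i (c + 1) with hi | hi | hi
    · haveI := hflat i
      exact _root_.Module.Flat.of_linearEquiv (LinearEquiv.ofTop _ (DMod.ltSub_of_lt P hi))
    · subst hi
      rw [DMod.ltSub_self]
      exact DMod.flat_left_of_exact (Submodule.injective_subtype _) (LinearMap.exact_subtype_mkQ _)
        (Submodule.mkQ_surjective _) (hflat _) hcok
    · rw [DMod.ltSub_of_gt P hi]
      infer_instance
  have hE : IsKFlat (TM R) E :=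
    (isKFlat_two_out_of_three Module.enough hS fun n => (isFlat_iff _).2 (hEf n)).1
      ((isKFlat_iff N).2 (isKFlat_of_boundedAbove N (c + 1) hNf)) hk
  obtain ⟨e⟩ := DMod.exists_truncFrom_iso P (c + 1)
  haveI : IsIso (DerivedCategory.Q.map g) := (DerivedCategory.isIso_Q_map_iff_quasiIso (ModuleCat.{u} R) g).2 hg
  exact ⟨E, (isKFlat_iff E).1 hE, hEf, fun i hi => DMod.isZero_truncFrom_X P hi,
    ⟨e ≪≫ asIso (DerivedCategory.Q.map g)⟩⟩

theorem exactAt_of_flat_ge (a : ℤ) {K E : DRing.Cx R} (hE : DRing.IsKFlat R E)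
    (hz : ∀ i : ℤ, i < a → IsZero (E.X i)) (e : DRing.toD E ≅ DRing.toD K) [DRing.HasLTensorCx R K]
    (M : ModuleCat.{u} R) (i : ℤ) (hi : i < a) : ((qT M).obj K).ExactAt i := by
  have hz' : ((tm M).obj E).ExactAt i :=
    HomologicalComplex.ExactAt.of_isZero (Functor.map_isZero (tensorRight M) (hz i hi))
  have h1 : ((qT M).obj E).ExactAt i := (exactAt_qT_iff M (𝟙 E) hE i).2 hz'
  have hinv : (HomologicalComplex.quasiIso (ModuleCat.{u} R) (ComplexShape.up ℤ)).IsInvertedBy
      (qT M ⋙ DerivedCategory.Q) := fun X Y f hf => by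
    haveI : QuasiIso f := hf
    haveI : QuasiIso (qres M ◁ f) :=
      DT.quasiIso_whiskerLeft f (exists_qres M).choose_spec.choose_spec.1
    exact (DerivedCategory.isIso_Q_map_iff_quasiIso (ModuleCat.{u} R) (qres M ◁ f)).2 inferInstance
  let eF : DRing.toD ((qT M).obj E) ≅ DRing.toD ((qT M).obj K) :=
    ((Localization.fac _ hinv DerivedCategory.Q).app E).symm ≪≫
      (Localization.lift _ hinv DerivedCategory.Q).mapIso e ≪≫
      (Localization.fac _ hinv DerivedCategory.Q).app K
  rw [DMod.exactAt_iff_subsingleton, ← DMod.subsingleton_HD_toD_iff] at h1 ⊢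
  exact ((DMod.HH i).mapIso eF).toLinearEquiv.symm.toEquiv.subsingleton

end Groth.Agent.DBaseChange
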